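import Cfsg.Agent.KFacts.ON.Words_m3
import Cfsg.Agent.Lib.ListFast
import Cfsg.Agent.OddOrderCharacters.Wielandt
import Cfsg.Agent.S1545
import Cfsg.Agent.H546.MElevenB_m3
import Cfsg.Agent.SigZeroCo2.Lin
import Cfsg.Agent.KFacts.Co1D4.Base
import Cfsg.Agent.CoOneType.ClosingCo1
import Cfsg.Agent.H935.RuM.Mon
import Cfsg.Agent.H850.MonSub
import Cfsg.Agent.KFacts.J3
import Cfsg.Agent.H821.Frame
import Cfsg.Agent.CoOneType.CoOneE
import Cfsg.Agent.CoOneType.InvMain
import Cfsg.Agent.SevenLow.MTwelve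
import Cfsg.Agent.Schreier.MEleven
import Cfsg.Agent.H329.Sec.BLev
import Cfsg.Agent.H819.TwoACent
import Cfsg.Agent.H713.Spor.MOf
import Cfsg.Agent.S3292
import Cfsg.Agent.H935.ThreeC.Main
import Cfsg.Agent.H935.RuM.Elts
import Cfsg.Agent.RuLat.Main
import Cfsg.Agent.S1625
import Cfsg.Agent.S1699
import Cfsg.Agent.S1702
import Cfsg.Agent.S1703
import Cfsg.Agent.S2041
import Cfsg.Agent.S2051
import Cfsg.Agent.S2052
import Cfsg.Agent.CpAutMSeven.SixRow_m3
import Cfsg.Agent.H58.HeOdd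
import Cfsg.Agent.S1695
import Cfsg.Agent.H819.ParLift
import Cfsg.Agent.SporadicA.LeechMin
import Cfsg.Agent.MonsterU.InvTwoLat
import Cfsg.Agent.FastGrp
import Cfsg.Agent.Prune
set_option linter.all false

section
prune_inst 0x7ffceefaaff8b9dfffff7e7ffef9dffc39919fffefdff943ffe863ff0b9f03270be5fbaf8de410fe9ef6e23410b87853f97eeeffe26bdc7ffffd5ff41ffbee0ff7ffb50851dc98b40ffc2fff93f17fae7f3fffffffffffffffffffffffffffffffffffffffff

-- part: H847/ON/Tup
section
set_option linter.all false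
open scoped Cfsg.Agent.FastGrp

/-!
# Elements of the presented O'Nan group (helper847, for S2198)

`Tup`: `h` of order 7, `E = ⟨x, y⟩` of order 9 in the centralizer of the involution `τ`, `x h x⁻¹ = h²`, the four subgroups of
order 3 of `E` are conjugate in `C(τ)`; `h` is the commutator of `p, q ∈ C(h)`; `c d` of order 8, `c` and `d` conjugate to `τ`.
-/

set_option autoImplicit false
set_option maxRecDepth 100000

namespace Cfsg.Agent.H847.ON

open Cfsg.Spor (ON)
open Cfsg.Spor.ON (Gen)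
open Cfsg.Agent.SporadicB.ON45Word (on)
open Cfsg.Agent.KFacts.MulSpor.ON (w w_append w_one w_cons w_iw iw eqw cj)
open Cfsg.Agent.KFacts.ON

structure Tup {G : Type*} [Group G] (τ h x y p q k₁ k₂ k₃ c d u v : G) : Prop where
  tt : τ * τ = 1
  ht : h * τ = τ * h
  xt : x * τ = τ * x
  yt : y * τ = τ * y
  k1t : k₁ * τ = τ * k₁
  k2t : k₂ * τ = τ * k₂
  k3t : k₃ * τ = τ * k₃
  h7 : h ^ 7 = 1
  x3 : x ^ 3 = 1
  y3 : y ^ 3 = 1
  xh : x * h * x⁻¹ = h ^ 2
  xy : x * y = y * x
  kx1 : k₁ * x * k₁⁻¹ = y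
  kx2 : k₂ * x * k₂⁻¹ = x * y
  kx3 : k₃ * x * k₃⁻¹ = x * y⁻¹
  ph : p * h = h * p
  qh : q * h = h * q
  pq : p * q = h * (q * p)
  ut : u * c * u⁻¹ = τ
  vt : v * d * v⁻¹ = τ
  cd : (c * d) ^ 8 = 1

theorem Tup.map {G H : Type*} [Group G] [Group H] (φ : G →* H) {τ h x y p q k₁ k₂ k₃ c d u v : G}
    (t : Tup τ h x y p q k₁ k₂ k₃ c d u v) :
    Tup (φ τ) (φ h) (φ x) (φ y) (φ p) (φ q) (φ k₁) (φ k₂) (φ k₃) (φ c) (φ d) (φ u) (φ v) where
  tt := by rw [← map_mul, t.tt, map_one]
  ht := by rw [← map_mul, t.ht, map_mul]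
  xt := by rw [← map_mul, t.xt, map_mul]
  yt := by rw [← map_mul, t.yt, map_mul]
  k1t := by rw [← map_mul, t.k1t, map_mul]
  k2t := by rw [← map_mul, t.k2t, map_mul]
  k3t := by rw [← map_mul, t.k3t, map_mul]
  h7 := by rw [← map_pow, t.h7, map_one]
  x3 := by rw [← map_pow, t.x3, map_one]
  y3 := by rw [← map_pow, t.y3, map_one]
  xh := by rw [← map_mul, ← map_inv, ← map_mul, t.xh, map_pow]
  xy := by rw [← map_mul, t.xy, map_mul]
  kx1 := by rw [← map_mul, ← map_inv, ← map_mul, t.kx1]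
  kx2 := by rw [← map_mul, ← map_inv, ← map_mul, t.kx2, map_mul]
  kx3 := by rw [← map_mul, ← map_inv, ← map_mul, t.kx3, map_mul, map_inv]
  ph := by rw [← map_mul, t.ph, map_mul]
  qh := by rw [← map_mul, t.qh, map_mul]
  pq := by rw [← map_mul, t.pq, map_mul, map_mul]
  ut := by rw [← map_mul, ← map_inv, ← map_mul, t.ut]
  vt := by rw [← map_mul, ← map_inv, ← map_mul, t.vt]
  cd := by rw [← map_mul, ← map_pow, t.cd, map_one]

def lh : List Gen := [.a, .g, .b, .g, .b, .c, .b, .d, .c, .d, .c, .g, .b, .g]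
def lx : List Gen := [.a, .b]
def ly : List Gen := [.a, .g, .b, .g, .g, .g]
def lp : List Gen := [.e, .d, .c, .g, .e, .d, .g, .g, .g, .e, .c, .d, .c, .d, .e, .a, .b, .a, .c, .b, .a, .d, .e, .d, .c, .b, .d, .e, .d, .c, .d, .c, .e, .g, .d, .e, .g, .g, .g, .c, .d, .e]
def lq : List Gen := [.e, .d, .c, .g, .e, .d, .g, .g, .g, .e, .c, .d, .c, .d, .e, .a, .f, .e, .d, .c, .b, .d, .c, .b, .e, .c, .e, .g, .d, .e, .g, .g, .g, .c, .d, .e]

theorem mm (l m : List Gen) (h : Cfsg.Agent.KFacts.MulSpor.ON.okw (l ++ iw m) = true) : w l = w m := Words.eq l m h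

theorem xx (l m l' m' : List Gen) (h : Cfsg.Agent.KFacts.MulSpor.ON.okw ((l ++ m) ++ iw (l' ++ m')) = true) :
    w l * w m = w l' * w m' := by
  rw [← w_append, ← w_append]
  exact mm _ _ h

theorem cc (k l m : List Gen) (h : Cfsg.Agent.KFacts.MulSpor.ON.okw ((k ++ l) ++ iw (m ++ k)) = true) :
    w k * w l * (w k)⁻¹ = w m := by
  rw [mul_inv_eq_iff_eq_mul]
  exact xx _ _ _ _ h

theorem pw (l : List Gen) (n : ℕ) : w l ^ n = w (List.flatten (List.replicate n l)) := by
  induction n with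
  | zero => simp [w]
  | succ n ih => rw [pow_succ', ih, ← w_append, List.replicate_succ, List.flatten_cons]

theorem isConj_f (x : ON) (hx : x * x = 1) (hx1 : x ≠ 1) : ∃ u : ON, u * x * u⁻¹ = on .f :=
  isConj_iff.1 (OneClass.one_class hx hx1)

theorem ne1 (l : List Gen) (h : Cfsg.Agent.ONType.TupRow.rowNe (l.map fun x => Cfsg.Agent.SporadicB.ON45Rels.gens
    (Cfsg.Agent.SporadicB.ON45Word.gi x)) [] = true) : w l ≠ 1 :=
  Cfsg.Agent.ONType.TupRow.ne_of_rowNe (Cfsg.Agent.SporadicB.ON45Word.LW.word l)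
    Cfsg.Agent.SporadicB.ON45Word.LW.one h

theorem f_ne : on .f ≠ 1 := by
  rw [← w_one]
  exact ne1 _ (by decide +kernel)

theorem h_ne : w lh ≠ 1 := ne1 _ (by decide +kernel)

theorem c_ne : on .c ≠ 1 := by
  rw [← w_one]
  exact ne1 _ (by decide +kernel)

theorem d_ne : on .d ≠ 1 := by
  rw [← w_one]
  exact ne1 _ (by decide +kernel)

theorem cd4_ne : (on .c * on .d) ^ 4 ≠ 1 := by
  have h : (on .c * on .d) ^ 4 = w [.c, .d, .c, .d, .c, .d, .c, .d] := by
    rw [← w_one, ← w_one, ← w_append, pw]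
    rfl
  rw [h]
  exact ne1 _ (by decide +kernel)

theorem cd8 : (on .c * on .d) ^ 8 = 1 := by
  have h : (on .c * on .d) ^ 8 = w [.c, .d, .c, .d, .c, .d, .c, .d, .c, .d, .c, .d, .c, .d, .c, .d] := by
    rw [← w_one, ← w_one, ← w_append, pw]
    rfl
  rw [h]
  exact mm _ [] (by decide +kernel)

theorem cc1 : on .c * on .c = 1 := by
  rw [← w_one, ← w_append]
  exact mm _ [] (by decide +kernel)

theorem dd1 : on .d * on .d = 1 := by
  rw [← w_one, ← w_append]
  exact mm _ [] (by decide +kernel)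

private noncomputable def _root_.Cfsg.Agent.LsF.f4dd3de_0 : {f // @Cfsg.Agent.Lib.PackMat.rep = f} := ⟨_, by first | (delta Cfsg.Agent.Lib.PackMat.rep; rewrite [Cfsg.Agent.LsF.nmul_pat, Cfsg.Agent.LsF.nsub_pat, Cfsg.Agent.LsF.ndiv_pat, Cfsg.Agent.LsF.npow_pat]; exact rfl) | exact rfl⟩
private noncomputable def _root_.Cfsg.Agent.LsF.f4dd3de_1 : {f // @Cfsg.Agent.Lib.PackMat.gmask = f} := ⟨_, by first | (delta Cfsg.Agent.Lib.PackMat.gmask; rewrite [Cfsg.Agent.LsF.f4dd3de_0.2, Cfsg.Agent.LsF.nmul_pat, Cfsg.Agent.LsF.nsub_pat, Cfsg.Agent.LsF.npow_pat]; exact rfl) | exact rfl⟩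
private noncomputable def _root_.Cfsg.Agent.LsF.f4dd3de_2 : {f // @Cfsg.Agent.Lib.PackMat.GMc = f} := ⟨_, by first | (delta Cfsg.Agent.Lib.PackMat.GMc; rewrite [Cfsg.Agent.LsF.f4dd3de_1.2]; exact rfl) | exact rfl⟩
private noncomputable def _root_.Cfsg.Agent.LsF.f4dd3de_3 : {f // @Cfsg.Agent.Lib.PackMat.FMc = f} := ⟨_, by first | (delta Cfsg.Agent.Lib.PackMat.FMc; rewrite [Cfsg.Agent.LsF.nadd_pat, Cfsg.Agent.LsF.nmul_pat, Cfsg.Agent.LsF.nsub_pat, Cfsg.Agent.LsF.npow_pat]; exact rfl) | exact rfl⟩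
private noncomputable def _root_.Cfsg.Agent.LsF.f4dd3de_4 : {f // @Cfsg.Agent.Lib.PackMat.LOc = f} := ⟨_, by first | (delta Cfsg.Agent.Lib.PackMat.LOc; rewrite [Cfsg.Agent.LsF.f4dd3de_0.2, Cfsg.Agent.LsF.nmul_pat, Cfsg.Agent.LsF.nsub_pat, Cfsg.Agent.LsF.npow_pat]; exact rfl) | exact rfl⟩
private noncomputable def _root_.Cfsg.Agent.LsF.f4dd3de_5 : {f // @Cfsg.Agent.Lib.PackMat.HIc = f} := ⟨_, by first | (delta Cfsg.Agent.Lib.PackMat.HIc; rewrite [Cfsg.Agent.LsF.f4dd3de_0.2, Cfsg.Agent.LsF.nmul_pat, Cfsg.Agent.LsF.nsub_pat, Cfsg.Agent.LsF.npow_pat]; exact rfl) | exact rfl⟩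
private noncomputable def _root_.Cfsg.Agent.LsF.f4dd3de_6 : {f // @Cfsg.Agent.Lib.PackMat.HTc = f} := ⟨_, by first | (delta Cfsg.Agent.Lib.PackMat.HTc; rewrite [Cfsg.Agent.LsF.f4dd3de_0.2, Cfsg.Agent.LsF.nmul_pat, Cfsg.Agent.LsF.nsub_pat, Cfsg.Agent.LsF.npow_pat]; exact rfl) | exact rfl⟩
private noncomputable def _root_.Cfsg.Agent.LsF.f4dd3de_7 : {f // @Cfsg.Agent.Lib.PackMat.withC = f} := ⟨_, by first | (delta Cfsg.Agent.Lib.PackMat.withC; rewrite [Cfsg.Agent.LsF.f4dd3de_2.2, Cfsg.Agent.LsF.f4dd3de_3.2, Cfsg.Agent.LsF.f4dd3de_4.2, Cfsg.Agent.LsF.f4dd3de_5.2, Cfsg.Agent.LsF.f4dd3de_6.2]; exact rfl) | exact rfl⟩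
private noncomputable def _root_.Cfsg.Agent.LsF.f4dd3de_8 : {f // @Cfsg.Agent.Lib.PackMat.unitRow = f} := ⟨_, by first | (delta Cfsg.Agent.Lib.PackMat.unitRow; rewrite [Cfsg.Agent.LsF.nmul_pat, Cfsg.Agent.LsF.nsub_pat, Cfsg.Agent.LsF.npow_pat]; exact rfl) | exact rfl⟩
private noncomputable def _root_.Cfsg.Agent.LsF.f4dd3de_9 : {f // @Cfsg.Agent.Lib.PackMat.foldK = f} := ⟨_, by first | (delta Cfsg.Agent.Lib.PackMat.foldK Nat.brecOn.go Nat.brecOn Cfsg.Agent.Lib.PackMat.foldK._f; (try delta Cfsg.Agent.Lib.PackMat.foldBoundIter.match_1); (try delta Nat.casesOn); first | dsimp -zeta only | exact rfl) | exact rfl⟩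
private noncomputable def _root_.Cfsg.Agent.LsF.f4dd3de_10 : {f // @Cfsg.Agent.Lib.PackMat.stepK = f} := ⟨_, by first | (delta Cfsg.Agent.Lib.PackMat.stepK; rewrite [Cfsg.Agent.LsF.f4dd3de_9.2]; exact rfl) | exact rfl⟩
private noncomputable def _root_.Cfsg.Agent.LsF.f4dd3de_11 : {f // @Cfsg.Agent.Lib.PackMat.runK = f} := ⟨_, by first | (delta Cfsg.Agent.Lib.PackMat.runK List.brecOn List.brecOn.go Cfsg.Agent.Lib.PackMat.runK._f; rewrite [Cfsg.Agent.LsF.f4dd3de_10.2]; (try delta Cfsg.Agent.Lib.PackMat.runK.match_1); (try delta List.casesOn); first | dsimp -zeta only | exact rfl) | exact rfl⟩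
private noncomputable def _root_.Cfsg.Agent.LsF.f4dd3de_12 : {f // @Cfsg.Agent.Lib.PackMat.checkScalarK = f} := ⟨_, by first | (delta Cfsg.Agent.Lib.PackMat.checkScalarK Cfsg.Agent.Lib.PackMat.checkScalarK._f Nat.brecOn.go Nat.brecOn; rewrite [Cfsg.Agent.LsF.f4dd3de_11.2, Cfsg.Agent.LsF.cond_eq]; (try delta Cfsg.Agent.Lib.PackMat.foldBoundIter.match_1); (try delta Nat.casesOn); first | dsimp -zeta only | exact rfl) | exact rfl⟩
private noncomputable def _root_.Cfsg.Agent.LsF.f4dd3de_13 : {f // @Cfsg.Agent.Lib.PackMat.checkScalar = f} := ⟨_, by first | (delta Cfsg.Agent.Lib.PackMat.checkScalar; rewrite [Cfsg.Agent.LsF.f4dd3de_7.2, Cfsg.Agent.LsF.f4dd3de_8.2, Cfsg.Agent.LsF.f4dd3de_12.2, Cfsg.Agent.LsF.nadd_pat, Cfsg.Agent.LsF.cond_eq]; exact rfl) | exact rfl⟩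
private noncomputable def _root_.Cfsg.Agent.LsF.f4dd3de_14 : {f // @Cfsg.Agent.SporadicB.ON45Rels.gens = f} := ⟨_, by first | (delta Cfsg.Agent.SporadicB.ON45Rels.gens; (try delta Cfsg.Agent.SporadicB.ON45Rels.gens.match_1); (try rewrite [Cfsg.Agent.LsF.instDecEq_eq, Cfsg.Agent.LsF.dite_eq]); exact rfl) | exact rfl⟩
private noncomputable def _root_.Cfsg.Agent.LsF.f4dd3de_15 : {f // @Cfsg.Agent.SporadicB.ON45Word.gi = f} := ⟨_, by first | (delta Cfsg.Agent.SporadicB.ON45Word.gi; (try delta Cfsg.Agent.SporadicB.ON45Word.sl.match_1); (try delta Cfsg.Spor.ON.Gen.casesOn); exact rfl) | exact rfl⟩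
private noncomputable def _root_.Cfsg.Agent.LsF.f4dd3de_16 : {f // @Cfsg.Agent.KFacts.MulSpor.ON.mats = f} := ⟨_, by first | (delta Cfsg.Agent.KFacts.MulSpor.ON.mats; rewrite [Cfsg.Agent.LsF.f4dd3de_14.2, Cfsg.Agent.LsF.f4dd3de_15.2, Cfsg.Agent.LsF.map_eq]; exact rfl) | exact rfl⟩
private noncomputable def _root_.Cfsg.Agent.LsF.f4dd3de_17 : {f // @Cfsg.Agent.KFacts.MulSpor.ON.okw = f} := ⟨_, by first | (delta Cfsg.Agent.KFacts.MulSpor.ON.okw; rewrite [Cfsg.Agent.LsF.f4dd3de_13.2, Cfsg.Agent.LsF.f4dd3de_16.2, Cfsg.Agent.LsF.or_eq]; exact rfl) | exact rfl⟩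
private noncomputable def _root_.Cfsg.Agent.LsF.f4dd3de_18 : {f // @Cfsg.Agent.KFacts.MulSpor.ON.iw = f} := ⟨_, by first | (delta Cfsg.Agent.KFacts.MulSpor.ON.iw; rewrite [Cfsg.Agent.LsF.flatMap_eq, Cfsg.Agent.LsF.reverse_eq]; (try delta Cfsg.Agent.KFacts.MulSpor.ON.iw.match_1); (try delta Cfsg.Agent.KFacts.MulSpor.ON.iw._sparseCasesOn_1); exact rfl) | exact rfl⟩
/-- **The tuple in O'N.** -/
theorem exists_tup : ∃ τ h x y p q k₁ k₂ k₃ c d u v : ON, Tup τ h x y p q k₁ k₂ k₃ c d u v ∧ τ ≠ 1 ∧ h ≠ 1 ∧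
    (c * d) ^ 4 ≠ 1 := by
  obtain ⟨u, hu⟩ := isConj_f _ cc1 c_ne
  obtain ⟨v, hv⟩ := isConj_f _ dd1 d_ne
  refine ⟨w [.f], w lh, w lx, w ly, w lp, w lq, w [.g], w [.a, .g, .c, .g, .c], w [.a, .c, .g, .c], on .c, on .d, u, v,
    ⟨?_, ?_, ?_, ?_, ?_, ?_, ?_, ?_, ?_, ?_, ?_, ?_, ?_, ?_, ?_, ?_, ?_, ?_, ?_, ?_, ?_⟩, ?_, h_ne, cd4_ne⟩
  · rw [← w_append]; exact mm _ [] (by decide +kernel)
  · exact xx _ _ _ _ (by ((try (rewrite [Cfsg.Agent.LsF.f4dd3de_17.2, Cfsg.Agent.LsF.f4dd3de_18.2, Cfsg.Agent.LsF.lappend_pat])); decide +kernel))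
  · exact xx _ _ _ _ (by decide +kernel)
  · exact xx _ _ _ _ (by decide +kernel)
  · exact xx _ _ _ _ (by decide +kernel)
  · exact xx _ _ _ _ (by decide +kernel)
  · exact xx _ _ _ _ (by decide +kernel)
  · rw [pw]; exact mm _ [] (by ((try (rewrite [Cfsg.Agent.LsF.f4dd3de_17.2, Cfsg.Agent.LsF.f4dd3de_18.2, Cfsg.Agent.LsF.lappend_pat, Cfsg.Agent.LsF.flatten_eq, Cfsg.Agent.LsF.replicate_eq])); decide +kernel))
  · rw [pw]; exact mm _ [] (by decide +kernel)
  · rw [pw]; exact mm _ [] (by decide +kernel)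
  · rw [pw]; exact cc _ _ _ (by ((try (rewrite [Cfsg.Agent.LsF.f4dd3de_17.2, Cfsg.Agent.LsF.f4dd3de_18.2, Cfsg.Agent.LsF.lappend_pat, Cfsg.Agent.LsF.flatten_eq, Cfsg.Agent.LsF.replicate_eq])); decide +kernel))
  · exact xx _ _ _ _ (by decide +kernel)
  · exact cc _ _ _ (by decide +kernel)
  · rw [← w_append lx ly]; exact cc _ _ _ (by ((try (rewrite [Cfsg.Agent.LsF.f4dd3de_17.2, Cfsg.Agent.LsF.f4dd3de_18.2, Cfsg.Agent.LsF.lappend_pat])); decide +kernel))
  · rw [← w_iw Words.hs ly, ← w_append lx (iw ly)]; exact cc _ _ _ (by ((try (rewrite [Cfsg.Agent.LsF.f4dd3de_17.2, Cfsg.Agent.LsF.f4dd3de_18.2, Cfsg.Agent.LsF.lappend_pat])); decide +kernel))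
  · exact xx _ _ _ _ (by ((try (rewrite [Cfsg.Agent.LsF.f4dd3de_17.2, Cfsg.Agent.LsF.f4dd3de_18.2, Cfsg.Agent.LsF.lappend_pat])); decide +kernel))
  · exact xx _ _ _ _ (by ((try (rewrite [Cfsg.Agent.LsF.f4dd3de_17.2, Cfsg.Agent.LsF.f4dd3de_18.2, Cfsg.Agent.LsF.lappend_pat])); decide +kernel))
  · rw [← w_append lq lp]; exact xx _ _ _ _ (by ((try (rewrite [Cfsg.Agent.LsF.f4dd3de_17.2, Cfsg.Agent.LsF.f4dd3de_18.2, Cfsg.Agent.LsF.lappend_pat])); decide +kernel))
  · rw [hu, w_one]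
  · rw [hv, w_one]
  · exact cd8
  · rw [w_one]; exact f_ne

end Cfsg.Agent.H847.ON
end

-- part: H847/ON/Wie
section
prune_inst 0x1001000504000000000001060003c06c6000100006b800179800f46028c8b40804007208ca0160010082a0000000048101000d000000000000004004001000000aa50022200a10024000680a005180c00000000000000000000000000000000000000000
set_option linter.all false
open scoped Cfsg.Agent.FastGrp

/-!
# A local contradiction (helper847, for S2198)

`no_local`: `Q` of order `2 ^ 25`, `h` of order 7 with `C_Q(h) = ⟨z⟩`, `x h x⁻¹ = h²`: `|C_Q(x)| = 2 ^ 9`; the four subgroups of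
order 3 of `⟨x, y⟩` are conjugate, `2 ^ 25 |C_Q(x, y)| ^ 3 = (2 ^ 9) ^ 4` is impossible.
-/

set_option autoImplicit false

namespace Cfsg.Agent.H847.ON

open Subgroup
open Cfsg.Agent.OddOrderCharacters.Wielandt (wielandt)

section nine

variable {G : Type*} [Group G] {x y : G}

/-- the four cyclic subgroups -/
def X4 (x y : G) : Fin 4 → Subgroup G := ![zpowers x, zpowers y, zpowers (x * y), zpowers (x * y⁻¹)]

def Y4 (F : Subgroup G) : Fin 4 → Subgroup G := ![F, ⊥, ⊥, ⊥]

theorem mem_three {a f : G} (ha : a ^ 3 = 1) (hf : f ∈ zpowers a) : f = 1 ∨ f = a ∨ f = a⁻¹ := by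
  obtain ⟨n, rfl⟩ := mem_zpowers_iff.1 hf
  have h3 : a ^ (3 : ℤ) = 1 := by exact_mod_cast ha
  have key : a ^ n = a ^ (n % 3) := by
    conv_lhs => rw [← Int.mul_ediv_add_emod n 3, zpow_add, zpow_mul, h3, one_zpow, one_mul]
  rw [key]
  have h1 := Int.emod_nonneg n (by norm_num : (3 : ℤ) ≠ 0)
  have h2 := Int.emod_lt_of_pos n (by norm_num : (0 : ℤ) < 3)
  interval_cases h : n % 3
  · left; exact zpow_zero a
  · right; left; exact zpow_one a
  · right; right
    have : a ^ (2 : ℤ) * a = 1 := by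
      rw [← h3, show (3 : ℤ) = 2 + 1 by norm_num, zpow_add, zpow_one]
    exact eq_inv_of_mul_eq_one_left this

variable (x3 : x ^ 3 = 1) (y3 : y ^ 3 = 1) (xy : x * y = y * x) (hx : x ≠ 1) (h1 : x * y ≠ 1) (h2 : x * y⁻¹ ≠ 1)
  (hy : y ≠ 1)

include x3 y3 xy

theorem cube_xy : (x * y) ^ 3 = 1 := by
  rw [(show Commute x y from xy).mul_pow, x3, y3, one_mul]

theorem cube_xyi : (x * y⁻¹) ^ 3 = 1 := by
  rw [(show Commute x y from xy).inv_right.mul_pow, x3, inv_pow, y3, inv_one, one_mul]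

/-- elements of `⟨x, y⟩` -/
theorem mem_F {f : G} (hf : f ∈ closure ({x, y} : Set G)) : ∃ i, f ∈ X4 x y i := by
  have hf' : ∃ a b : ℤ, f = x ^ a * y ^ b := by
    induction hf using closure_induction with
    | mem f hf =>
      rcases hf with rfl | hf
      · exact ⟨1, 0, by simp⟩
      · rw [Set.mem_singleton_iff.1 hf]; exact ⟨0, 1, by simp⟩
    | one => exact ⟨0, 0, by simp⟩
    | mul f g _ _ hf hg =>
      obtain ⟨a, b, rfl⟩ := hf
      obtain ⟨c, d, rfl⟩ := hg
      refine ⟨a + c, b + d, ?_⟩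
      have hc : y ^ b * x ^ c = x ^ c * y ^ b := ((show Commute x y from xy).symm.zpow_zpow b c).eq
      rw [zpow_add, zpow_add]
      calc x ^ a * y ^ b * (x ^ c * y ^ d) = x ^ a * (y ^ b * x ^ c) * y ^ d := by group
        _ = _ := by rw [hc]; group
    | inv f _ hf =>
      obtain ⟨a, b, rfl⟩ := hf
      refine ⟨-a, -b, ?_⟩
      have hc : y ^ (-b) * x ^ (-a) = x ^ (-a) * y ^ (-b) := ((show Commute x y from xy).symm.zpow_zpow _ _).eq
      rw [mul_inv_rev, ← zpow_neg, ← zpow_neg, hc]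
  obtain ⟨a, b, rfl⟩ := hf'
  rcases mem_three x3 (mem_zpowers_iff.2 ⟨a, rfl⟩ : x ^ a ∈ zpowers x) with ha | ha | ha <;>
  rcases mem_three y3 (mem_zpowers_iff.2 ⟨b, rfl⟩ : y ^ b ∈ zpowers y) with hb | hb | hb <;> rw [ha, hb]
  · exact ⟨0, by rw [one_mul]; exact one_mem _⟩
  · exact ⟨1, by rw [one_mul]; exact mem_zpowers y⟩
  · exact ⟨1, by rw [one_mul]; exact inv_mem (mem_zpowers y)⟩
  · exact ⟨0, by rw [mul_one]; exact mem_zpowers x⟩
  · exact ⟨2, mem_zpowers (x * y)⟩
  · exact ⟨3, mem_zpowers (x * y⁻¹)⟩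
  · exact ⟨0, by rw [mul_one]; exact inv_mem (mem_zpowers x)⟩
  · refine ⟨3, ?_⟩
    have : x⁻¹ * y = (x * y⁻¹)⁻¹ := by
      rw [mul_inv_rev, inv_inv]
      have hc : y * x⁻¹ = x⁻¹ * y := ((show Commute x y from xy).symm.inv_right).eq
      rw [hc]
    rw [this]
    exact inv_mem (mem_zpowers (x * y⁻¹))
  · refine ⟨2, ?_⟩
    have : x⁻¹ * y⁻¹ = (x * y)⁻¹ := by
      rw [xy, mul_inv_rev]
    rw [this]
    exact inv_mem (mem_zpowers (x * y))

omit x3 y3 xy in
theorem le_F (i : Fin 4) : X4 x y i ≤ closure ({x, y} : Set G) := by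
  have hx : x ∈ closure ({x, y} : Set G) := subset_closure (by simp)
  have hy : y ∈ closure ({x, y} : Set G) := subset_closure (by simp)
  fin_cases i
  · exact zpowers_le.2 hx
  · exact zpowers_le.2 hy
  · exact zpowers_le.2 (mul_mem hx hy)
  · exact zpowers_le.2 (mul_mem hx (inv_mem hy))

include hx h1 h2 hy

/-- the subgroups intersect trivially -/
theorem uniq {f : G} (hf : f ≠ 1) {i j : Fin 4} (hi : f ∈ X4 x y i) (hj : f ∈ X4 x y j) : i = j := by
  -- `x` and `y` in a cyclic group generated by `f`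
  have cX : ∀ a : G, a ^ 3 = 1 → f ∈ zpowers a → a = f ∨ a = f⁻¹ := by
    intro a ha h
    rcases mem_three ha h with h | h | h
    · exact absurd h hf
    · exact Or.inl h.symm
    · right; rw [h, inv_inv]
  have key : ∀ a b : G, (a = f ∨ a = f⁻¹) → (b = f ∨ b = f⁻¹) → a * b⁻¹ = 1 ∨ a * b = 1 := by
    rintro a b (rfl | rfl) (rfl | rfl)
    · left; group
    · right; group
    · right; group
    · left; group
  have c1 := cube_xy x3 y3 xy
  have c2 := cube_xyi x3 y3 xy
  have hc : Commute x y := xy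
  have e0 : ∀ i, f ∈ X4 x y i → (![x, y, x * y, x * y⁻¹] i = f ∨ ![x, y, x * y, x * y⁻¹] i = f⁻¹) := by
    intro i hi
    fin_cases i
    · exact cX _ x3 hi
    · exact cX _ y3 hi
    · exact cX _ c1 hi
    · exact cX _ c2 hi
  have hk := key _ _ (e0 i hi) (e0 j hj)
  have y2 : y * y ≠ 1 := by
    intro h
    apply hy
    calc y = (y * y)⁻¹ * y ^ 3 := by group
      _ = 1 := by rw [h, y3]; group
  have x2 : x * x ≠ 1 := by
    intro h
    apply hx
    calc x = (x * x)⁻¹ * x ^ 3 := by group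
      _ = 1 := by rw [h, x3]; group
  have xi : x⁻¹ = x * x := inv_eq_of_mul_eq_one_right (by rw [← x3, pow_succ', pow_two])
  have yi : y⁻¹ = y * y := inv_eq_of_mul_eq_one_right (by rw [← y3, pow_succ', pow_two])
  have h1' : y * x ≠ 1 := by rw [← xy]; exact h1
  have h2' : y * x⁻¹ ≠ 1 := by
    intro h
    apply h2
    have : (y * x⁻¹)⁻¹ = x * y⁻¹ := by group
    rw [← this, h, inv_one]
  have cyx : y⁻¹ * x = x * y⁻¹ := (hc.symm.inv_left).eq
  have cxy : x⁻¹ * y = y * x⁻¹ := (hc.inv_left).eq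
  -- all the products
  have a1 : x * (x * y)⁻¹ ≠ 1 := by
    intro h; apply hy
    have : x * (x * y)⁻¹ = y⁻¹ := by rw [xy]; group
    rw [this] at h
    exact inv_eq_one.1 h
  have a2 : x * (x * y) ≠ 1 := by
    intro h; apply h2'
    rw [← cxy, xi, mul_assoc]; exact h
  have a3 : x * (x * y⁻¹)⁻¹ ≠ 1 := by
    intro h; apply hy
    have : x * (x * y⁻¹)⁻¹ = y := by
      rw [mul_inv_rev, inv_inv, ← cxy]; group
    rw [this] at h
    exact h
  have a4 : x * (x * y⁻¹) ≠ 1 := by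
    intro h; apply h1
    have : x * (x * y⁻¹) = (x * y)⁻¹ := by
      rw [← mul_assoc, ← xi, xy, mul_inv_rev]
    rw [this] at h
    exact inv_eq_one.1 h
  have b1 : y * (x * y)⁻¹ ≠ 1 := by
    intro h; apply hx
    have : y * (x * y)⁻¹ = x⁻¹ := by group
    rw [this] at h
    exact inv_eq_one.1 h
  have b2 : y * (x * y) ≠ 1 := by
    intro h; apply h2
    rw [yi, ← mul_assoc, xy, mul_assoc]; exact h
  have b3 : y * (x * y⁻¹)⁻¹ ≠ 1 := by
    intro h; apply h1
    have : y * (x * y⁻¹)⁻¹ = (x * y)⁻¹ := by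
      rw [mul_inv_rev, inv_inv, ← mul_assoc, ← yi, mul_inv_rev]
    rw [this] at h
    exact inv_eq_one.1 h
  have b4 : y * (x * y⁻¹) ≠ 1 := by
    intro h; apply hx
    have : y * (x * y⁻¹) = x := by rw [← mul_assoc, ← xy]; group
    rw [this] at h
    exact h
  have d1 : x * y * (x * y⁻¹)⁻¹ ≠ 1 := by
    intro h; apply y2
    have : x * y * (x * y⁻¹)⁻¹ = y * y := by
      rw [mul_inv_rev, inv_inv, ← cxy, mul_assoc, ← mul_assoc y, ← cxy]; group
    rw [this] at h
    exact h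
  have d2 : x * y * (x * y⁻¹) ≠ 1 := by
    intro h; apply x2
    have : x * y * (x * y⁻¹) = x * x := by
      rw [xy, mul_assoc, ← mul_assoc x, ← mul_assoc y, ← mul_assoc y, ← xy, mul_assoc x y, ← xy]; group
    rw [this] at h
    exact h
  have sw : ∀ a b : G, Commute a b → (a * b⁻¹ ≠ 1 ∧ a * b ≠ 1) → (b * a⁻¹ ≠ 1 ∧ b * a ≠ 1) := by
    intro a b hab ⟨h1, h2⟩
    refine ⟨fun h => h1 ?_, fun h => h2 ?_⟩
    · have : (b * a⁻¹)⁻¹ = a * b⁻¹ := by group
      rw [← this, h, inv_one]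
    · rw [hab.eq]; exact h
  have cc1 : Commute x (x * y) := (Commute.refl x).mul_right hc
  have cc2 : Commute x (x * y⁻¹) := (Commute.refl x).mul_right hc.inv_right
  have cc3 : Commute y (x * y) := hc.symm.mul_right (Commute.refl y)
  have cc4 : Commute y (x * y⁻¹) := hc.symm.mul_right (Commute.refl y).inv_right
  have cc5 : Commute (x * y) (x * y⁻¹) := cc2.mul_left cc4
  have P : ∀ i j : Fin 4, i ≠ j → (![x, y, x * y, x * y⁻¹] i) * (![x, y, x * y, x * y⁻¹] j)⁻¹ ≠ 1 ∧
      (![x, y, x * y, x * y⁻¹] i) * (![x, y, x * y, x * y⁻¹] j) ≠ 1 := by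
    intro i j hij
    fin_cases i <;> fin_cases j <;> first | exact absurd rfl hij | skip
    · exact ⟨h2, h1⟩
    · exact ⟨a1, a2⟩
    · exact ⟨a3, a4⟩
    · exact sw _ _ hc ⟨h2, h1⟩
    · exact ⟨b1, b2⟩
    · exact ⟨b3, b4⟩
    · exact sw _ _ cc1 ⟨a1, a2⟩
    · exact sw _ _ cc3 ⟨b1, b2⟩
    · exact ⟨d1, d2⟩
    · exact sw _ _ cc2 ⟨a3, a4⟩
    · exact sw _ _ cc4 ⟨b3, b4⟩
    · exact sw _ _ cc5 ⟨d1, d2⟩
  by_contra hij
  rcases hk with h | h
  · exact (P i j hij).1 h
  · exact (P i j hij).2 h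

theorem count (f : G) : Nat.card {i // f ∈ X4 x y i} = Nat.card {j // f ∈ Y4 (closure ({x, y} : Set G)) j} := by
  by_cases hf : f = 1
  · subst hf
    rw [Nat.card_congr (Equiv.subtypeUnivEquiv fun i => one_mem _),
      Nat.card_congr (Equiv.subtypeUnivEquiv fun i => one_mem _)]
  · by_cases hF : f ∈ closure ({x, y} : Set G)
    · obtain ⟨i, hi⟩ := mem_F x3 y3 xy hF
      have e1 : Nat.card {i // f ∈ X4 x y i} = 1 := by
        rw [Nat.card_eq_one_iff_unique]
        exact ⟨⟨fun a b => Subtype.ext (uniq x3 y3 xy hx h1 h2 hy hf a.2 b.2)⟩, ⟨⟨i, hi⟩⟩⟩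
      have e2 : Nat.card {j // f ∈ Y4 (closure ({x, y} : Set G)) j} = 1 := by
        rw [Nat.card_eq_one_iff_unique]
        have key : ∀ j : Fin 4, f ∈ Y4 (closure ({x, y} : Set G)) j → j = 0 := by
          intro j hj
          fin_cases j
          · rfl
          · exact absurd (mem_bot.1 hj) hf
          · exact absurd (mem_bot.1 hj) hf
          · exact absurd (mem_bot.1 hj) hf
        exact ⟨⟨fun a b => Subtype.ext ((key _ a.2).trans (key _ b.2).symm)⟩, ⟨⟨0, hF⟩⟩⟩
      rw [e1, e2]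
    · have e1 : IsEmpty {i // f ∈ X4 x y i} := ⟨fun a => hF (le_F a.1 a.2)⟩
      have e2 : IsEmpty {j // f ∈ Y4 (closure ({x, y} : Set G)) j} := by
        refine ⟨fun a => ?_⟩
        obtain ⟨j, hj⟩ := a
        fin_cases j
        · exact hF hj
        · exact hf (mem_bot.1 hj)
        · exact hf (mem_bot.1 hj)
        · exact hf (mem_bot.1 hj)
      rw [Nat.card_of_isEmpty, Nat.card_of_isEmpty]

end nine

section loc

open scoped Pointwise

variable {G : Type*} [Group G] [Finite G] {Q : Subgroup G}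

omit [Finite G] in
/-- conjugates have centralizers of the same order -/
theorem card_conj {a k b : G} (hk : ∀ q ∈ Q, k * q * k⁻¹ ∈ Q) (hk' : ∀ q ∈ Q, k⁻¹ * q * k ∈ Q) (h : k * a * k⁻¹ = b) :
    Nat.card ↥(Q ⊓ centralizer ((zpowers b : Subgroup G) : Set G)) =
      Nat.card ↥(Q ⊓ centralizer ((zpowers a : Subgroup G) : Set G)) := by
  have e : (MulAut.conj k • zpowers a : Subgroup G) = zpowers b := by
    rw [← h]
    show (zpowers a).map (MulAut.conj k).toMonoidHom = _
    rw [MonoidHom.map_zpowers]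
    rfl
  rw [← e]
  refine Cfsg.Agent.S1545.card_centralizer_conj Q (zpowers a) k ?_
  rw [mem_normalizer_iff]
  intro q
  refine ⟨hk q, fun hq => ?_⟩
  have := hk' _ hq
  have e : k⁻¹ * (k * q * k⁻¹) * k = q := by group
  rwa [e] at this

theorem no_local {z h x y p q k₁ k₂ k₃ c d u v : G} (hcard : Nat.card Q = 2 ^ 25) (hz : z ∈ Q) (hz1 : z ≠ 1)
    (hQn : ∀ c : G, c * z = z * c → ∀ q ∈ Q, c * q * c⁻¹ ∈ Q) (t : Tup z h x y p q k₁ k₂ k₃ c d u v) (h1 : h ≠ 1)
    (hfree : ∀ q ∈ Q, h * q = q * h → q = 1 ∨ q = z) : False := by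
  -- orders
  have hf2 : Fact (Nat.Prime 2) := ⟨Nat.prime_two⟩
  have hf3 : Fact (Nat.Prime 3) := ⟨Nat.prime_three⟩
  have hf7 : Fact (Nat.Prime 7) := ⟨by norm_num⟩
  have x1 : x ≠ 1 := by
    rintro rfl
    apply h1
    have h2 := t.xh
    rw [one_mul, inv_one, mul_one, pow_two] at h2
    exact (mul_eq_left.1 h2.symm)
  have hcx : ∀ {k b : G}, k * x * k⁻¹ = b → b ≠ 1 := by
    rintro k _ rfl h2
    apply x1
    calc x = k⁻¹ * (k * x * k⁻¹) * k := by group
      _ = 1 := by rw [h2]; group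
  have y1 := hcx t.kx1
  have xy1 := hcx t.kx2
  have xy2 := hcx t.kx3
  have ox : orderOf x = 3 := orderOf_eq_prime t.x3 x1
  have oh : orderOf h = 7 := orderOf_eq_prime t.h7 h1
  have oy : orderOf y = 3 := orderOf_eq_prime t.y3 y1
  have oxy : orderOf (x * y) = 3 := orderOf_eq_prime (cube_xy t.x3 t.y3 t.xy) xy1
  have oxyi : orderOf (x * y⁻¹) = 3 := orderOf_eq_prime (cube_xyi t.x3 t.y3 t.xy) xy2
  -- normalization
  have hN : ∀ c : G, c * z = z * c → ∀ q ∈ Q, c * q * c⁻¹ ∈ Q ∧ c⁻¹ * q * c ∈ Q := by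
    intro c hc q hq
    refine ⟨hQn c hc q hq, ?_⟩
    have := hQn c⁻¹ ((show Commute c z from hc).inv_left).eq q hq
    rwa [inv_inv] at this
  have cQ : ∀ {k b : G}, k * z = z * k → k * x * k⁻¹ = b →
      Nat.card ↥(Q ⊓ centralizer ((zpowers b : Subgroup G) : Set G)) =
      Nat.card ↥(Q ⊓ centralizer ((zpowers x : Subgroup G) : Set G)) := fun hk hb =>
    card_conj (fun q hq => (hN _ hk q hq).1) (fun q hq => (hN _ hk q hq).2) hb
  -- subgroups of `C(z)`
  have hnz : ∀ S : Set G, (∀ s ∈ S, s * z = z * s) → closure S ≤ normalizer (Q : Set G) := by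
    intro S hS
    rw [closure_le]
    intro s hs
    show s ∈ normalizer (Q : Set G)
    rw [mem_normalizer_iff]
    intro q
    refine ⟨fun hq => (hN s (hS s hs) q hq).1, fun hq => ?_⟩
    have := (hN s (hS s hs) _ hq).2
    have e : s⁻¹ * (s * q * s⁻¹) * s = q := by group
    rwa [e] at this
  have hQ2 : IsPGroup 2 Q := IsPGroup.iff_card.2 ⟨25, hcard⟩
  have hsolv : Group.IsSolvable Q := by
    have := hQ2.isNilpotent
    infer_instance
  -- `C_Q(h)`
  have hCU : Nat.card ↥(Q ⊓ centralizer ((zpowers h : Subgroup G) : Set G)) = 2 := by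
    have oz : orderOf z = 2 := orderOf_eq_prime (by rw [pow_two]; exact t.tt) hz1
    have : Q ⊓ centralizer ((zpowers h : Subgroup G) : Set G) = zpowers z := by
      apply le_antisymm
      · intro q hq
        obtain ⟨hq1, hq2⟩ := mem_inf.1 hq
        have h3 := mem_centralizer_iff.1 hq2 h (mem_zpowers h)
        rcases hfree q hq1 h3 with rfl | rfl
        · exact one_mem _
        · exact mem_zpowers _
      · rw [zpowers_le]
        refine mem_inf.2 ⟨hz, mem_centralizer_iff.2 ?_⟩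
        intro a ha
        obtain ⟨n, rfl⟩ := mem_zpowers_iff.1 ha
        exact ((show Commute h z from t.ht).zpow_left n).eq
    rw [this, Nat.card_zpowers, oz]
  -- the Frobenius group
  have hUE : (zpowers h ⊔ zpowers x : Subgroup G) ≤ closure ({h, x} : Set G) := by
    refine sup_le ?_ ?_ <;> rw [zpowers_le] <;> exact subset_closure (by simp)
  have hUEn : (zpowers h ⊔ zpowers x : Subgroup G) ≤ normalizer (Q : Set G) :=
    hUE.trans (hnz _ (by rintro s (rfl | hs); exacts [t.ht, by rw [Set.mem_singleton_iff.1 hs]; exact t.xt]))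
  have hxh : ∀ u ∈ zpowers h, x * u * x⁻¹ ∈ zpowers h := by
    intro u hu
    obtain ⟨n, rfl⟩ := mem_zpowers_iff.1 hu
    rw [conj_zpow.symm, t.xh]
    exact zpow_mem (pow_mem (mem_zpowers h) 2) n
  have hEU : ∀ e ∈ zpowers x, ∀ u ∈ zpowers h, e * u * e⁻¹ ∈ zpowers h := by
    intro e he
    rcases mem_three t.x3 he with rfl | rfl | rfl
    · intro u hu; simpa using hu
    · exact hxh
    · intro u hu
      have e2 : x⁻¹ * u * x⁻¹⁻¹ = x * (x * u * x⁻¹) * x⁻¹ := by
        have : x⁻¹ = x * x := inv_eq_of_mul_eq_one_right (by rw [← t.x3, pow_succ', pow_two])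
        calc x⁻¹ * u * x⁻¹⁻¹ = x⁻¹ * u * (x⁻¹)⁻¹ := rfl
          _ = x * x * u * (x * x)⁻¹ := by rw [this]
          _ = _ := by group
      rw [e2]
      exact hxh _ (hxh _ hu)
  have cardU : Nat.card ↥(zpowers h) = 7 := by rw [Nat.card_zpowers, oh]
  have cardE : Nat.card ↥(zpowers x) = 3 := by rw [Nat.card_zpowers, ox]
  -- no nontrivial element of `⟨x⟩` commutes with one of `⟨h⟩`
  have hfpf : ∀ e ∈ zpowers x, e ≠ 1 → ∀ u ∈ zpowers h, e * u = u * e → u = 1 := by
    intro e he he1 u hu hc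
    by_contra hu1
    -- `x` commutes with `u`
    have hxu : x * u = u * x := by
      rcases mem_three t.x3 he with rfl | rfl | rfl
      · exact absurd rfl he1
      · exact hc
      · have h2 := (show Commute x⁻¹ u from hc).inv_left
        rw [inv_inv] at h2
        exact h2.eq
    obtain ⟨n, rfl⟩ := mem_zpowers_iff.1 hu
    have h2 : h ^ n = (h ^ 2) ^ n := by
      rw [← t.xh, conj_zpow, hxu, mul_inv_cancel_right]
    have h3 : h ^ n = 1 := by
      have : (h ^ 2) ^ n = h ^ n * h ^ n := by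
        rw [pow_two, (Commute.refl h).mul_zpow]
      rw [this] at h2
      exact (mul_eq_left.1 h2.symm)
    exact hu1 h3
  have hUEb : zpowers h ⊓ zpowers x = ⊥ := by
    rw [eq_bot_iff]
    intro a ha
    obtain ⟨h2, h3⟩ := mem_inf.1 ha
    rw [mem_bot]
    by_contra ha1
    refine ha1 (hfpf a h3 ha1 a h2 rfl)
  -- coprime orders
  have hcop : ∀ (S : Subgroup G) (n : ℕ), Odd n → (∀ s ∈ S, s ^ n = 1) → (Nat.card Q).Coprime (Nat.card S) := by
    intro S n hn hS
    rw [hcard]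
    apply Nat.Coprime.pow_left
    rw [Nat.Prime.coprime_iff_not_dvd Nat.prime_two]
    intro hd
    obtain ⟨s, hs⟩ := exists_prime_orderOf_dvd_card' (G := S) 2 hd
    have h2 : s ^ n = 1 := Subtype.ext (by rw [SubmonoidClass.coe_pow]; exact hS s s.2)
    have h3 := orderOf_dvd_of_pow_eq_one h2
    rw [hs] at h3
    exact (Nat.not_even_iff_odd.2 hn) (even_iff_two_dvd.2 h3)
  have hxn : zpowers x ≤ normalizer ((zpowers h : Subgroup G) : Set G) := by
    rw [zpowers_le]
    show x ∈ normalizer ((zpowers h : Subgroup G) : Set G)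
    rw [mem_normalizer_iff]
    intro u
    refine ⟨hxh u, fun hu => ?_⟩
    have h2 := hEU x⁻¹ (inv_mem (mem_zpowers x)) _ hu
    have e : x⁻¹ * (x * u * x⁻¹) * x⁻¹⁻¹ = u := by group
    rwa [e] at h2
  have hpow : ∀ f ∈ zpowers h ⊔ zpowers x, f ^ 21 = 1 := by
    intro f hf
    have h2 : f ∈ ((zpowers x : Subgroup G) : Set G) * ((zpowers h : Subgroup G) : Set G) := by
      rw [← coe_mul_of_left_le_normalizer_right _ _ hxn, sup_comm]
      exact hf
    obtain ⟨e, he, u, hu, rfl⟩ := Set.mem_mul.1 h2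
    have e3 : e ^ 3 = 1 := by
      rcases mem_three t.x3 he with rfl | rfl | rfl
      · exact one_pow 3
      · exact t.x3
      · rw [inv_pow, t.x3, inv_one]
    have h4 : (e * u) ^ 3 ∈ zpowers h := by
      have e1 : (e * u) ^ 3 = (e * u * e⁻¹) * (e * (e * u * e⁻¹) * e⁻¹) * (e ^ 3 * u) := by
        rw [pow_succ, pow_two, pow_succ e, pow_two]; group
      rw [e1, e3, one_mul]
      exact mul_mem (mul_mem (hEU e he u hu) (hEU e he _ (hEU e he u hu))) hu
    obtain ⟨n, hn⟩ := mem_zpowers_iff.1 h4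
    have h7 : h ^ (7 : ℤ) = 1 := by exact_mod_cast t.h7
    rw [show (21 : ℕ) = 3 * 7 by norm_num, pow_mul, ← hn, ← zpow_natCast, ← zpow_mul, mul_comm, zpow_mul]
    push_cast
    rw [h7, one_zpow]
  have hF3 : ∀ f ∈ closure ({x, y} : Set G), f ^ 3 = 1 := by
    intro f hf
    obtain ⟨i, hi⟩ := mem_F t.x3 t.y3 t.xy hf
    have c1 := cube_xy t.x3 t.y3 t.xy
    have c2 := cube_xyi t.x3 t.y3 t.xy
    have key : ∀ a : G, a ^ 3 = 1 → f ∈ zpowers a → f ^ 3 = 1 := by
      intro a ha hfa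
      rcases mem_three ha hfa with rfl | rfl | rfl
      · exact one_pow 3
      · exact ha
      · rw [inv_pow, ha, inv_one]
    fin_cases i
    · exact key _ t.x3 hi
    · exact key _ t.y3 hi
    · exact key _ c1 hi
    · exact key _ c2 hi
  have hc21 := hcop _ 21 (by decide) hpow
  have hc3 := hcop _ 3 (by decide) hF3
  -- `C_Q(h, x)`
  have hCUE : Nat.card ↥(Q ⊓ centralizer ((zpowers h ⊔ zpowers x : Subgroup G) : Set G)) = 2 := by
    have h2 : Q ⊓ centralizer ((zpowers h ⊔ zpowers x : Subgroup G) : Set G) =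
        Q ⊓ centralizer ((zpowers h : Subgroup G) : Set G) := by
      apply le_antisymm
      · exact inf_le_inf_left _ (centralizer_le (SetLike.coe_subset_coe.2 le_sup_left))
      · intro q hq
        obtain ⟨hq1, hq2⟩ := mem_inf.1 hq
        have h3 := mem_centralizer_iff.1 hq2 h (mem_zpowers h)
        refine mem_inf.2 ⟨hq1, mem_centralizer_iff.2 ?_⟩
        have hqz : ∀ s ∈ closure ({h, x} : Set G), s * q = q * s := by
          have hall : ∀ s : G, s * z = z * s → s * q = q * s ∨ True := fun _ _ => Or.inr trivial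
          rcases hfree q hq1 h3 with rfl | rfl
          · intro s _; rw [one_mul, mul_one]
          · intro s hs
            have h4 : closure ({h, x} : Set G) ≤ centralizer ({q} : Set G) := by
              rw [closure_le]
              rintro s (rfl | hs)
              · exact mem_centralizer_singleton_iff.2 t.ht
              · rw [Set.mem_singleton_iff.1 hs]
                exact mem_centralizer_singleton_iff.2 t.xt
            exact mem_centralizer_singleton_iff.1 (h4 hs)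
        intro s hs
        exact hqz s (hUE hs)
    rw [h2, hCU]
  -- the order of `C_Q(x)`
  have hinf : Q ⊓ (zpowers h ⊔ zpowers x) = ⊥ := (disjoint_of_coprime_natCard hc21).eq_bot
  have hxne : zpowers x ≠ ⊥ := by rw [Ne, zpowers_eq_bot]; exact x1
  have hhne : zpowers h ≠ ⊥ := by rw [Ne, zpowers_eq_bot]; exact h1
  have main := Cfsg.Agent.S1545.result (zpowers h) (zpowers x) Q hhne hxne hUEb hEU hfpf (fun s hs q hq =>
    (mem_normalizer_iff.1 (hUEn hs) q).1 hq) hinf hsolv hc21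
  rw [hCUE, hCU, cardE, hcard] at main
  have hCx : Nat.card ↥(Q ⊓ centralizer ((zpowers x : Subgroup G) : Set G)) = 2 ^ 9 := by
    have h2 : Nat.card ↥(Q ⊓ centralizer ((zpowers x : Subgroup G) : Set G)) ^ 3 = (2 ^ 9) ^ 3 := by
      have : (2 ^ 9) ^ 3 * 2 = 2 ^ 3 * 2 ^ 25 := by norm_num
      omega
    exact Nat.pow_left_injective (n := 3) (by norm_num) h2
  -- Wielandt
  have hW := wielandt (closure ({x, y} : Set G)) Q (hnz _ (by
    rintro s (rfl | hs)
    · exact t.xt
    · rw [Set.mem_singleton_iff.1 hs]; exact t.yt)) hc3.symm hsolv (X4 x y) (Y4 (closure ({x, y} : Set G)))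
    (fun i => le_F i) (fun j => by
      fin_cases j
      · exact le_rfl
      · exact bot_le
      · exact bot_le
      · exact bot_le) (fun f => count t.x3 t.y3 t.xy x1 xy1 xy2 y1 f)
  rw [Fin.prod_univ_four, Fin.prod_univ_four] at hW
  have w0 : X4 x y 0 = zpowers x := rfl
  have w1 : X4 x y 1 = zpowers y := rfl
  have w2 : X4 x y 2 = zpowers (x * y) := rfl
  have w3 : X4 x y 3 = zpowers (x * y⁻¹) := rfl
  have v0 : Y4 (closure ({x, y} : Set G)) 0 = closure {x, y} := rfl
  have v1 : Y4 (closure ({x, y} : Set G)) 1 = ⊥ := rfl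
  have v2 : Y4 (closure ({x, y} : Set G)) 2 = ⊥ := rfl
  have v3 : Y4 (closure ({x, y} : Set G)) 3 = ⊥ := rfl
  have hbot : Nat.card ↥(Q ⊓ centralizer (((⊥ : Subgroup G)) : Set G)) = 2 ^ 25 := by
    have : centralizer (((⊥ : Subgroup G)) : Set G) = ⊤ := by
      rw [eq_top_iff]
      intro a _
      rw [mem_centralizer_iff]
      intro b hb
      rw [mem_bot.1 hb, one_mul, mul_one]
    rw [this, inf_top_eq, hcard]
  rw [w0, w1, w2, w3, v0, v1, v2, v3, cQ t.k1t t.kx1, cQ t.k2t t.kx2, cQ t.k3t t.kx3, hCx, hbot, Nat.card_zpowers,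
    Nat.card_zpowers, Nat.card_zpowers, Nat.card_zpowers, ox, oy, oxy, oxyi, Subgroup.card_bot, pow_one] at hW
  -- `|⟨x, y⟩| = 9`
  have h9 : 9 ∣ Nat.card ↥(closure ({x, y} : Set G)) := by
    have hp : IsPGroup 3 ↥(closure ({x, y} : Set G)) := by
      intro f
      exact ⟨1, Subtype.ext (by rw [SubmonoidClass.coe_pow, pow_one]; exact hF3 f f.2)⟩
    obtain ⟨n, hn⟩ := hp.exists_card_eq
    have hxF : zpowers x ≤ closure ({x, y} : Set G) := zpowers_le.2 (subset_closure (by simp))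
    have hyF : y ∈ closure ({x, y} : Set G) := subset_closure (by simp)
    rcases Nat.lt_or_ge n 2 with h2 | h2
    · exfalso
      have h3 : Nat.card ↥(closure ({x, y} : Set G)) ≤ Nat.card ↥(zpowers x) := by
        rw [hn, cardE]
        calc 3 ^ n ≤ 3 ^ 1 := Nat.pow_le_pow_right (by norm_num) (by omega)
          _ = 3 := by norm_num
      have h4 : zpowers x = closure ({x, y} : Set G) := eq_of_le_of_card_ge hxF h3
      rw [← h4] at hyF
      rcases mem_three t.x3 hyF with h5 | h5 | h5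
      · exact y1 h5
      · apply xy2; rw [h5, mul_inv_cancel]
      · apply xy1; rw [h5, mul_inv_cancel]
    · rw [hn]
      exact (pow_dvd_pow 3 h2)
  have hc : Nat.card ↥(Q ⊓ centralizer ((closure ({x, y} : Set G) : Subgroup G) : Set G)) ∣ 2 ^ 25 := by
    rw [← hcard]
    exact Subgroup.card_dvd_of_le inf_le_left
  obtain ⟨m, -, hm⟩ := (Nat.dvd_prime_pow Nat.prime_two).1 hc
  rw [hm] at hW
  simp only [← pow_mul, ← pow_add] at hW
  have h11 := Nat.pow_right_injective (le_refl 2) hW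
  obtain ⟨k, hk⟩ := h9
  have h12 : m * Nat.card ↥(closure ({x, y} : Set G)) = 9 * (m * k) := by rw [hk]; ring
  omega

end loc

end Cfsg.Agent.H847.ON
end

-- part: H820/Par/Asm
section
prune_inst 0x20105400402200000018001060001c2282000002004b800041c00f0206c88c40200106213820041000002c540030006811000010420000000a000200011c0080000240021200a100200000000000000000000000000000000000000000000000000000000
set_option linter.all false
open scoped Cfsg.Agent.FastGrp

-- part: H820/Par/Tri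
section
/-!
# S2198: the case division in Case 1 (helper820)
-/

set_option autoImplicit false

namespace Cfsg.Agent.H820.Par

open Cfsg Cfsg.Spor Cfsg.Agent.MonsterX Cfsg.Agent.BpSpor.MBigModel Cfsg.Agent.MonsterU Cfsg.Agent.MonsterU.Lam2
open Cfsg.Agent.SporadicA.Co0Mono hiding mk
open Cfsg.Agent.SporadicA.Co1Simple Cfsg.Agent.CoOneType.ClosingFacts
open Cfsg.Agent.Co2Type.Mono (tr8 tr8_conj)
open Cfsg.Agent.CoOneType.SignFacts (wt)
open Subgroup (centralizer mem_centralizer_singleton_iff)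

/-! ### generalities on `Co₀` -/

/-- `-1` -/
noncomputable abbrev n1 : Co0 := signCo0 allOne

theorem n1_comm (g : Co0) : n1 * g = g * n1 := (Subgroup.mem_center_iff.1 allOne_mem_center g).symm

theorem n1_sq : n1 * n1 = 1 := by
  apply Cfsg.Agent.SporadicA.Co0Mono.ext
  intro v
  rw [mul_smul, allOne_smul, allOne_smul, neg_neg, one_smul]

theorem mk_n1 (g : Co0) : mk (n1 * g) = mk g := by
  rw [mk_mul]
  have : mk n1 = 1 := (QuotientGroup.eq_one_iff _).2 allOne_mem_center
  rw [this, one_mul]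

theorem eq_or_of_mk {g h : Co0} (e : mk g = mk h) : g = h ∨ g = n1 * h := by
  have h1 : mk (g * h⁻¹) = 1 := by rw [mk_mul, mk_inv, e, mul_inv_cancel]
  have h2 : g * h⁻¹ ∈ Subgroup.center Co0 := (QuotientGroup.eq_one_iff _).1 h1
  rcases Cfsg.Agent.SporadicA.Co0Basic.eq_one_or_neg_of_mem_center h2 with h3 | h3
  · left; exact mul_inv_eq_one.1 h3
  · right
    rw [Cfsg.Agent.CoOneType.ClosingFacts.neg_eq] at h3
    exact mul_inv_eq_iff_eq_mul.1 h3

theorem mk_ne_of {g : Co0} (h : mk g ≠ 1) : g ≠ 1 ∧ g ≠ n1 := by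
  refine ⟨fun e => h (by rw [e]; rfl), fun e => h ?_⟩
  rw [e]; exact (QuotientGroup.eq_one_iff _).2 allOne_mem_center

theorem tr8_n1 (g : Co0) : tr8 (n1 * g) = -tr8 g := by
  unfold Cfsg.Agent.Co2Type.Mono.tr8
  rw [← Finset.sum_neg_distrib]
  apply Finset.sum_congr rfl
  intro i _
  rw [mul_smul, allOne_smul]
  rfl

open Cfsg.Agent.KFacts.Co1D4.Base in
theorem IsOct.tr {g : Co0} (h : IsOct g) : tr8 g = 64 := by
  obtain ⟨k, c, hc, e⟩ := h
  rw [← tr8_conj k g, e, tr8_sign]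
  have : wt c = 8 := hc.2
  rw [this]; norm_num

open Cfsg.Agent.KFacts.Co1D4.Base in
theorem IsDod.tr {g : Co0} (h : IsDod g) : tr8 g = 0 := by
  obtain ⟨k, c, hc, e⟩ := h
  rw [← tr8_conj k g, e, tr8_sign]
  have : wt c = 12 := hc.2
  rw [this]; norm_num

theorem IsOct.conj {g : Co0} (h : IsOct g) (k : Co0) : IsOct (k * g * k⁻¹) := by
  obtain ⟨l, c, hc, e⟩ := h
  exact ⟨l * k⁻¹, c, hc, by rw [← e]; group⟩

theorem IsDod.conj {g : Co0} (h : IsDod g) (k : Co0) : IsDod (k * g * k⁻¹) := by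
  obtain ⟨l, c, hc, e⟩ := h
  exact ⟨l * k⁻¹, c, hc, by rw [← e]; group⟩

theorem cases_one {t : Co0} (ht : t * t = 1) (h1 : mk t ≠ 1) : IsOct t ∨ IsOct (n1 * t) ∨ IsDod t := by
  obtain ⟨o, ho'⟩ := Cfsg.Agent.CoOneType.ClosingCo1.exists_octad
  obtain ⟨d, hd'⟩ := Cfsg.Agent.CoOneType.ClosingCo1.exists_dodecad
  have ho : support₂ (o : GolayPt → ZMod 2) ∈ octads := ⟨⟨o, o.2, rfl⟩, ho'⟩
  have hd : support₂ (d : GolayPt → ZMod 2) ∈ dodecads := ⟨⟨d, d.2, rfl⟩, hd'⟩
  rcases Cfsg.Agent.CoOneType.InvMain.sq_one_cases t ht o d ho hd with h | h | ⟨g, h | h | h⟩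
  · exact absurd h (mk_ne_of h1).1
  · exact absurd h (mk_ne_of h1).2
  · exact Or.inl ⟨g, o, ho, h⟩
  · right; left
    refine ⟨g, o, ho, ?_⟩
    rw [signCo0_add] at h
    calc g * (n1 * t) * g⁻¹ = n1 * (g * t * g⁻¹) := by rw [← mul_assoc g, ← n1_comm g]; group
      _ = n1 * (signCo0 o * n1) := by rw [h]
      _ = (n1 * n1) * signCo0 o := by rw [← n1_comm, mul_assoc]
      _ = signCo0 o := by rw [n1_sq, one_mul]
  · exact Or.inr (Or.inr ⟨g, d, hd, h⟩)

theorem sq_cases {g : Co0} (h : mk g * mk g = 1) : g * g = 1 ∨ IsNeg g := by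
  rw [← mk_mul] at h
  rcases eq_or_of_mk (h := 1) (g := g * g) (h.trans rfl) with h1 | h1
  · exact Or.inl h1
  · right
    rw [mul_one] at h1
    exact h1

theorem not_oct_neg {g : Co0} (h : IsOct g) : ¬ IsOct (n1 * g) := by
  intro h2
  have h3 := h2.tr
  rw [tr8_n1, h.tr] at h3
  omega

theorem oct_unique {g h : Co0} (hg : IsOct g) (hh : IsOct h) (e : mk g = mk h) : g = h := by
  rcases eq_or_of_mk e with h1 | h1
  · exact h1
  · rw [h1] at hg
    exact absurd hg (not_oct_neg hh)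

/-! ### permutations -/

theorem tri_perm : ∀ i j l : Fin 5, i ≠ j → i ≠ l → j ≠ l → ∃ σ : alternatingGroup (Fin 5),
    (σ : Equiv.Perm (Fin 5)) 0 = i ∧ (σ : Equiv.Perm (Fin 5)) 1 = j ∧ (σ : Equiv.Perm (Fin 5)) 2 = l := by
  decide +kernel

theorem quad_perm : ∀ i j l m : Fin 5, i ≠ j → i ≠ l → i ≠ m → j ≠ l → j ≠ m → l ≠ m →
    ∃ σ : alternatingGroup (Fin 5), (σ : Equiv.Perm (Fin 5)) 0 = i ∧ (σ : Equiv.Perm (Fin 5)) 1 = j ∧
      ((σ : Equiv.Perm (Fin 5)) 2 = l ∧ (σ : Equiv.Perm (Fin 5)) 3 = m ∨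
        (σ : Equiv.Perm (Fin 5)) 2 = m ∧ (σ : Equiv.Perm (Fin 5)) 3 = l) := by
  decide +kernel

/-! ### the images in `Co₁` -/

namespace JC

variable (C : JC zz)

/-- the image of `e i j` -/
noncomputable def x (i j : Fin 5) : Co1 := pi (C.ce i j)

theorem ce_mul (i j l : Fin 5) : C.ce i j * C.ce j l = C.ce i l := Subtype.ext (C.e_mul i j l)

theorem ce_self (i : Fin 5) : C.ce i i = 1 := Subtype.ext (C.e_self i)

theorem pi_eq_one_of {c : CZ} (h : (c : MG) = zz) : pi c = 1 := by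
  rw [chart.pi_eq_one, h]
  exact chart.large.z_mem

theorem x_mul (i j l : Fin 5) : C.x i j * C.x j l = C.x i l := by
  unfold x; rw [← map_mul, ce_mul]

theorem x_self (i : Fin 5) : C.x i i = 1 := by unfold x; rw [ce_self, map_one]

theorem x_sq (i j : Fin 5) : C.x i j * C.x i j = 1 := by
  by_cases h : i = j
  · rw [h, x_self, one_mul]
  · unfold x
    rw [← map_mul]
    exact pi_eq_one_of (C.e_sq i j h)

theorem x_swap (i j : Fin 5) : C.x j i = C.x i j := by
  calc C.x j i = C.x j i * (C.x i j * C.x i j) := by rw [x_sq, mul_one]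
    _ = (C.x j i * C.x i j) * C.x i j := by rw [mul_assoc]
    _ = C.x i j := by rw [x_mul, x_self, one_mul]

/-- the image of `k σ` -/
noncomputable def y (σ : alternatingGroup (Fin 5)) : Co1 := pi (C.ck σ)

theorem y_conj (σ : alternatingGroup (Fin 5)) (i j : Fin 5) :
    C.y σ * C.x i j * (C.y σ)⁻¹ = C.x ((σ : Equiv.Perm (Fin 5)) i) ((σ : Equiv.Perm (Fin 5)) j) := by
  unfold y x
  rw [← map_mul, ← map_inv, ← map_mul]
  congr 1
  exact Subtype.ext (C.k_conj σ i j)

theorem pi_cu (i : Fin 5) : pi (C.cu i) = C.x (nx i 0) (nx i 1) * C.x (nx i 2) (nx i 3) := by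
  unfold cu x
  rw [map_mul]

end JC

/-- lifts are permuted -/
theorem lift_conj (C : JC zz) {σ : alternatingGroup (Fin 5)} {κ g : Co0} (hκ : mk κ = C.y σ) {i j : Fin 5}
    (hg : mk g = C.x i j) :
    mk (κ * g * κ⁻¹) = C.x ((σ : Equiv.Perm (Fin 5)) i) ((σ : Equiv.Perm (Fin 5)) j) := by
  rw [mk_mul, mk_mul, mk_inv, hκ, hg, C.y_conj]

/-- two elements whose images commute -/
theorem comm_or {g h : Co0} (e : mk g * mk h = mk h * mk g) : g * h = h * g ∨ g * h = n1 * (h * g) := by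
  rw [← mk_mul, ← mk_mul] at e
  exact eq_or_of_mk e

/-- commutation does not depend on the lifts -/
theorem comm_lift {g h g' h' : Co0} (hg : mk g = mk g') (hh : mk h = mk h') (c : g * h = h * g) :
    g' * h' = h' * g' := by
  rcases eq_or_of_mk hg.symm with rfl | rfl <;> rcases eq_or_of_mk hh.symm with rfl | rfl
  · exact c
  · rw [← mul_assoc, ← n1_comm, mul_assoc, c, mul_assoc]
  · rw [mul_assoc, c, ← mul_assoc, n1_comm, mul_assoc]
  · rw [show n1 * g * (n1 * h) = (n1 * n1) * (g * h) by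
        rw [mul_assoc, ← mul_assoc g, ← n1_comm g]; simp only [mul_assoc],
      show n1 * h * (n1 * g) = (n1 * n1) * (h * g) by
        rw [mul_assoc, ← mul_assoc h, ← n1_comm h]; simp only [mul_assoc], c]

theorem sq_lift {g g' : Co0} (hg : mk g = mk g') : g * g = g' * g' := by
  rcases eq_or_of_mk hg with rfl | rfl
  · rfl
  · rw [show n1 * g' * (n1 * g') = (n1 * n1) * (g' * g') by
        rw [mul_assoc, ← mul_assoc g', ← n1_comm g']; simp only [mul_assoc], n1_sq, one_mul]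

theorem n1_ne : (n1 : Co0) ≠ 1 := by
  intro h
  have h1 := tr8_n1 1
  rw [h, one_mul, Cfsg.Agent.SigZeroCo2.Lin.tr8_one] at h1
  omega

end Cfsg.Agent.H820.Par
end

-- part: H820/Par/TriMain
section
/-!
# S2198: the case division in Case 1, main part (helper820)
-/

set_option autoImplicit false

namespace Cfsg.Agent.H820.Par

open Cfsg Cfsg.Spor Cfsg.Agent.MonsterX Cfsg.Agent.BpSpor.MBigModel Cfsg.Agent.MonsterU Cfsg.Agent.MonsterU.Lam2
open Cfsg.Agent.SporadicA.Co0Mono hiding mk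
open Cfsg.Agent.SporadicA.Co1Simple Cfsg.Agent.CoOneType.ClosingFacts
open Cfsg.Agent.Co2Type.Mono (tr8 tr8_conj)
open Cfsg.Agent.CoOneType.SignFacts (wt)
open Subgroup (centralizer mem_centralizer_singleton_iff)

/-! ### squares -/

theorem third_point : ∀ i j : Fin 5, ∃ l : Fin 5, l ≠ i ∧ l ≠ j := by decide

theorem fifth_point : ∀ a b c d : Fin 5, ∃ e : Fin 5, e ≠ a ∧ e ≠ b ∧ e ≠ c ∧ e ≠ d := fun a b c d =>
  (Finset.exists_mem_notMem_of_card_lt_card (s := {a, b, c, d}) (t := Finset.univ)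
    (Finset.card_le_four.trans_lt (by decide))).imp fun _ h => by
    simpa only [Finset.mem_insert, Finset.mem_singleton, not_or] using h.2

theorem nx_facts : ∀ i : Fin 5, nx i 0 ≠ nx i 1 ∧ nx i 0 ≠ nx i 2 ∧ nx i 0 ≠ nx i 3 ∧ nx i 1 ≠ nx i 2 ∧
    nx i 1 ≠ nx i 3 ∧ nx i 2 ≠ nx i 3 ∧ nx i 0 ≠ i ∧ nx i 1 ≠ i ∧ nx i 2 ≠ i ∧ nx i 3 ≠ i := by decide

theorem x_comm_disj (C : JC zz) {a b c d : Fin 5} (hac : a ≠ c) (had : a ≠ d) (hbc : b ≠ c) (hbd : b ≠ d) :
    C.x a b * C.x c d = C.x c d * C.x a b := by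
  unfold JC.x
  rw [← map_mul, ← map_mul]
  exact congrArg pi (Subtype.ext (C.e_comm a b c d hac had hbc hbd))

/-- all lifts of the `x i j` have the same square -/
theorem sq_const (C : JC zz) {i j i' j' : Fin 5} (hij : i ≠ j) (hij' : i' ≠ j') {g g' : Co0} (hg : mk g = C.x i j)
    (hg' : mk g' = C.x i' j') : g * g = g' * g' := by
  -- a third point
  have key : ∀ {i j : Fin 5}, i ≠ j → ∀ {g g₀ : Co0}, mk g = C.x i j → mk g₀ = C.x 0 1 → g * g = g₀ * g₀ := by
    intro i j hij g g₀ hg hg₀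
    obtain ⟨l, hl⟩ := third_point i j
    obtain ⟨σ, h0, h1, -⟩ := tri_perm i j l hij hl.1.symm hl.2.symm
    obtain ⟨κ, hκ⟩ := exists_mk (C.y σ)
    have h2 := lift_conj C hκ hg₀
    rw [h0, h1, ← hg] at h2
    rw [sq_lift h2.symm]
    have h3 : κ * g₀ * κ⁻¹ * (κ * g₀ * κ⁻¹) = κ * (g₀ * g₀) * κ⁻¹ := by group
    rw [h3]
    rcases sq_cases (g := g₀) (by rw [hg₀, C.x_sq]) with h4 | h4
    · rw [h4, mul_one, mul_inv_cancel]
    · rw [h4, ← n1_comm, mul_assoc, mul_inv_cancel, mul_one]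
  obtain ⟨g₀, hg₀⟩ := exists_mk (C.x 0 1)
  rw [key hij hg hg₀, key hij' hg' hg₀]

/-- lifts over disjoint pairs commute -/
theorem comm_disj (C : JC zz) {a b c d : Fin 5} (hab : a ≠ b) (hac : a ≠ c) (had : a ≠ d) (hbc : b ≠ c) (hbd : b ≠ d)
    (hcd : c ≠ d) {g h : Co0} (hg : mk g = C.x a b) (hh : mk h = C.x c d) : g * h = h * g := by
  by_contra hcon
  -- then no lifts over disjoint pairs commute
  have all : ∀ {a b c d : Fin 5}, a ≠ b → a ≠ c → a ≠ d → b ≠ c → b ≠ d → c ≠ d → ∀ {g h : Co0},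
      mk g = C.x a b → mk h = C.x c d → ¬ g * h = h * g := by
    -- both are conjugate to the pair (01 | 23)
    have key : ∀ {a b c d : Fin 5}, a ≠ b → a ≠ c → a ≠ d → b ≠ c → b ≠ d → c ≠ d → ∀ {g h g₀ h₀ : Co0},
      mk g = C.x a b → mk h = C.x c d → mk g₀ = C.x 0 1 → mk h₀ = C.x 2 3 → (g * h = h * g ↔ g₀ * h₀ = h₀ * g₀) := by
      intro a b c d hab hac had hbc hbd hcd g h g₀ h₀ hg hh hg₀ hh₀
      obtain ⟨σ, h0, h1, h2⟩ := quad_perm a b c d hab hac had hbc hbd hcd
      obtain ⟨κ, hκ⟩ := exists_mk (C.y σ)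
      have e1 : mk (κ * g₀ * κ⁻¹) = mk g := by rw [lift_conj C hκ hg₀, h0, h1, hg]
      have e2 : mk (κ * h₀ * κ⁻¹) = mk h := by
        rw [lift_conj C hκ hh₀, hh]
        rcases h2 with ⟨h2, h3⟩ | ⟨h2, h3⟩
        · rw [h2, h3]
        · rw [h2, h3, C.x_swap]
      constructor
      · intro e
        have := comm_lift e1.symm e2.symm e
        have h3 : κ * (g₀ * h₀) * κ⁻¹ = κ * (h₀ * g₀) * κ⁻¹ := by
          calc κ * (g₀ * h₀) * κ⁻¹ = κ * g₀ * κ⁻¹ * (κ * h₀ * κ⁻¹) := by group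
            _ = κ * h₀ * κ⁻¹ * (κ * g₀ * κ⁻¹) := this
            _ = κ * (h₀ * g₀) * κ⁻¹ := by group
        exact mul_left_cancel (mul_right_cancel h3)
      · intro e
        refine comm_lift e1 e2 ?_
        calc κ * g₀ * κ⁻¹ * (κ * h₀ * κ⁻¹) = κ * (g₀ * h₀) * κ⁻¹ := by group
          _ = κ * (h₀ * g₀) * κ⁻¹ := by rw [e]
          _ = κ * h₀ * κ⁻¹ * (κ * g₀ * κ⁻¹) := by group
    intro a' b' c' d' k1 k2 k3 k4 k5 k6 g' h' hg' hh' e
    obtain ⟨g₀, hg₀⟩ := exists_mk (C.x 0 1)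
    obtain ⟨h₀, hh₀⟩ := exists_mk (C.x 2 3)
    exact hcon ((key hab hac had hbc hbd hcd hg hh hg₀ hh₀).2 ((key k1 k2 k3 k4 k5 k6 hg' hh' hg₀ hh₀).1 e))
  -- the fifth point
  obtain ⟨e, he⟩ := fifth_point a b c d
  obtain ⟨s, hs⟩ := exists_mk (C.x a e)
  obtain ⟨t, ht⟩ := exists_mk (C.x e b)
  have h1 := all he.1.symm hac had he.2.2.1 he.2.2.2 hcd hs hh
  have h2 := all he.2.1 he.2.2.1 he.2.2.2 hbc hbd hcd ht hh
  have h1' : s * h = n1 * (h * s) := by
    rcases eq_or_of_mk (g := s * h) (h := h * s)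
      (by rw [mk_mul, mk_mul, hs, hh, x_comm_disj C hac had he.2.2.1 he.2.2.2]) with h3 | h3
    · exact absurd h3 h1
    · exact h3
  have h2' : t * h = n1 * (h * t) := by
    rcases eq_or_of_mk (g := t * h) (h := h * t)
      (by rw [mk_mul, mk_mul, ht, hh, x_comm_disj C he.2.2.1 he.2.2.2 hbc hbd]) with h3 | h3
    · exact absurd h3 h2
    · exact h3
  apply hcon
  refine comm_lift (g := s * t) (h := h) (g' := g) (h' := h) ?_ rfl ?_
  · rw [mk_mul, hs, ht, C.x_mul, hg]
  · calc s * t * h = s * (t * h) := by group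
      _ = s * (n1 * (h * t)) := by rw [h2']
      _ = (n1 * (s * h)) * t := by rw [← mul_assoc, ← n1_comm]; group
      _ = (n1 * (n1 * (h * s))) * t := by rw [h1']
      _ = (n1 * n1) * (h * (s * t)) := by group
      _ = h * (s * t) := by rw [n1_sq, one_mul]

/-- **E4.** -/
theorem case_neg (C : JC zz) (h2 : ∀ i, pi (C.cu i) ≠ 1) {g₀ : Co0} (hg₀ : mk g₀ = C.x 0 1) (hN : IsNeg g₀) :
    (∀ i j, i ≠ j → ∀ g : Co0, mk g = pi (C.ce i j) → IsNeg g) ∧
      ∀ i, ∀ g : Co0, mk g = pi (C.cu i) → IsDod g := by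
  have h1 : ∀ i j, i ≠ j → ∀ g : Co0, mk g = C.x i j → IsNeg g := by
    intro i j hij g hg
    show g * g = _
    rw [sq_const C hij (by decide : (0 : Fin 5) ≠ 1) hg hg₀]
    exact hN
  refine ⟨h1, ?_⟩
  intro i g hg
  rw [C.pi_cu] at hg
  obtain ⟨d01, d02, d03, d12, d13, d23, d0, d1, d2, d3⟩ := nx_facts i
  obtain ⟨s, hs⟩ := exists_mk (C.x (nx i 0) (nx i 1))
  obtain ⟨t, ht⟩ := exists_mk (C.x (nx i 2) (nx i 3))
  have hgm : mk g = mk (s * t) := by rw [mk_mul, hs, ht, hg]
  have hst := comm_disj C d01 d02 d03 d12 d13 d23 hs ht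
  have hss := h1 _ _ d01 s hs
  have htt := h1 _ _ d23 t ht
  have hgg : g * g = 1 := by
    rw [sq_lift hgm]
    calc s * t * (s * t) = s * (t * s) * t := by group
      _ = s * (s * t) * t := by rw [hst]
      _ = (s * s) * (t * t) := by group
      _ = n1 * n1 := by rw [hss, htt]
      _ = 1 := n1_sq
  -- `g` is conjugate to `-g`
  obtain ⟨r, hr⟩ := exists_mk (C.x (nx i 0) i)
  have hrr := h1 _ _ d0 r hr
  have hrt := comm_disj C d0 d02 d03 d2.symm d3.symm d23 hr ht
  have hrs : r * s = n1 * (s * r) := by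
    have e1 : C.x (nx i 0) i * C.x (nx i 0) (nx i 1) = C.x (nx i 1) i := by
      rw [← C.x_swap (nx i 0) i, C.x_mul, C.x_swap]
    have e2 : C.x (nx i 0) (nx i 1) * C.x (nx i 0) i = C.x (nx i 1) i := by
      rw [← C.x_swap (nx i 0) (nx i 1), C.x_mul]
    rcases eq_or_of_mk (g := r * s) (h := s * r) (by rw [mk_mul, mk_mul, hr, hs, e1, e2]) with h3 | h3
    · exfalso
      have h4 : mk (s * r) = C.x (nx i 1) i := by
        rw [mk_mul, hs, hr, ← C.x_swap (nx i 0) (nx i 1), C.x_mul]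
      have h5 := h1 _ _ d1 _ h4
      have h6 : s * r * (s * r) = 1 := by
        calc s * r * (s * r) = s * (r * s) * r := by group
          _ = s * (s * r) * r := by rw [h3]
          _ = (s * s) * (r * r) := by group
          _ = n1 * n1 := by rw [hss, hrr]
          _ = 1 := n1_sq
      rw [IsNeg, h6] at h5
      exact n1_ne h5.symm
    · exact h3
  have hconj : r * (s * t) * r⁻¹ = n1 * (s * t) := by
    rw [mul_inv_eq_iff_eq_mul]
    calc r * (s * t) = (r * s) * t := by group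
      _ = n1 * (s * r) * t := by rw [hrs]
      _ = n1 * s * (r * t) := by group
      _ = n1 * s * (t * r) := by rw [hrt]
      _ = n1 * (s * t) * r := by group
  have htr : tr8 (s * t) = 0 := by
    have h3 := tr8_conj r (s * t)
    rw [hconj, tr8_n1] at h3
    omega
  have htr' : tr8 g = 0 := by
    rcases eq_or_of_mk hgm with h3 | h3
    · rw [h3, htr]
    · rw [h3, tr8_n1, htr, neg_zero]
  rcases cases_one hgg (by rw [hg, ← C.pi_cu]; exact h2 i) with h3 | h3 | h3
  · rw [h3.tr] at htr'; omega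
  · have := h3.tr
    rw [tr8_n1, htr'] at this; omega
  · exact h3

end Cfsg.Agent.H820.Par
end

-- part: H820/Par/TriEA
section
/-!
# S2198: the case division in Case 1, elementary abelian case (helper820)
-/

set_option autoImplicit false

namespace Cfsg.Agent.H820.Par

open Cfsg Cfsg.Spor Cfsg.Agent.MonsterX Cfsg.Agent.BpSpor.MBigModel Cfsg.Agent.MonsterU Cfsg.Agent.MonsterU.Lam2
open Cfsg.Agent.SporadicA.Co0Mono hiding mk
open Cfsg.Agent.SporadicA.Co1Simple Cfsg.Agent.CoOneType.ClosingFacts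
open Cfsg.Agent.Co2Type.Mono (tr8 tr8_conj)
open Cfsg.Agent.CoOneType.SignFacts (wt)
open Subgroup (centralizer mem_centralizer_singleton_iff)

/-! ### five commuting involutions -/

section Phi

variable {G : Type*} [Group G] (T : Fin 5 → G)

/-- the product of the `T i` with exponents `v i` -/
def phi (v : Fin 5 → ZMod 2) : G :=
  T 0 ^ (v 0).val * T 1 ^ (v 1).val * T 2 ^ (v 2).val * T 3 ^ (v 3).val * T 4 ^ (v 4).val

theorem pow_val_add {a : G} (h : a * a = 1) : ∀ m n : ZMod 2, a ^ (m + n).val = a ^ m.val * a ^ n.val := by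
  intro m n
  rcases (by revert m n; decide : ∀ m n : ZMod 2, ((m + n).val = m.val + n.val) ∨
    ((m + n).val = 0 ∧ m.val = 1 ∧ n.val = 1)) m n with h1 | ⟨h1, h2, h3⟩
  · rw [h1, pow_add]
  · rw [h1, h2, h3, pow_zero, pow_one, h]

variable {T}

theorem phi_add (hsq : ∀ i, T i * T i = 1) (hc : ∀ i j, T i * T j = T j * T i) (v w : Fin 5 → ZMod 2) :
    phi T (v + w) = phi T v * phi T w := by
  have hcc : ∀ i j m n, Commute (T i ^ m) (T j ^ n) := fun i j m n => (show Commute (T i) (T j) from hc i j).pow_pow m n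
  unfold phi
  simp only [Pi.add_apply, pow_val_add (hsq _)]
  have e1 : ∀ a b c d : G, Commute b c → a * b * (c * d) = a * c * (b * d) := fun a b c d h =>
    h.mul_mul_mul_comm a d
  symm
  rw [e1 _ (T 4 ^ (v 4).val) _ (T 4 ^ (w 4).val)
    ((((hcc 4 0 _ _).mul_right (hcc 4 1 _ _)).mul_right (hcc 4 2 _ _)).mul_right (hcc 4 3 _ _)),
    e1 _ (T 3 ^ (v 3).val) _ (T 3 ^ (w 3).val)
    (((hcc 3 0 _ _).mul_right (hcc 3 1 _ _)).mul_right (hcc 3 2 _ _)),
    e1 _ (T 2 ^ (v 2).val) _ (T 2 ^ (w 2).val) ((hcc 2 0 _ _).mul_right (hcc 2 1 _ _)),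
    e1 _ (T 1 ^ (v 1).val) _ (T 1 ^ (w 1).val) (hcc 1 0 _ _)]

theorem phi_zero : phi T 0 = 1 := by
  simp [phi]

theorem phi_self (hsq : ∀ i, T i * T i = 1) (hc : ∀ i j, T i * T j = T j * T i) (v : Fin 5 → ZMod 2) :
    phi T v * phi T v = 1 := by
  rw [← phi_add hsq hc]
  have : v + v = 0 := by
    funext i
    exact (by decide : ∀ a : ZMod 2, a + a = 0) (v i)
  rw [this, phi_zero]

theorem phi_comm (hsq : ∀ i, T i * T i = 1) (hc : ∀ i j, T i * T j = T j * T i) (v w : Fin 5 → ZMod 2) :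
    phi T v * phi T w = phi T w * phi T v := by
  rw [← phi_add hsq hc, ← phi_add hsq hc, add_comm]

/-- the basis vector -/
def ev (i : Fin 5) : Fin 5 → ZMod 2 := fun j => if j = i then 1 else 0

theorem phi_ev : ∀ i, phi T (ev i) = T i := by
  intro i
  unfold phi ev
  fin_cases i <;> simp [ZMod.val_one]

end Phi

/-! ### the trace of an idempotent -/

open Cfsg.Agent.SigZeroCo2.Lin (rep Sp trace_rep tr8_one) in
/-- The multiplicity of the trivial character of a group generated by four commuting involutions. -/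
theorem trace_sum {a b c d : Co0} (ha : a * a = 1) (hb : b * b = 1) (hc : c * c = 1) (hd : d * d = 1)
    (hab : a * b = b * a) (hac : a * c = c * a) (had : a * d = d * a) (hbc : b * c = c * b) (hbd : b * d = d * b)
    (hcd : c * d = d * c) : ∃ n : ℕ, (128 * n : ℤ) = tr8 1 + tr8 a + tr8 b + tr8 c + tr8 d + tr8 (a * b) +
      tr8 (a * c) + tr8 (a * d) + tr8 (b * c) + tr8 (b * d) + tr8 (c * d) + tr8 (a * b * c) + tr8 (a * b * d) +
      tr8 (a * c * d) + tr8 (b * c * d) + tr8 (a * b * c * d) := by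
  have id2 : ∀ {x : Co0}, x * x = 1 → (1 + rep x) * (1 + rep x) = (2 : ℚ) • (1 + rep x) := by
    intro x hx
    have h1 : rep x * rep x = 1 := by rw [← map_mul, hx, map_one]
    rw [add_mul, mul_add, mul_add, h1, one_mul, one_mul, mul_one, two_smul]
    abel
  have cm : ∀ {x y : Co0}, x * y = y * x → (1 + rep x) * (1 + rep y) = (1 + rep y) * (1 + rep x) := by
    intro x y hxy
    have h1 : rep x * rep y = rep y * rep x := by rw [← map_mul, hxy, map_mul]
    rw [add_mul, mul_add, mul_add, h1, add_mul, mul_add, mul_add, one_mul, one_mul, one_mul, mul_one, mul_one]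
    abel
  set A := 1 + rep a with hA
  set B := 1 + rep b with hB
  set C := 1 + rep c with hC
  set D := 1 + rep d with hD
  have hAA : A * A = (2 : ℚ) • A := id2 ha
  have hBB : B * B = (2 : ℚ) • B := id2 hb
  have hCC : C * C = (2 : ℚ) • C := id2 hc
  have hDD : D * D = (2 : ℚ) • D := id2 hd
  have hAB : A * B = B * A := cm hab
  have hAC : A * C = C * A := cm hac
  have hAD : A * D = D * A := cm had
  have hBC : B * C = C * B := cm hbc
  have hBD : B * D = D * B := cm hbd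
  have hCD : C * D = D * C := cm hcd
  set P := (1 / 16 : ℚ) • (A * B * C * D) with hP
  have hPP : P * P = P := by
    have h1 : (A * B * C * D) * (A * B * C * D) = (16 : ℚ) • (A * B * C * D) := by
      have e1 : ∀ x y z w : Module.End ℚ Sp, y * z = z * y → x * y * (z * w) = x * z * (y * w) := fun x y z w h =>
        (show Commute y z from h).mul_mul_mul_comm x w
      rw [e1 (A * B * C) D (A * B * C) D (by
          calc D * (A * B * C) = D * A * B * C := by simp only [mul_assoc]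
            _ = A * (D * B) * C := by rw [← hAD]; simp only [mul_assoc]
            _ = A * B * (D * C) := by rw [← hBD]; simp only [mul_assoc]
            _ = A * B * C * D := by rw [← hCD]; simp only [mul_assoc]),
        e1 (A * B) C (A * B) C (by
          calc C * (A * B) = C * A * B := by simp only [mul_assoc]
            _ = A * (C * B) := by rw [← hAC]; simp only [mul_assoc]
            _ = A * B * C := by rw [← hBC]; simp only [mul_assoc]),
        e1 A B A B hAB.symm, hAA, hBB, hCC, hDD]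
      simp only [smul_mul_assoc, mul_smul_comm, smul_smul]
      norm_num
    rw [hP, smul_mul_smul_comm, h1, smul_smul]
    norm_num
  have hproj : LinearMap.IsProj (LinearMap.range P) P := by
    constructor
    · intro x; exact LinearMap.mem_range_self _ _
    · rintro _ ⟨x, rfl⟩
      rw [← Module.End.mul_apply, hPP]
  refine ⟨Module.finrank ℚ (LinearMap.range P), ?_⟩
  have htr := hproj.trace
  have hexp : A * B * C * D = rep 1 + rep a + rep b + rep c + rep d + rep (a * b) + rep (a * c) + rep (a * d) +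
      rep (b * c) + rep (b * d) + rep (c * d) + rep (a * b * c) + rep (a * b * d) + rep (a * c * d) +
      rep (b * c * d) + rep (a * b * c * d) := by
    simp only [map_mul, map_one]
    rw [hA, hB, hC, hD]
    noncomm_ring
  generalize Module.finrank ℚ (LinearMap.range P) = n at htr ⊢
  rw [hP, hexp, map_smul] at htr
  simp only [map_add, trace_rep, smul_eq_mul] at htr
  have h2 : ((128 * (n : ℤ) : ℤ) : ℚ) = ((tr8 1 + tr8 a + tr8 b + tr8 c + tr8 d +
      tr8 (a * b) + tr8 (a * c) + tr8 (a * d) + tr8 (b * c) + tr8 (b * d) + tr8 (c * d) + tr8 (a * b * c) +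
      tr8 (a * b * d) + tr8 (a * c * d) + tr8 (b * c * d) + tr8 (a * b * c * d) : ℤ) : ℚ) := by
    push_cast
    rw [← htr]
    ring
  exact_mod_cast h2

/-! ### identities of vectors modulo two -/

/-- the vector of weight four without `i` -/
def wv (i : Fin 5) : Fin 5 → ZMod 2 := fun j => if j = i then 0 else 1

theorem wv_nx : ∀ i, (ev (nx i 0) + ev (nx i 1)) + (ev (nx i 2) + ev (nx i 3)) = wv i := by
  decide +kernel

theorem wv_add : ∀ i j, wv i + wv j = ev i + ev j := by decide +kernel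

theorem wv_sum : wv 0 + wv 1 + wv 2 + wv 3 + wv 4 = 0 := by decide +kernel

theorem wv_perm : ∀ (σ : Equiv.Perm (Fin 5)) (i : Fin 5),
    (ev (σ (nx i 0)) + ev (σ (nx i 1))) + (ev (σ (nx i 2)) + ev (σ (nx i 3))) = wv (σ i) := by
  decide +kernel

/-! ### the elementary abelian case -/

/-- **The elementary abelian case.** -/
theorem case_ea (hD : DodStmt) (C : JC zz) (h1 : ∀ i j, i ≠ j → pi (C.ce i j) ≠ 1) (h2 : ∀ i, pi (C.cu i) ≠ 1)
    {g₀ : Co0} (hg₀ : mk g₀ = C.x 0 1) (hsq0 : g₀ * g₀ = 1) :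
    (∃ A : EA C, ∀ i, IsOct (n1 * A.U i)) ∨ ∃ A : EA C, ∀ i, IsOct (A.U i) := by
  have hsq : ∀ {i j : Fin 5}, i ≠ j → ∀ {g : Co0}, mk g = C.x i j → g * g = 1 := by
    intro i j hij g hg
    rw [sq_const C hij (by decide : (0 : Fin 5) ≠ 1) hg hg₀, hsq0]
  -- the lifts of trace 8
  have hex : ∀ i j : Fin 5, ∃ Y : Co0, i ≠ j → IsOct Y ∧ mk Y = C.x i j := by
    intro i j
    by_cases hij : i = j
    · exact ⟨1, fun h => absurd hij h⟩
    obtain ⟨g, hg⟩ := exists_mk (C.x i j)
    have hne : mk g ≠ 1 := by rw [hg]; exact h1 i j hij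
    rcases cases_one (hsq hij hg) hne with h | h | h
    · exact ⟨g, fun _ => ⟨h, hg⟩⟩
    · exact ⟨n1 * g, fun _ => ⟨h, by rw [mk_n1, hg]⟩⟩
    · exact absurd (C.e_sq i j hij) (hD g h (C.ce i j) hg.symm)
  choose Y hY using hex
  have hYo : ∀ {i j : Fin 5}, i ≠ j → IsOct (Y i j) := fun h => (hY _ _ h).1
  have hYm : ∀ {i j : Fin 5}, i ≠ j → mk (Y i j) = C.x i j := fun h => (hY _ _ h).2
  have hYsq : ∀ {i j : Fin 5}, i ≠ j → Y i j * Y i j = 1 := fun h => hsq h (hYm h)
  have hYs : ∀ {i j : Fin 5}, i ≠ j → Y j i = Y i j := fun h =>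
    oct_unique (hYo h.symm) (hYo h) (by rw [hYm h.symm, hYm h, C.x_swap])
  have hYc : ∀ {σ : alternatingGroup (Fin 5)} {κ : Co0}, mk κ = C.y σ → ∀ {i j : Fin 5}, i ≠ j →
      κ * Y i j * κ⁻¹ = Y ((σ : Equiv.Perm (Fin 5)) i) ((σ : Equiv.Perm (Fin 5)) j) := by
    intro σ κ hκ i j hij
    have hij' : (σ : Equiv.Perm (Fin 5)) i ≠ (σ : Equiv.Perm (Fin 5)) j := fun h => hij (σ.1.injective h)
    exact oct_unique ((hYo hij).conj κ) (hYo hij') (by rw [lift_conj C hκ (hYm hij), hYm hij'])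
  -- the sign
  obtain ⟨s, hs, hs2, hs3⟩ : ∃ s : Co0, (s = 1 ∨ s = n1) ∧ s * s = 1 ∧ Y 0 1 * Y 1 2 = s * Y 0 2 := by
    have e : mk (Y 0 1 * Y 1 2) = mk (Y 0 2) := by
      rw [mk_mul, hYm (by decide), hYm (by decide), hYm (by decide), C.x_mul]
    rcases eq_or_of_mk e with h | h
    · exact ⟨1, Or.inl rfl, one_mul 1, by rw [one_mul, h]⟩
    · exact ⟨n1, Or.inr rfl, n1_sq, h⟩
  have hsc : ∀ g : Co0, s * g = g * s := by
    intro g
    rcases hs with rfl | rfl
    · rw [one_mul, mul_one]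
    · exact n1_comm g
  have hsm : ∀ g : Co0, mk (s * g) = mk g := by
    intro g
    rcases hs with rfl | rfl
    · rw [one_mul]
    · exact mk_n1 g
  have hYY : ∀ {i j l : Fin 5}, i ≠ j → i ≠ l → j ≠ l → Y i j * Y j l = s * Y i l := by
    intro i j l hij hil hjl
    obtain ⟨σ, e0, e1, e2⟩ := tri_perm i j l hij hil hjl
    obtain ⟨κ, hκ⟩ := exists_mk (C.y σ)
    have a1 := hYc hκ (i := 0) (j := 1) (by decide)
    have a2 := hYc hκ (i := 1) (j := 2) (by decide)
    have a3 := hYc hκ (i := 0) (j := 2) (by decide)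
    rw [e0, e1] at a1
    rw [e1, e2] at a2
    rw [e0, e2] at a3
    rw [← a1, ← a2, ← a3]
    calc κ * Y 0 1 * κ⁻¹ * (κ * Y 1 2 * κ⁻¹) = κ * (Y 0 1 * Y 1 2) * κ⁻¹ := by group
      _ = κ * (s * Y 0 2) * κ⁻¹ := by rw [hs3]
      _ = s * (κ * Y 0 2 * κ⁻¹) := by rw [← mul_assoc κ, ← hsc κ]; group
  -- the elements `Z`
  set Z : Fin 5 → Fin 5 → Co0 := fun i j => if i = j then 1 else s * Y i j with hZ
  have Z_self : ∀ i, Z i i = 1 := fun i => if_pos rfl
  have Z_ne : ∀ {i j : Fin 5}, i ≠ j → Z i j = s * Y i j := fun h => if_neg h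
  have Zm : ∀ i j, mk (Z i j) = C.x i j := by
    intro i j
    by_cases h : i = j
    · subst h; rw [Z_self, C.x_self]; rfl
    · rw [Z_ne h, hsm, hYm h]
  have Zsq : ∀ i j, Z i j * Z i j = 1 := by
    intro i j
    by_cases h : i = j
    · subst h; rw [Z_self, one_mul]
    · exact hsq h (Zm i j)
  have Zs : ∀ i j, Z j i = Z i j := by
    intro i j
    by_cases h : i = j
    · subst h; rfl
    · rw [Z_ne h, Z_ne (Ne.symm h), hYs h]
  have Zmul : ∀ i j l, Z i j * Z j l = Z i l := by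
    intro i j l
    by_cases hij : i = j
    · subst hij; rw [Z_self, one_mul]
    by_cases hjl : j = l
    · subst hjl; rw [Z_self, mul_one]
    by_cases hil : i = l
    · subst hil; rw [Zs, Zsq, Z_self]
    rw [Z_ne hij, Z_ne hjl, Z_ne hil]
    calc s * Y i j * (s * Y j l) = (s * s) * (Y i j * Y j l) := by
          rw [mul_assoc, ← mul_assoc (Y i j), ← hsc (Y i j)]; simp only [mul_assoc]
      _ = s * Y i l := by rw [hs2, one_mul, hYY hij hil hjl]
  have Zc : ∀ {σ : alternatingGroup (Fin 5)} {κ : Co0}, mk κ = C.y σ → ∀ i j : Fin 5,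
      κ * Z i j * κ⁻¹ = Z ((σ : Equiv.Perm (Fin 5)) i) ((σ : Equiv.Perm (Fin 5)) j) := by
    intro σ κ hκ i j
    by_cases h : i = j
    · subst h; rw [Z_self, Z_self]; group
    · have h' : (σ : Equiv.Perm (Fin 5)) i ≠ (σ : Equiv.Perm (Fin 5)) j := fun e => h (σ.1.injective e)
      rw [Z_ne h, Z_ne h', ← hYc hκ h, ← mul_assoc κ, ← hsc κ]
      group
  set T : Fin 5 → Co0 := fun i => Z 0 i with hT
  have Tsq : ∀ i, T i * T i = 1 := fun i => Zsq 0 i
  have TT : ∀ i j, T i * T j = Z i j := by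
    intro i j
    show Z 0 i * Z 0 j = _
    rw [← Zs 0 i, Zmul]
  have Tc : ∀ i j, T i * T j = T j * T i := fun i j => by rw [TT, TT, Zs]
  have ZP : ∀ i j, Z i j = phi T (ev i + ev j) := by
    intro i j
    rw [phi_add Tsq Tc, phi_ev, phi_ev, TT]
  have Pm : ∀ i, phi T (wv i) = Z (nx i 0) (nx i 1) * Z (nx i 2) (nx i 3) := by
    intro i
    rw [ZP, ZP, ← phi_add Tsq Tc, wv_nx]
  have Pmk : ∀ i, mk (phi T (wv i)) = pi (C.cu i) := by
    intro i
    rw [Pm, mk_mul, Zm, Zm, C.pi_cu]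
  have Pconj : ∀ (σ : alternatingGroup (Fin 5)) (κ : Co0), mk κ = pi (C.ck σ) →
      ∀ i, κ * phi T (wv i) * κ⁻¹ = phi T (wv ((σ : Equiv.Perm (Fin 5)) i)) := by
    intro σ κ hκ i
    rw [Pm]
    have e1 : κ * (Z (nx i 0) (nx i 1) * Z (nx i 2) (nx i 3)) * κ⁻¹ =
        (κ * Z (nx i 0) (nx i 1) * κ⁻¹) * (κ * Z (nx i 2) (nx i 3) * κ⁻¹) := by group
    rw [e1, Zc hκ, Zc hκ, ZP, ZP, ← phi_add Tsq Tc, wv_perm]
  -- traces
  obtain ⟨t1, ht1, hZt⟩ : ∃ t : ℤ, (t = 64 ∨ t = -64) ∧ ∀ {i j : Fin 5}, i ≠ j → tr8 (Z i j) = t := by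
    rcases hs with hs' | hs'
    · refine ⟨64, Or.inl rfl, fun {i j} h => ?_⟩
      rw [Z_ne h, hs', one_mul, (hYo h).tr]
    · refine ⟨-64, Or.inr rfl, fun {i j} h => ?_⟩
      rw [Z_ne h, hs', tr8_n1, (hYo h).tr]
  have hPt : ∀ i, tr8 (phi T (wv i)) = tr8 (phi T (wv 0)) := by
    intro i
    obtain ⟨σ, hσ⟩ : ∃ σ : alternatingGroup (Fin 5), (σ : Equiv.Perm (Fin 5)) 0 = i := by
      obtain ⟨l, hl, -⟩ := third_point i i
      obtain ⟨m, hm1, hm2⟩ := third_point i l
      obtain ⟨σ, h0, -, -⟩ := tri_perm i l m hl.symm hm1.symm hm2.symm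
      exact ⟨σ, h0⟩
    obtain ⟨κ, hκ⟩ := exists_mk (C.y σ)
    rw [← hσ, ← Pconj σ κ hκ 0, tr8_conj]
  have hT' : ∀ i : Fin 5, T i = phi T (ev i) := fun i => (phi_ev i).symm
  have h0 : phi T (ev 0) = 1 := by rw [phi_ev]; exact Z_self 0
  -- the sum
  obtain ⟨n, hn⟩ := trace_sum (Tsq 1) (Tsq 2) (Tsq 3) (Tsq 4) (Tc 1 2) (Tc 1 3) (Tc 1 4) (Tc 2 3) (Tc 2 4) (Tc 3 4)
  have T1 : ∀ {i : Fin 5}, (0 : Fin 5) ≠ i → tr8 (T i) = t1 := fun h => hZt h
  have T2 : ∀ {i j : Fin 5}, i ≠ j → tr8 (T i * T j) = t1 := fun {i j} h => by rw [TT]; exact hZt h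
  have T3 : ∀ {i j l m : Fin 5}, ev i + ev j + ev l + ev 0 = wv m → tr8 (T i * T j * T l) = tr8 (phi T (wv 0)) := by
    intro i j l m e
    rw [← hPt m, ← e, phi_add Tsq Tc, phi_add Tsq Tc, phi_add Tsq Tc, h0, mul_one, phi_ev, phi_ev, phi_ev]
  have T4 : tr8 (T 1 * T 2 * T 3 * T 4) = tr8 (phi T (wv 0)) := by
    have e : wv 0 = ev 1 + ev 2 + ev 3 + ev 4 := by decide +kernel
    rw [e, phi_add Tsq Tc, phi_add Tsq Tc, phi_add Tsq Tc, phi_ev, phi_ev, phi_ev, phi_ev]
  rw [Cfsg.Agent.SigZeroCo2.Lin.tr8_one, T1 (by decide), T1 (by decide), T1 (by decide), T1 (by decide),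
    T2 (by decide), T2 (by decide), T2 (by decide), T2 (by decide), T2 (by decide), T2 (by decide),
    T3 (m := 4) (by decide +kernel), T3 (m := 3) (by decide +kernel), T3 (m := 2) (by decide +kernel),
    T3 (m := 1) (by decide +kernel), T4] at hn
  have hU0 := cases_one (phi_self Tsq Tc (wv 0)) (by rw [Pmk]; exact h2 0)
  have ht : t1 = 64 ∧ (IsOct (phi T (wv 0)) ∨ IsOct (n1 * phi T (wv 0))) := by
    rcases hU0 with h | h | h
    · have := h.tr
      rw [this] at hn
      rcases ht1 with rfl | rfl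
      · exact ⟨rfl, Or.inl h⟩
      · exfalso; omega
    · have := h.tr
      rw [tr8_n1] at this
      rcases ht1 with rfl | rfl
      · exact ⟨rfl, Or.inr h⟩
      · exfalso; omega
    · have := h.tr
      rw [this] at hn
      exfalso
      rcases ht1 with rfl | rfl <;> omega
  obtain ⟨rfl, hU⟩ := ht
  have hs1 : s = 1 := by
    rcases hs with h | h
    · exact h
    · exfalso
      have := hZt (i := 0) (j := 1) (by decide)
      rw [Z_ne (by decide), h, tr8_n1, (hYo (by decide)).tr] at this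
      omega
  let A : EA C := {
    U := fun i => phi T (wv i)
    sq := fun i => phi_self Tsq Tc _
    comm := fun i j => phi_comm Tsq Tc _ _
    prod := by
      rw [← phi_add Tsq Tc, ← phi_add Tsq Tc, ← phi_add Tsq Tc, ← phi_add Tsq Tc, wv_sum, phi_zero]
    mk_U := Pmk
    mk_UU := fun i j _ => by
      rw [← phi_add Tsq Tc, wv_add, ← ZP, Zm]; rfl
    conj := Pconj
    octUU := fun i j hij => by
      rw [← phi_add Tsq Tc, wv_add, ← ZP, Z_ne hij, hs1, one_mul]
      exact hYo hij }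
  have hconj : ∀ i, ∃ κ : Co0, κ * phi T (wv 0) * κ⁻¹ = phi T (wv i) := by
    intro i
    obtain ⟨σ, hσ⟩ : ∃ σ : alternatingGroup (Fin 5), (σ : Equiv.Perm (Fin 5)) 0 = i := by
      obtain ⟨l, hl, -⟩ := third_point i i
      obtain ⟨m, hm1, hm2⟩ := third_point i l
      obtain ⟨σ, h0, -, -⟩ := tri_perm i l m hl.symm hm1.symm hm2.symm
      exact ⟨σ, h0⟩
    obtain ⟨κ, hκ⟩ := exists_mk (C.y σ)
    exact ⟨κ, by rw [Pconj σ κ hκ 0, hσ]⟩
  rcases hU with h | h
  · right
    refine ⟨A, fun i => ?_⟩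
    obtain ⟨κ, hκ⟩ := hconj i
    show IsOct (phi T (wv i))
    rw [← hκ]
    exact h.conj κ
  · left
    refine ⟨A, fun i => ?_⟩
    obtain ⟨κ, hκ⟩ := hconj i
    show IsOct (n1 * phi T (wv i))
    rw [← hκ]
    have e : n1 * (κ * phi T (wv 0) * κ⁻¹) = κ * (n1 * phi T (wv 0)) * κ⁻¹ := by
      rw [← mul_assoc κ, ← n1_comm κ]; group
    rw [e]
    exact h.conj κ

/-- **The case division.** -/
theorem cases (hD : DodStmt) (C : JC zz) (h1 : ∀ i j, i ≠ j → pi (C.ce i j) ≠ 1) (h2 : ∀ i, pi (C.cu i) ≠ 1) :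
    (∃ A : EA C, ∀ i, IsOct (signCo0 allOne * A.U i)) ∨ (∃ A : EA C, ∀ i, IsOct (A.U i)) ∨
      ((∀ i j, i ≠ j → ∀ g : Co0, mk g = pi (C.ce i j) → IsNeg g) ∧
        ∀ i, ∀ g : Co0, mk g = pi (C.cu i) → IsDod g) := by
  obtain ⟨g₀, hg₀⟩ := exists_mk (C.x 0 1)
  rcases sq_cases (g := g₀) (by rw [hg₀, C.x_sq]) with h | h
  · rcases case_ea hD C h1 h2 hg₀ h with h3 | h3
    · exact Or.inl h3
    · exact Or.inr (Or.inl h3)
  · exact Or.inr (Or.inr (case_neg C h2 hg₀ h))

end Cfsg.Agent.H820.Par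
end

-- part: H820/Par/Asm
section
/-!
# S2198: assembly of "`J₃` is not a subgroup of the Monster" (helper820)
-/

set_option autoImplicit false

namespace Cfsg.Agent.H820.Par

open Cfsg Cfsg.Spor Cfsg.Agent.MonsterX Cfsg.Agent.BpSpor.MBigModel Cfsg.Agent.MonsterU Cfsg.Agent.MonsterU.Lam2
open Cfsg.Agent.SporadicA.Co0Mono hiding mk
open Cfsg.Agent.SporadicA.Co1Simple Cfsg.Agent.CoOneType.ClosingFacts
open Subgroup (centralizer mem_centralizer_singleton_iff)

/-! ### transport -/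

section

variable {H G : Type*} [Group H] [Group G] {z : H} {w : G} (f : H →* G)

/-- transport of `JC` -/
def JC.map (hf : Function.Injective f) (hw : f z = w) (C : JC z) : JC w where
  J := C.J.map f
  e i j := f (C.e i j)
  k := f.comp C.k
  e_mem i j := Subgroup.mem_map_of_mem f (C.e_mem i j)
  k_mem σ := Subgroup.mem_map_of_mem f (C.k_mem σ)
  z_ne h := C.z_ne (hf (by rw [hw, h, map_one]))
  e_mul i j l := by rw [← map_mul, C.e_mul]
  e_sq i j h := by rw [← map_mul, C.e_sq i j h, hw]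
  e_comm i j l m h1 h2 h3 h4 := by rw [← map_mul, ← map_mul, C.e_comm i j l m h1 h2 h3 h4]
  k_conj σ i j := by
    show f (C.k σ) * f (C.e i j) * (f (C.k σ))⁻¹ = _
    rw [← map_inv, ← map_mul, ← map_mul, C.k_conj]
  inv x hx hxx hx1 := by
    obtain ⟨y, hy, rfl⟩ := hx
    obtain ⟨g, hg⟩ := C.inv y hy (hf (by rw [map_mul, hxx, map_one])) (fun h => hx1 (by rw [h, map_one]))
    exact ⟨f g, by rw [← hw, ← map_inv, ← map_mul, ← map_mul, hg]⟩

theorem JC.map_u (hf : Function.Injective f) (hw : f z = w) (C : JC z) (i : Fin 5) :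
    (C.map f hf hw).u i = f (C.u i) := by
  show f _ * f _ = f (_ * _)
  rw [map_mul]

theorem JC.map_O (hf : Function.Injective f) (hw : f z = w) (C : JC z) {s : H} (hs : s ∈ C.O) :
    f s ∈ (C.map f hf hw).O := by
  have h1 : C.O ≤ ((C.map f hf hw).O).comap f := by
    unfold JC.O
    rw [Subgroup.closure_le]
    rintro _ ⟨p, rfl⟩
    exact Subgroup.subset_closure ⟨p, rfl⟩
  exact h1 hs

/-- transport of `JD` -/
def JD.map (hf : Function.Injective f) (hw : f z = w) (D : JD z) : JD w where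
  toJC := D.toJC.map f hf hw
  g := f D.g
  p := f D.p
  q := f D.q
  x := f D.x
  g_z := by rw [JC.map_u, ← hw, ← map_inv, ← map_mul, ← map_mul, D.g_z]
  p_mem := by
    obtain ⟨s, hs, h⟩ := D.p_mem
    exact ⟨f s, JC.map_O f hf hw _ hs, by rw [h, map_mul, map_mul, map_inv]⟩
  q_mem := by
    obtain ⟨s, hs, h⟩ := D.q_mem
    exact ⟨f s, JC.map_O f hf hw _ hs, by rw [h, map_mul, map_mul, map_inv]⟩
  p_z := by rw [← hw, ← map_mul, ← map_mul, D.p_z]
  q_z := by rw [← hw, ← map_mul, ← map_mul, D.q_z]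
  x_mem := JC.map_O f hf hw _ D.x_mem
  x_u := by rw [JC.map_u, ← hw, ← map_mul, ← map_mul, ← map_mul, D.x_u]
  prod := by
    rw [JC.map_u, ← hw]
    simp only [← map_mul, ← map_inv]
    rcases D.prod with h | h
    · left; rw [h]
    · right; rw [h]

end

/-! ### Case 2 -/

theorem x_all {C : JC zz} (h : C.x 0 1 = 1) (i j : Fin 5) : C.x i j = 1 := by
  by_cases hij : i = j
  · subst hij; exact C.x_self i
  obtain ⟨l, hl1, hl2⟩ := third_point i j
  obtain ⟨σ, h0, h1, -⟩ := tri_perm i j l hij hl1.symm hl2.symm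
  rw [← h0, ← h1, ← C.y_conj, h, mul_one, mul_inv_cancel]

theorem x_one_of {C : JC zz} {i j : Fin 5} (hij : i ≠ j) (h : C.x i j = 1) : C.x 0 1 = 1 := by
  obtain ⟨l, hl1, hl2⟩ := third_point i j
  obtain ⟨σ, h0, h1, -⟩ := tri_perm i j l hij hl1.symm hl2.symm
  rw [← h0, ← h1, ← C.y_conj, mul_inv_eq_one] at h
  exact mul_left_cancel (h.trans (mul_one _).symm)

theorem u_one_of {C : JC zz} {i : Fin 5} (h : pi (C.cu i) = 1) : C.x 0 1 = 1 := by
  obtain ⟨d01, d02, d03, d12, d13, d23, d0, d1, d2, d3⟩ := nx_facts i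
  have key : ∀ {a b c d : Fin 5}, a ≠ b → a ≠ c → a ≠ d → b ≠ c → b ≠ d → c ≠ d →
      (C.x a b = C.x c d ↔ C.x 0 1 = C.x 2 3) := by
    intro a b c d hab hac had hbc hbd hcd
    obtain ⟨σ, h0, h1, h2⟩ := quad_perm a b c d hab hac had hbc hbd hcd
    have e1 : C.x a b = C.y σ * C.x 0 1 * (C.y σ)⁻¹ := by rw [C.y_conj, h0, h1]
    have e2 : C.x c d = C.y σ * C.x 2 3 * (C.y σ)⁻¹ := by
      rw [C.y_conj]
      rcases h2 with ⟨h2, h3⟩ | ⟨h2, h3⟩
      · rw [h2, h3]
      · rw [h2, h3, C.x_swap]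
    rw [e1, e2]
    constructor
    · intro e; exact mul_left_cancel (mul_right_cancel e)
    · intro e; rw [e]
  have h1 : C.x (nx i 0) (nx i 1) = C.x (nx i 2) (nx i 3) := by
    rw [C.pi_cu] at h
    calc C.x (nx i 0) (nx i 1) = C.x (nx i 0) (nx i 1) * (C.x (nx i 2) (nx i 3) * C.x (nx i 2) (nx i 3)) := by
          rw [C.x_sq, mul_one]
      _ = C.x (nx i 2) (nx i 3) := by rw [← mul_assoc, h, one_mul]
  have h2 := (key d01 d02 d03 d12 d13 d23).1 h1
  have h3 : C.x 4 1 = C.x 2 3 :=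
    (key (by decide) (by decide) (by decide) (by decide) (by decide) (by decide)).2 h2
  have h4 : C.x 0 4 = 1 := by
    rw [← C.x_mul 0 1 4, C.x_swap 4 1, h3, h2, C.x_sq]
  exact x_one_of (by decide : (0 : Fin 5) ≠ 4) h4

theorem u_ne_z {G : Type*} [Group G] {z : G} (C : JC z) : C.u 4 ≠ z := by
  intro h
  have h0 : C.u 4 = C.e 0 1 * C.e 2 3 := rfl
  rw [h0] at h
  have h1 : C.e 2 3 = C.e 0 1 := mul_left_cancel (h.trans (C.e_sq 0 1 (by decide)).symm)
  have h2 : C.e 0 1 * C.e 0 4 = C.e 0 4 * C.e 0 1 := by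
    rw [← h1]
    exact C.e_comm 2 3 0 4 (by decide) (by decide) (by decide) (by decide)
  have h3 : C.e 1 0 * C.e 0 4 = C.e 1 4 := C.e_mul _ _ _
  have h4 : C.e 4 0 * C.e 0 1 = C.e 4 1 := C.e_mul _ _ _
  have h5 : C.e 1 4 = C.e 4 1 := by
    rw [← h3, ← h4, C.e_swap (by decide : (0 : Fin 5) ≠ 1), C.e_swap (by decide : (0 : Fin 5) ≠ 4), mul_assoc,
      mul_assoc, h2]
  rw [C.e_swap (by decide : (1 : Fin 5) ≠ 4)] at h5
  exact C.z_ne (mul_eq_right.1 h5.symm)

theorem O_le {C : JC zz} (h : C.x 0 1 = 1) : C.O ≤ QQ := by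
  unfold JC.O
  rw [Subgroup.closure_le]
  rintro _ ⟨p, rfl⟩
  exact (chart.pi_eq_one (C.ce p.1 p.2)).1 (x_all h p.1 p.2)

/-- **`J₃` data in the Monster are impossible.** -/
theorem no_JD (h2 : CaseTwoStmt) (hD : DodStmt) (hE1 : EOneStmt) (hE2 : ETwoStmt) (hE4 : EFourStmt)
    (D : JD zz) : False := by
  by_cases hx : D.toJC.x 0 1 = 1
  · have hO := O_le hx
    have hu : D.toJC.u 4 ∈ QQ := hO (mul_mem (Subgroup.subset_closure ⟨(0, 1), rfl⟩)
      (Subgroup.subset_closure ⟨(2, 3), rfl⟩))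
    refine h2 D.g (D.toJC.u 4) D.p D.q D.x hu D.g_z (u_ne_z _) (hO D.x_mem) D.x_u ?_ ?_ D.p_z D.q_z D.prod
    · obtain ⟨s, hs, h⟩ := D.p_mem
      exact ⟨s, hO hs, h⟩
    · obtain ⟨s, hs, h⟩ := D.q_mem
      exact ⟨s, hO hs, h⟩
  · rcases cases hD D.toJC (fun i j hij h => hx (x_one_of hij h)) (fun i h => hx (u_one_of h)) with
      ⟨A, hA⟩ | ⟨A, hA⟩ | ⟨hA, hB⟩
    · exact hE1 _ A hA
    · exact hE2 _ A hA
    · exact hE4 _ hA hB

/-- **No injective homomorphism from `J₃` to the Monster.** -/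
theorem no_hom (hJ : JSideStmt) (h2 : CaseTwoStmt) (hD : DodStmt) (hE1 : EOneStmt) (hE2 : ETwoStmt)
    (hE4 : EFourStmt) {H : Type} [Group H] (h : Spor.IsoJ3 H) (f : H →* Spor.Monster) : ¬ Function.Injective f := by
  intro hf
  obtain ⟨z, D, g, hg⟩ := hJ h
  obtain ⟨e⟩ := MonsterP.Equiv.equiv
  let F : H →* MG := e.toMonoidHom.comp f
  have hF : Function.Injective F := e.injective.comp hf
  have hzz : z * z = 1 := D.toJC.zsq
  have hz : z ≠ 1 := D.toJC.z_ne
  obtain ⟨k, hk⟩ := H935.RuM.conj_zz (u := F z) (g := F g) (by rw [← map_mul, hzz, map_one])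
    (fun h1 => hz (hF (by rw [h1, map_one]))) (by
      have h1 : F z * (F g * F z * (F g)⁻¹) = F (z * (g * z * g⁻¹)) := by simp only [map_mul, map_inv]
      rw [h1, orderOf_injective F hF]
      exact hg)
  let c : H →* MG := (MulAut.conj k⁻¹).toMonoidHom.comp F
  have hc : Function.Injective c := (MulAut.conj k⁻¹).injective.comp hF
  have hcz : c z = zz := by
    change k⁻¹ * F z * k⁻¹⁻¹ = zz
    rw [← hk]; group
  exact no_JD h2 hD hE1 hE2 hE4 (D.map c hc hcz)

/-- **No subgroup of the Monster is isomorphic to `J₃`.** -/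
theorem no_subgroup_of (hJ : JSideStmt) (h2 : CaseTwoStmt) (hD : DodStmt) (hE1 : EOneStmt) (hE2 : ETwoStmt)
    (hE4 : EFourStmt) (H : Subgroup Spor.Monster) : ¬ Spor.IsoJ3 ↥H := fun h =>
  no_hom hJ h2 hD hE1 hE2 hE4 h H.subtype H.subtype_injective

end Cfsg.Agent.H820.Par
end

private theorem dce_d3886e8fee67 : _root_.True := by
  try have : _root_.True := by simp only [_root_.Cfsg.Agent.H820.Par.IsNeg.eq_1]
  try have : _root_.True := by simp only [_root_.Cfsg.Agent.H820.Par.phi.eq_1]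
  exact _root_.True.intro
end

-- part: H820/Par/Final
section
prune_inst 0x1101400004000000000000040001c26c4000000000b80005840004400040a400000062004800000000000000000006000000010400000000a00040000050000008050023200a100240006802000000000000000000000000000000000000000000000000
set_option linter.all false
open scoped Cfsg.Agent.FastGrp

-- part: H660/JSideTab
section
/-!
# The complement `A₅` of `2^{1+4}_-` in the centraliser of an involution of `J₃` (helper660, S2198)

Corrected elements `yy k` of `C(z)` in `3·J₃` permuting the five involutions `vv i` without signs and generating a group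
of order `60`; the homomorphism `KK : A₅ → 3·J₃`; the data of case 2; an element `z * z^g` of order `9`.
-/

set_option autoImplicit false

namespace Cfsg.Agent.H660.JSide

open Cfsg.Spor Cfsg.Agent.J3.Core Cfsg.Agent.J3.Tab Cfsg.Agent.J3.Mono Cfsg.Agent.J3.Elts
open Cfsg.Agent.Lib.BitSet Cfsg.Agent.J3.Order Cfsg.Agent.J2Type.Model Cfsg.Agent.KFacts.J3W

/-! ### tables -/

/-- tables of the three elements -/
def yTs : List (List ℕ) := [
  [87381, 174762, 172214, 258267, 10910, 16359, 45674, 54207, 195855, 218629, 231375, 117061, 137450, 207999, 228147,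
    105745, 118515, 149329],
  [8381, 12502, 28306, 47075, 189574, 227531, 215167, 101525, 75020, 145924, 21976, 43628, 38719, 59669, 95332,
    170168, 82352, 164560],
  [183809, 214786, 184340, 221224, 3668, 1960, 104272, 190880, 122035, 156881, 144994, 203699, 219460, 110216, 152266,
    238415, 60751, 30341]]

def yT (k : ℕ) : List ℕ := get [] yTs k

/-- tables of words -/
def yWT : List ℕ → List ℕ
  | [] => tS 0
  | k :: w => compT (yT k) (yWT w)

/-- the word of an even permutation -/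
def kw (σ : Equiv.Perm (Fin 5)) : List ℕ := get [] aw (25 * (σ 0).val + 5 * (σ 1).val + (σ 2).val)

theorem chk_y0 : beqL (compT (get [] vTs 3) (compT (get [] vTs 4) (get [] cTs 0))) (yT 0) = true := by
  decide +kernel

theorem chk_y1 : beqL (compT (get [] vTs 1) (get [] cTs 1)) (yT 1) = true := by decide +kernel

theorem chk_y2 : beqL (compT (bT 24) (compT (get [] vTs 0) (get [] cTs 2))) (yT 2) = true := by decide +kernel

theorem chk_yv : ∀ k : Fin 3, ∀ i : Fin 5, beqL (cols (compT (yT k) (get [] vTs i)))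
    (cols (compT (get [] vTs (pk k i)) (yT k))) = true := by
  decide +kernel

theorem chk_mul : ∀ k : Fin 3, ∀ σ : Equiv.Perm (Fin 5), Equiv.Perm.sign σ = 1 →
    beqL (cols (compT (yT k) (yWT (kw σ)))) (cols (yWT (kw (pk k * σ)))) = true := by
  decide +kernel

theorem chk_sign : ∀ k : Fin 3, Equiv.Perm.sign (pk k) = 1 := by decide +kernel

/-- the inverse of `gw` -/
def giw : List ℕ := [2, 10, 29, 11, 4, 29, 3]

/-- the word of `g` -/
def gw : List ℕ := get [] vw 4

theorem chk_gok : okW gw = true ∧ okW giw = true := by decide +kernel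

def gT' : List ℕ := evT gw
def giT : List ℕ := evT giw

theorem chk_gi : beqL (cols (compT gT' giT)) (cols (tS 0)) = true := by decide +kernel

/-- `g (v i v j) g⁻¹` -/
def pT' (i j : ℕ) : List ℕ := compT gT' (compT (compT (get [] vTs i) (get [] vTs j)) giT)

theorem chk_pz : ∀ j : Fin 2, beqL (cols (compT (pT' 0 (j.val + 2)) (bT 24))) (cols (compT (bT 24) (pT' 0 (j.val + 2)))) = true := by
  decide +kernel

theorem chk_prod : beqL (cols (compT (get [] vTs 0) (compT (compT (pT' 0 2) (compT (get [] vTs 0) (pT' 2 0)))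
    (compT (compT (pT' 0 3) (compT (get [] vTs 0) (pT' 3 0)))
    (compT (compT (pT' 0 2) (pT' 0 3)) (compT (get [] vTs 0) (compT (pT' 3 0) (pT' 2 0))))))))
    (cols (compT (get [] vTs 4) (bT 24))) = true := by
  decide +kernel

/-- `z * z^g`, of order `9` -/
def xT : List ℕ := compT (bT 24) (evT [10, 24, 11])

def x3T : List ℕ := compT xT (compT xT xT)

theorem chk_x9 : beqL (cols (compT x3T (compT x3T x3T))) (cols (tS 0)) = true := by decide +kernel

theorem chk_x3 : ∃ z : F9, (cols (compT x3T (bT 12))).getD (idx z) 0 ≠ (cols (compT (bT 12) x3T)).getD (idx z) 0 := by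
  decide +kernel

theorem chk_xi : beqL (cols (compT (bT 10) (bT 11))) (cols (tS 0)) = true := by decide +kernel

/-! ### elements -/

section

variable {F : Type*} [Field F] {ω : F} {G : Gens F ω}

/-- three elements of `C(z)` permuting the `v i` without signs -/
def yy (G : Gens F ω) (k : ℕ) : threeJ3 F ω :=
  if k = 0 then vv G 3 * (vv G 4 * cc G 0) else if k = 1 then vv G 1 * cc G 1 else zz G * (vv G 0 * cc G 2)

theorem rep_y (H : Good ω) {k : ℕ} (hk : k < 3) : RepG ω (yT k) (yy G k) := by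
  interval_cases k
  · have h := (rep_v (G := G) H 3).mul ((rep_v (G := G) H 4).mul (rep_c (G := G) H (k := 0) (by norm_num)))
    exact (beqL_eq chk_y0) ▸ h
  · have h := (rep_v (G := G) H 1).mul (rep_c (G := G) H (k := 1) (by norm_num))
    exact (beqL_eq chk_y1) ▸ h
  · have h := (rep_z (G := G) H).mul ((rep_v (G := G) H 0).mul (rep_c (G := G) H (k := 2) (by norm_num)))
    exact (beqL_eq chk_y2) ▸ h

def yW (G : Gens F ω) : List ℕ → threeJ3 F ω
  | [] => 1
  | k :: w => yy G k * yW G w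

theorem rep_yW (H : Good ω) : ∀ w : List ℕ, (w.all fun k => Nat.blt k 3) = true → RepG ω (yWT w) (yW G w)
  | [], _ => repG_one H
  | k :: w, h => by
    rw [List.all_cons, Bool.and_eq_true] at h
    exact (rep_y H (Nat.le_of_ble_eq_true h.1)).mul (rep_yW H w h.2)

theorem kw_all (σ : Equiv.Perm (Fin 5)) : ((kw σ).all fun k => Nat.blt k 3) = true := by
  have hlt : 25 * (σ 0).val + 5 * (σ 1).val + (σ 2).val < 125 := by
    have := (σ 0).isLt
    have := (σ 1).isLt
    have := (σ 2).isLt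
    omega
  exact List.all_eq_true.1 chk_aw _ (List.mem_range.2 hlt)

theorem sign_pkW : ∀ w : List ℕ, (w.all fun k => Nat.blt k 3) = true → Equiv.Perm.sign (pkW w) = 1
  | [], _ => map_one _
  | k :: w, h => by
    rw [List.all_cons, Bool.and_eq_true] at h
    have h1 := chk_sign ⟨k, Nat.le_of_ble_eq_true h.1⟩
    show Equiv.Perm.sign (pk k * pkW w) = 1
    rw [map_mul, sign_pkW w h.2, mul_one]
    exact h1

theorem y_word (H : Good ω) : ∀ w : List ℕ, (w.all fun k => Nat.blt k 3) = true → yW G w = yW G (kw (pkW w))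
  | [], _ => by
    have : kw (pkW []) = [] := by decide +kernel
    rw [this]
  | k :: w, h => by
    have h' := h
    rw [List.all_cons, Bool.and_eq_true] at h
    have hk : k < 3 := Nat.le_of_ble_eq_true h.1
    have ih := y_word H w h.2
    have h1 := chk_mul ⟨k, hk⟩ (pkW w) (sign_pkW w h.2)
    have r1 := (rep_y (G := G) H hk).mul (rep_yW (G := G) H (kw (pkW w)) (kw_all _))
    have r2 := rep_yW (G := G) H (kw (pk k * pkW w)) (kw_all _)
    have h2 := r1.ext r2 (beqL_eq h1)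
    show yy G k * yW G w = _
    rw [ih, h2]
    rfl

theorem yW_append (a b : List ℕ) : yW G (a ++ b) = yW G a * yW G b := by
  induction a with
  | nil => rw [List.nil_append]; exact (one_mul _).symm
  | cons k a ih =>
    show yy G k * yW G (a ++ b) = yy G k * yW G a * yW G b
    rw [ih, mul_assoc]

theorem pkW_append (a b : List ℕ) : pkW (a ++ b) = pkW a * pkW b := by
  induction a with
  | nil => rw [List.nil_append]; exact (one_mul _).symm
  | cons k a ih =>
    show pk k * pkW (a ++ b) = pk k * pkW a * pkW b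
    rw [ih, mul_assoc]

/-- the complement `A₅` -/
def KK (G : Gens F ω) (H : Good ω) : alternatingGroup (Fin 5) →* threeJ3 F ω where
  toFun σ := yW G (kw σ.1)
  map_one' := by
    have : kw (1 : Equiv.Perm (Fin 5)) = [] := by decide +kernel
    show yW G (kw (1 : Equiv.Perm (Fin 5))) = 1
    rw [this]
    rfl
  map_mul' σ τ := by
    show yW G (kw (σ.1 * τ.1)) = yW G (kw σ.1) * yW G (kw τ.1)
    have h1 := chk_A5 σ.1 (Equiv.Perm.mem_alternatingGroup.1 σ.2)
    have h2 := chk_A5 τ.1 (Equiv.Perm.mem_alternatingGroup.1 τ.2)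
    have h3 : pkW (kw σ.1 ++ kw τ.1) = σ.1 * τ.1 := by
      rw [pkW_append]
      exact congrArg₂ (· * ·) h1.symm h2.symm
    have h4 := y_word (G := G) H (kw σ.1 ++ kw τ.1) (by rw [List.all_append, kw_all, kw_all]; rfl)
    rw [h3, yW_append] at h4
    exact h4.symm

theorem yy_v (H : Good ω) {k : ℕ} (hk : k < 3) (i : Fin 5) : yy G k * vv G i = vv G (pk k i) * yy G k :=
  ((rep_y H hk).mul (rep_v H i)).ext ((rep_v H _).mul (rep_y H hk)) (beqL_eq (chk_yv ⟨k, hk⟩ i))

theorem yW_v (H : Good ω) : ∀ w : List ℕ, (w.all fun k => Nat.blt k 3) = true → ∀ i : Fin 5,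
    yW G w * vv G i = vv G (pkW w i) * yW G w
  | [], _, i => by
    show 1 * vv G i = vv G i * 1
    rw [one_mul, mul_one]
  | k :: w, h, i => by
    rw [List.all_cons, Bool.and_eq_true] at h
    have hk : k < 3 := Nat.le_of_ble_eq_true h.1
    show yy G k * yW G w * vv G i = vv G (pk k (pkW w i)) * (yy G k * yW G w)
    rw [mul_assoc, yW_v H w h.2 i, ← mul_assoc, yy_v H hk, mul_assoc]

theorem KK_v (H : Good ω) (σ : alternatingGroup (Fin 5)) (i : Fin 5) :
    KK G H σ * vv G i = vv G ((σ : Equiv.Perm (Fin 5)) i) * KK G H σ := by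
  have h1 := chk_A5 σ.1 (Equiv.Perm.mem_alternatingGroup.1 σ.2)
  have h2 := yW_v (G := G) H (kw σ.1) (kw_all _) i
  have h3 : pkW (kw σ.1) = σ.1 := h1.symm
  rw [h3] at h2
  exact h2

/-! ### the data of case 2 -/

def gg (G : Gens F ω) : threeJ3 F ω := ev G gw
def gi (G : Gens F ω) : threeJ3 F ω := ev G giw

theorem rep_g (H : Good ω) : RepG ω gT' (gg G) := rep_ev G H _ chk_gok.1
theorem rep_gi (H : Good ω) : RepG ω giT (gi G) := rep_ev G H _ chk_gok.2

theorem gg_gi (H : Good ω) : gg G * gi G = 1 :=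
  ((rep_g H).mul (rep_gi H)).ext (repG_one H) (beqL_eq chk_gi)

theorem gi_eq (H : Good ω) : gi G = (gg G)⁻¹ := (inv_eq_of_mul_eq_one_right (gg_gi H)).symm

theorem gg_z (H : Good ω) : gg G * zz G = vv G 4 * gg G :=
  ((rep_g H).mul (rep_z H)).ext ((rep_v H 4).mul (rep_g H)) (beqL_eq (chk_vconj 4))

def pq (G : Gens F ω) (i j : Fin 5) : threeJ3 F ω := gg G * (vv G i * vv G j * gi G)

theorem rep_pq (H : Good ω) (i j : Fin 5) : RepG ω (pT' i j) (pq G i j) :=
  (rep_g H).mul (((rep_v H i).mul (rep_v H j)).mul (rep_gi H))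

theorem pq_z2 (H : Good ω) : pq G 0 2 * zz G = zz G * pq G 0 2 :=
  ((rep_pq H 0 2).mul (rep_z H)).ext ((rep_z H).mul (rep_pq H 0 2)) (beqL_eq (chk_pz 0))

theorem pq_z3 (H : Good ω) : pq G 0 3 * zz G = zz G * pq G 0 3 :=
  ((rep_pq H 0 3).mul (rep_z H)).ext ((rep_z H).mul (rep_pq H 0 3)) (beqL_eq (chk_pz 1))

theorem pq_inv (H : Good ω) (i j : Fin 5) : pq G j i = (pq G i j)⁻¹ := by
  rw [pq, pq, gi_eq H]
  have h1 : (vv G i)⁻¹ = vv G i := inv_eq_of_mul_eq_one_right (vsq H i)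
  have h2 : (vv G j)⁻¹ = vv G j := inv_eq_of_mul_eq_one_right (vsq H j)
  rw [mul_inv_rev, mul_inv_rev, mul_inv_rev, inv_inv, h1, h2]
  group

theorem pq_prod (H : Good ω) :
    vv G 0 * ((pq G 0 2 * (vv G 0 * pq G 2 0)) * ((pq G 0 3 * (vv G 0 * pq G 3 0)) *
      ((pq G 0 2 * pq G 0 3) * (vv G 0 * (pq G 3 0 * pq G 2 0))))) = vv G 4 * zz G :=
  ((rep_v H 0).mul (((rep_pq H 0 2).mul ((rep_v H 0).mul (rep_pq H 2 0))).mul
    (((rep_pq H 0 3).mul ((rep_v H 0).mul (rep_pq H 3 0))).mul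
    (((rep_pq H 0 2).mul (rep_pq H 0 3)).mul ((rep_v H 0).mul ((rep_pq H 3 0).mul (rep_pq H 2 0))))))).ext
    ((rep_v H 4).mul (rep_z H)) (beqL_eq chk_prod)

/-! ### the element of order 9 -/

def xx (G : Gens F ω) : threeJ3 F ω := zz G * ev G [10, 24, 11]

theorem rep_x (H : Good ω) : RepG ω xT (xx G) := (rep_z H).mul (rep_ev G H _ (by decide +kernel))

theorem pow_three' {M : Type*} [Monoid M] (a : M) : a * (a * a) = a ^ 3 := by
  rw [pow_succ, pow_succ, pow_one, mul_assoc]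

theorem x9 (H : Good ω) : (xx G) ^ 9 = 1 := by
  have r3 := (rep_x (G := G) H).mul ((rep_x (G := G) H).mul (rep_x (G := G) H))
  have h := (r3.mul (r3.mul r3)).ext (repG_one H) (beqL_eq chk_x9)
  rw [pow_three', pow_three', ← pow_mul] at h
  exact h

theorem x3 (H : Good ω) : (xx G) ^ 3 ∉ Subgroup.center (threeJ3 F ω) := by
  intro h
  have h1 : xx G * (xx G * xx G) = xx G ^ 3 := pow_three' _
  rw [← h1] at h
  have h2 := Subgroup.mem_center_iff.1 h (bl G 12)
  obtain ⟨z, hz⟩ := chk_x3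
  have r3 := (rep_x (G := G) H).mul ((rep_x (G := G) H).mul (rep_x (G := G) H))
  have r1 := r3.mul (rep_bl G H (k := 12) (by norm_num) (by norm_num))
  have r2 := (rep_bl G H (k := 12) (by norm_num) (by norm_num)).mul r3
  rw [h2] at r2
  exact hz (r1.cols_eq H r2 z)

theorem x_eq (H : Good ω) : xx G = zz G * (bl G 10 * zz G * (bl G 10)⁻¹) := by
  have h1 : bl G 10 * bl G 11 = 1 :=
    ((rep_bl G H (by norm_num) (by norm_num)).mul (rep_bl G H (by norm_num) (by norm_num))).ext (repG_one H)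
      (beqL_eq chk_xi)
  have h2 : (bl G 10)⁻¹ = bl G 11 := inv_eq_of_mul_eq_one_right h1
  rw [h2]
  show zz G * (bl G 10 * (bl G 24 * (bl G 11 * 1))) = _
  rw [mul_one, mul_assoc]
  rfl

end

end Cfsg.Agent.H660.JSide
end

-- part: H660/JSide
section
/-!
# `J₃`: the data of the centraliser of an involution used for S2198 (helper660)

`jside : JSideStmt`.
-/

set_option autoImplicit false

namespace Cfsg.Agent.H660.JSide

open Cfsg.Spor Cfsg.Agent.J2Type.Model Cfsg.Agent.J3Type.OneClass Cfsg.Agent.KFacts.J3W Subgroup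
open Cfsg.Agent.J3.Core Cfsg.Agent.J3.Elts Cfsg.Agent.J2Type.CStruct Cfsg.Agent.H820.Par Cfsg.Agent.KFacts
open Cfsg.Agent.KFacts.J3

section Five

variable {K : Type*} [Group K] {z : K} {v : Fin 5 → K}

theorem e_mul' (h2 : ∀ i, v i * v i = 1) (i j l : Fin 5) : v i * v j * (v j * v l) = v i * v l := by
  calc v i * v j * (v j * v l) = v i * (v j * v j) * v l := by group
    _ = v i * v l := by rw [h2, mul_one]

theorem e_sq' (h2 : ∀ i, v i * v i = 1) (ha : ∀ i j, i ≠ j → v i * v j = z * (v j * v i)) (i j : Fin 5)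
    (hij : i ≠ j) : v i * v j * (v i * v j) = z := by
  calc v i * v j * (v i * v j) = z * (v j * v i) * (v i * v j) := by rw [ha i j hij]
    _ = z * (v j * (v i * v i) * v j) := by group
    _ = z := by rw [h2, mul_one, h2, mul_one]

theorem swap_one (hz2 : z * z = 1) (hz : ∀ i, v i * z = z * v i)
    (ha : ∀ i j, i ≠ j → v i * v j = z * (v j * v i)) {i j l : Fin 5} (hi : i ≠ l) (hj : j ≠ l) :
    v i * v j * v l = v l * (v i * v j) := by
  calc v i * v j * v l = v i * (v j * v l) := by group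
    _ = v i * (z * (v l * v j)) := by rw [ha j l hj]
    _ = (v i * z) * v l * v j := by group
    _ = z * (v i * v l) * v j := by rw [hz]; group
    _ = z * (z * (v l * v i)) * v j := by rw [ha i l hi]
    _ = (z * z) * (v l * (v i * v j)) := by group
    _ = v l * (v i * v j) := by rw [hz2, one_mul]

theorem e_comm' (hz2 : z * z = 1) (hz : ∀ i, v i * z = z * v i)
    (ha : ∀ i j, i ≠ j → v i * v j = z * (v j * v i)) (i j l m : Fin 5) (h1 : i ≠ l) (h2 : i ≠ m) (h3 : j ≠ l)
    (h4 : j ≠ m) : v i * v j * (v l * v m) = v l * v m * (v i * v j) := by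
  calc v i * v j * (v l * v m) = (v i * v j * v l) * v m := by group
    _ = v l * (v i * v j * v m) := by rw [swap_one hz2 hz ha h1 h3]; group
    _ = v l * v m * (v i * v j) := by rw [swap_one hz2 hz ha h2 h4]; group

end Five

theorem jside : JSideStmt := by
  intro K _ h
  obtain ⟨F, _, _, ω, hF, hω, ⟨e⟩⟩ := h
  have H := good_of_card hF hω
  obtain ⟨G⟩ := exists_gens hF H
  let f : threeJ3 F ω →* K := e.symm.toMonoidHom.comp (QuotientGroup.mk' (center (threeJ3 F ω)))
  have hf : Function.Surjective f := e.symm.surjective.comp (QuotientGroup.mk'_surjective _)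
  have hk : f.ker = center _ := by
    ext x
    rw [MonoidHom.mem_ker]
    show e.symm (QuotientGroup.mk' _ x) = 1 ↔ _
    rw [map_eq_one_iff _ e.symm.injective]
    exact QuotientGroup.eq_one_iff x
  have hcK := card_K hF H hf hk
  have hfin : Finite K := by
    apply Nat.finite_of_card_ne_zero
    rw [hcK]; norm_num
  obtain ⟨⟨-, hcard, -⟩, Q, ρ, M⟩ := j3_model (G := G) hF H hf hk
  let u : centralizer ({f (zz G)} : Set K) := ⟨f (uu G), mem_centralizer_singleton_iff.2 (hmul (uz H))⟩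
  have hconj : ∀ {x : threeJ3 F ω}, (∃ g, g * zz G = x * g) → ∃ g : K, g * f (zz G) * g⁻¹ = f x := by
    rintro x ⟨g, hg⟩
    refine ⟨f g, ?_⟩
    rw [← map_mul, hg, map_mul, mul_inv_cancel_right]
  have huv : ∀ i, u * (⟨f (vv G i), mem_centralizer_singleton_iff.2 (hmul (vz H i))⟩ : centralizer ({f (zz G)} : Set K)) =
      zp (zc (f (zz G))) (sg (Cfsg.Agent.J3.Tab.get 0 ua i)) *
      (⟨f (vv G ((Equiv.swap 0 3 * Equiv.swap 2 4 : Equiv.Perm (Fin 5)) i)),
        mem_centralizer_singleton_iff.2 (hmul (vz H _))⟩ : centralizer ({f (zz G)} : Set K)) * u := by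
    intro i
    apply Subtype.ext
    have h1 := congrArg f (ua_eq (G := G) H i)
    rw [map_mul, map_mul, map_mul, f_zp] at h1
    have h2 : ∀ a, ((zp (zc (f (zz G))) a : centralizer ({f (zz G)} : Set K)) : K) = zp (f (zz G)) a := by
      intro a
      rcases zmod2_cases a with rfl | rfl
      · rw [zp_zero, zp_zero]; rfl
      · rw [zp_one, zp_one]
    show f (uu G) * f (vv G i) = ((zp (zc (f (zz G))) (sg (Cfsg.Agent.J3.Tab.get 0 ua i)) : centralizer ({f (zz G)} : Set K)) : K) *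
      f (vv G _) * f (uu G)
    rw [h2]
    exact h1
  have huQ : u ∉ Q := by
    rw [M.mem_Q]
    intro h1
    have h2 := M.conj u 0
    rw [mul_inv_eq_iff_eq_mul, huv 0, h1] at h2
    have h3 := (M.v_inj _ _ _ _ (mul_right_cancel h2)).2
    exact absurd h3 (by decide)
  have hzz : f (zz G) * f (zz G) = 1 := by rw [← map_mul, zsq H, map_one]
  have huu : u * u = 1 := by
    -- `u` is conjugate to `z`
    obtain ⟨g, hg⟩ := hconj (uconj (G := G) H)
    apply Subtype.ext
    show f (uu G) * f (uu G) = 1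
    rw [← hg]
    calc g * f (zz G) * g⁻¹ * (g * f (zz G) * g⁻¹) = g * (f (zz G) * f (zz G)) * g⁻¹ := by group
      _ = 1 := by rw [hzz]; group
  have hidx : ¬ 2 ∣ (centralizer ({f (zz G)} : Set K)).index := by
    have h1 := Subgroup.card_mul_index (centralizer ({f (zz G)} : Set K))
    rw [hcard, hcK] at h1
    omega
  have h2 : ∀ i, f (vv G i) * f (vv G i) = 1 := fun i => by rw [← map_mul, vsq H, map_one]
  have hz : ∀ i, f (vv G i) * f (zz G) = f (zz G) * f (vv G i) := fun i => hmul (vz H i)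
  have ha : ∀ i j, i ≠ j → f (vv G i) * f (vv G j) = f (zz G) * (f (vv G j) * f (vv G i)) := fun i j hij => by
    rw [← map_mul, vanti H i j hij, map_mul, map_mul]
  have hK : ∀ (σ : alternatingGroup (Fin 5)) (i : Fin 5), f (KK G H σ) * f (vv G i) * (f (KK G H σ))⁻¹ =
      f (vv G ((σ : Equiv.Perm (Fin 5)) i)) := fun σ i => by
    rw [mul_inv_eq_iff_eq_mul]
    exact hmul (KK_v H σ i)
  have hprod : f (vv G 0) * f (vv G 1) * f (vv G 2) * f (vv G 3) * f (vv G 4) = 1 := by
    rw [← map_mul, ← map_mul, ← map_mul, ← map_mul, vprod H, map_one]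
  let C : JC (f (zz G)) :=
    { J := ⊤
      e := fun i j => f (vv G i) * f (vv G j)
      k := f.comp (KK G H)
      e_mem := fun _ _ => mem_top _
      k_mem := fun _ => mem_top _
      z_ne := f_ne H hk
      e_mul := e_mul' h2
      e_sq := e_sq' h2 ha
      e_comm := e_comm' hzz hz ha
      k_conj := fun σ i j => by
        show f (KK G H σ) * (f (vv G i) * f (vv G j)) * (f (KK G H σ))⁻¹ = _
        rw [← hK σ i, ← hK σ j]
        group
      inv := fun t _ htt ht1 =>
        OneClassOf.one_class hidx M (hconj (vconj (G := G) H 0)) huu huQ (hconj (uconj (G := G) H)) ht1 htt }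
  have hu4 : C.u 4 = f (vv G 4) := by
    show f (vv G 0) * f (vv G 1) * (f (vv G 2) * f (vv G 3)) = f (vv G 4)
    have h3 : f (vv G 0) * f (vv G 1) * f (vv G 2) * f (vv G 3) = (f (vv G 4))⁻¹ := eq_inv_of_mul_eq_one_left hprod
    rw [← mul_assoc, h3]
    exact inv_eq_of_mul_eq_one_right (h2 4)
  have hx0 : C.e 1 2 * C.e 3 4 = f (vv G 0) := by
    show f (vv G 1) * f (vv G 2) * (f (vv G 3) * f (vv G 4)) = f (vv G 0)
    have h3 : f (vv G 0) * (f (vv G 1) * f (vv G 2) * (f (vv G 3) * f (vv G 4))) = 1 := by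
      rw [← hprod]
      simp only [mul_assoc]
    calc f (vv G 1) * f (vv G 2) * (f (vv G 3) * f (vv G 4))
        = (f (vv G 0))⁻¹ := eq_inv_of_mul_eq_one_right h3
      _ = f (vv G 0) := inv_eq_of_mul_eq_one_right (h2 0)
  have hpq : ∀ i j, f (pq G i j) = f (gg G) * C.e i j * (f (gg G))⁻¹ := fun i j => by
    show f (gg G * (vv G i * vv G j * gi G)) = f (gg G) * (f (vv G i) * f (vv G j)) * (f (gg G))⁻¹
    rw [gi_eq H]
    simp only [map_mul, map_inv, mul_assoc]
  have heO : ∀ i j, C.e i j ∈ C.O := fun i j => subset_closure ⟨(i, j), rfl⟩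
  let D : JD (f (zz G)) :=
    { toJC := C
      g := f (gg G)
      p := f (pq G 0 2)
      q := f (pq G 0 3)
      x := C.e 1 2 * C.e 3 4
      g_z := by
        rw [hu4, mul_inv_eq_iff_eq_mul]
        exact hmul (gg_z H)
      p_mem := ⟨C.e 0 2, heO 0 2, hpq 0 2⟩
      q_mem := ⟨C.e 0 3, heO 0 3, hpq 0 3⟩
      p_z := hmul (pq_z2 H)
      q_z := hmul (pq_z3 H)
      x_mem := mul_mem (heO 1 2) (heO 3 4)
      x_u := by
        rw [hu4, hx0, ha 0 4 (by decide), mul_assoc (f (vv G 4)), hz 0, ← mul_assoc (f (vv G 4)), hz 4, mul_assoc]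
      prod := by
        right
        rw [hu4, hx0]
        have h3 := congrArg f (pq_prod (G := G) H)
        rw [pq_inv H 0 2, pq_inv H 0 3] at h3
        simp only [map_mul, map_inv] at h3
        rw [← h3]
        group }
  refine ⟨f (zz G), D, f (bl G 10), ?_⟩
  have hx : f (zz G) * (f (bl G 10) * f (zz G) * (f (bl G 10))⁻¹) = f (xx G) := by
    rw [x_eq H]
    simp only [map_mul, map_inv]
  rw [hx]
  have h9 : (f (xx G)) ^ (3 ^ (1 + 1)) = 1 := by
    rw [← map_pow]
    show f (xx G ^ 9) = 1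
    rw [x9 H, map_one]
  have h3 : ¬ (f (xx G)) ^ (3 ^ 1) = 1 := by
    rw [← map_pow]
    intro h4
    apply x3 (G := G) H
    rw [← hk]
    exact h4
  have : Fact (Nat.Prime 3) := ⟨Nat.prime_three⟩
  rw [orderOf_eq_prime_pow h3 h9]
  norm_num

end Cfsg.Agent.H660.JSide
end

-- part: H848/JCaseTwo
section
/-!
# S2198: case 2 (`2^{1+4} ≤ O₂(C(z))`)

`a = z^g ∈ Q`: the elements of `Q^g ∩ C(z)` act on `Λ/2Λ` as sign changes of the frame of `a`; for `v` with odd
coordinates, `v + ε_c v + ε_d v + ε_c ε_d v` is not congruent to `8 e` modulo `2 Λ`.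
-/

set_option autoImplicit false

namespace Cfsg.Agent.H848.JCaseTwo

open Cfsg Cfsg.Spor Cfsg.Agent.MonsterX Cfsg.Agent.BpSpor.MBigModel Cfsg.Agent.MonsterU
open Cfsg.Agent.MonsterU.Lam2 (L2 cl cl_surjective cl_eq add_self)
open Cfsg.Agent.MonsterU.CoFrame (V23 mem_V23 mem_V23_of_one hw hw_apply hw_mem u0 coe_e8 parity)
open Cfsg.Agent.MonsterU.CoFrameL2
open Cfsg.Agent.SporadicA
open Cfsg.Agent.SporadicA.Co0Mono (signCo0 signCo0_smul signMap signMap_apply sgn sgn_zero sgn_one)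
open Cfsg.Agent.SporadicStructure.Co0Base (e8 e8_coe)
open Cfsg.Agent.CoOneType.CoOneE (pr E mem_E)
open Cfsg.Agent.H821.Frame (Good exists_good map_conj_eq)
open Cfsg.Agent.H820.Par
open Subgroup (centralizer mem_centralizer_singleton_iff)

theorem zmod2 (a : ZMod 2) : a = 0 ∨ a = 1 := by revert a; decide

theorem one_ne : (1 : ZMod 2) ≠ 0 := by decide

theorem coe_add' (u v : leechLattice) (i : GolayPt) :
    ((u + v : leechLattice) : GolayPt → ℤ) i = (u : GolayPt → ℤ) i + (v : GolayPt → ℤ) i := rfl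

theorem coe_sub' (u v : leechLattice) (i : GolayPt) :
    ((u - v : leechLattice) : GolayPt → ℤ) i = (u : GolayPt → ℤ) i - (v : GolayPt → ℤ) i := rfl

theorem coe_two' (u : leechLattice) (i : GolayPt) :
    ((2 • u : leechLattice) : GolayPt → ℤ) i = 2 * (u : GolayPt → ℤ) i := by
  rw [two_nsmul, coe_add']; ring

/-- `4 e_∞` is not in the lattice -/
theorem no_four (u : leechLattice) (h : ∀ i, (u : GolayPt → ℤ) i = if i = none then 4 else 0) : False := by
  have h5 := Lam2.dvd_dot u u0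
  have h6 : dotInt (u : GolayPt → ℤ) (u0 : GolayPt → ℤ) = -12 := by
    show ∑ i, (u : GolayPt → ℤ) i * (if i = none then -3 else 1 : ℤ) = -12
    rw [Finset.sum_congr rfl fun i _ => by rw [h i], Finset.sum_eq_single none]
    · norm_num
    · intro b _ hb
      rw [if_neg hb, zero_mul]
    · intro hh
      exact absurd (Finset.mem_univ _) hh
  rw [h6] at h5
  omega

/-- The lattice argument. -/
theorem core (v : leechLattice) (hv : v ∉ V23) (c d : golayCode)
    (h : cl v + cl (signCo0 c • v) + cl (signCo0 d • v) + cl (signCo0 c • signCo0 d • v) = cl (e8 none)) : False := by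
  have hodd : ∀ i, ¬ (2 : ℤ) ∣ (v : GolayPt → ℤ) i := fun i hi => hv (mem_V23_of_one hi)
  rw [← map_add, ← map_add, ← map_add, cl_eq] at h
  obtain ⟨w, hw'⟩ := h
  have hco : ∀ i, (w : GolayPt → ℤ) i =
      (if (c : GolayPt → ZMod 2) i = 0 ∧ (d : GolayPt → ZMod 2) i = 0 then 2 * (v : GolayPt → ℤ) i else 0) -
        (if i = none then 4 else 0) := by
    intro i
    have h1 := congrArg (fun t : leechLattice => (t : GolayPt → ℤ) i) hw'
    simp only [coe_sub', coe_add', coe_two', signCo0_smul, signMap_apply, coe_e8] at h1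
    have h2 : (if i = none then (8 : ℤ) else 0) = 2 * (if i = none then 4 else 0) := by split_ifs <;> norm_num
    rcases zmod2 ((c : GolayPt → ZMod 2) i) with hc | hc <;> rcases zmod2 ((d : GolayPt → ZMod 2) i) with hd | hd
    · rw [hc, hd, sgn_zero] at h1
      rw [if_pos ⟨hc, hd⟩]
      linarith
    · rw [hc, hd, sgn_zero, sgn_one] at h1
      rw [if_neg fun hh => one_ne (hd.symm.trans hh.2)]
      linarith
    · rw [hc, hd, sgn_zero, sgn_one] at h1
      rw [if_neg fun hh => one_ne (hc.symm.trans hh.1)]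
      linarith
    · rw [hc, hd, sgn_one] at h1
      rw [if_neg fun hh => one_ne (hc.symm.trans hh.1)]
      linarith
  have hw23 : w ∈ V23 := by
    rw [mem_V23]
    intro i
    rw [hco i]
    split_ifs <;> omega
  obtain ⟨e, he⟩ : ∃ e : golayCode, (e : GolayPt → ZMod 2) = hw w := ⟨⟨_, hw_mem hw23⟩, rfl⟩
  have hev : ∀ i, (e : GolayPt → ZMod 2) i =
      if (c : GolayPt → ZMod 2) i = 0 ∧ (d : GolayPt → ZMod 2) i = 0 then 1 else 0 := by
    intro i
    rw [he, hw_apply, hco i]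
    have h1 := hodd i
    by_cases hcd : (c : GolayPt → ZMod 2) i = 0 ∧ (d : GolayPt → ZMod 2) i = 0
    · rw [if_pos hcd, if_pos hcd]
      have h2 : (((2 * (v : GolayPt → ℤ) i - (if i = none then 4 else 0)) / 2 : ℤ) : ZMod 2) = ((1 : ℤ) : ZMod 2) := by
        rw [ZMod.intCast_eq_intCast_iff_dvd_sub]
        push_cast
        split_ifs <;> omega
      rw [h2, Int.cast_one]
    · rw [if_neg hcd, if_neg hcd]
      have h2 : (((0 - (if i = none then 4 else 0)) / 2 : ℤ) : ZMod 2) = ((0 : ℤ) : ZMod 2) := by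
        rw [ZMod.intCast_eq_intCast_iff_dvd_sub]
        push_cast
        split_ifs <;> omega
      rw [h2, Int.cast_zero]
  refine no_four (v - signCo0 e • v - w) fun i => ?_
  rw [coe_sub', coe_sub', signCo0_smul, signMap_apply, hev i, hco i]
  by_cases hcd : (c : GolayPt → ZMod 2) i = 0 ∧ (d : GolayPt → ZMod 2) i = 0
  · rw [if_pos hcd, if_pos hcd, sgn_one]
    ring
  · rw [if_neg hcd, if_neg hcd, sgn_zero]
    ring

section

variable {G : Type*} [Group G] {Q : Subgroup G} {z : G} {eta : G → L2}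
  {pi : Subgroup.centralizer ({z} : Set G) →* Co1}

theorem general (h : Ch.Chart Q z eta pi) {a τ p q x : G} (gd : Good h a τ) (hp : p ∈ AmalInf.CA Q z τ)
    (hq : q ∈ AmalInf.CA Q z τ) (hx : x ∈ Q) (hxa : x * a ≠ a * x)
    (hprod : x * (p * x * p⁻¹) * (q * x * q⁻¹) * ((p * q) * x * (p * q)⁻¹) = a ∨
      x * (p * x * p⁻¹) * (q * x * q⁻¹) * ((p * q) * x * (p * q)⁻¹) = a * z) : False := by
  have hpz : p ∈ Subgroup.centralizer ({z} : Set G) := hp.2
  have hqz : q ∈ Subgroup.centralizer ({z} : Set G) := hq.2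
  have hpE := AmalInf.pi_CA_mem_E h gd.mem gd.eq gd.τz gd.τs hp hpz
  have hqE := AmalInf.pi_CA_mem_E h gd.mem gd.eq gd.τz gd.τs hq hqz
  obtain ⟨c, hc⟩ := (mem_E _).1 hpE
  obtain ⟨d, hd⟩ := (mem_E _).1 hqE
  obtain ⟨v, hv⟩ := cl_surjective (eta x)
  have hv23 : v ∉ V23 := by
    intro hv'
    apply hxa
    exact (AmalGen.comm_y h gd.mem gd.eq hx).2 (by rw [← hv]; exact cl_mem_W23.2 hv')
  have hcm : ∀ r (hr : r ∈ Subgroup.centralizer ({z} : Set G)) (y : G), y ∈ Q → r * y * r⁻¹ ∈ Q := by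
    intro r hr y hy
    exact h.large.conj_mem r (mem_centralizer_singleton_iff.1 hr) y hy
  have he : ∀ r (hr : r ∈ Subgroup.centralizer ({z} : Set G)), eta (r * x * r⁻¹) = pi ⟨r, hr⟩ • eta x := by
    intro r hr
    exact h.eta_conj ⟨r, hr⟩ x hx
  have hpqz : p * q ∈ Subgroup.centralizer ({z} : Set G) := Subgroup.mul_mem _ hpz hqz
  have h1 := hcm p hpz x hx
  have h2 := hcm q hqz x hx
  have h3 := hcm (p * q) hpqz x hx
  have hA : eta (x * (p * x * p⁻¹) * (q * x * q⁻¹) * ((p * q) * x * (p * q)⁻¹)) = f0 := by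
    rcases hprod with e | e
    · rw [e]; exact gd.eq
    · rw [e, h.eta_mul _ gd.mem _ h.large.z_mem, h.eta_z, add_zero]; exact gd.eq
  have hpq : pi ⟨p * q, hpqz⟩ = pi ⟨p, hpz⟩ * pi ⟨q, hqz⟩ := by rw [← map_mul]; rfl
  rw [h.eta_mul _ (Q.mul_mem (Q.mul_mem hx h1) h2) _ h3, h.eta_mul _ (Q.mul_mem hx h1) _ h2, h.eta_mul _ hx _ h1,
    he p hpz, he q hqz, he (p * q) hpqz, hpq, hc, hd, ← hv, mul_smul, pr_smul_cl, pr_smul_cl, pr_smul_cl] at hA
  exact core v hv23 c d hA

end

/-- **Case 2 of S2198.** -/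
theorem caseTwo : CaseTwoStmt := by
  intro g a p q x haQ hga haz hxQ hxa hp hq hpz hqz hprod
  have : Finite MG := Cfsg.Agent.BpSpor.MBigModel.finite
  obtain ⟨σ, τ, gd⟩ := exists_good H820.Par.chart haQ haz ⟨g, hga⟩
  have h := H820.Par.chart.smul σ
  -- `p` and `q` are in `Q ^ τ ∩ C(z)`
  have hmap := map_conj_eq h (g := g) (τ := τ) (hga.trans gd.τz.symm)
  have hCA : ∀ r : MG, (∃ s ∈ QQ, r = g * s * g⁻¹) → r * zz = zz * r → r ∈ AmalInf.CA QQ zz τ := by
    rintro r ⟨s, hs, rfl⟩ hr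
    refine ⟨?_, mem_centralizer_singleton_iff.2 hr⟩
    show g * s * g⁻¹ ∈ QQ.map (MulAut.conj τ).toMonoidHom
    rw [← hmap]
    exact ⟨s, hs, rfl⟩
  refine general _ gd (hCA p hp hpz) (hCA q hq hqz) hxQ ?_ hprod
  intro e
  rw [hxa] at e
  exact h.large.z_ne (mul_eq_left.1 e)

end Cfsg.Agent.H848.JCaseTwo
end

-- part: H833/DodRank
section
/-!
# The stabiliser in `M24` of a dodecad has no elementary abelian subgroup of order 16 (helper833)
-/

set_option autoImplicit false

namespace Cfsg.Agent.H833.DodRank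

open Cfsg Cfsg.Spor
open Cfsg.Agent.SporadicA.Co0Mono Cfsg.Agent.SporadicA.Co1Simple Cfsg.Agent.CoOneType.SignFacts
open Cfsg.Agent.CoOneType.CoOneE Cfsg.Agent.CoOneType.InvMain
open scoped Pointwise

section rank

variable {G : Type*} [Group G]

/-- `x` or `1` -/
def pk (x : G) (p : Bool) : G := cond p x 1

theorem pk_mul {x : G} (hx : x * x = 1) (p q : Bool) : pk x p * pk x q = pk x (xor p q) := by
  cases p <;> cases q <;> simp [pk, hx]

theorem pk_comm {x y : G} (h : x * y = y * x) (p q : Bool) : pk x p * pk y q = pk y q * pk x p := by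
  cases p <;> cases q <;> simp [pk, h]

/-- the product of four -/
def F4 (x : Fin 4 → G) (p : Bool × Bool × Bool × Bool) : G :=
  pk (x 0) p.1 * pk (x 1) p.2.1 * pk (x 2) p.2.2.1 * pk (x 3) p.2.2.2

theorem F4_mul {x : Fin 4 → G} (hx : ∀ i, x i * x i = 1) (hc : ∀ i j, x i * x j = x j * x i)
    (p q : Bool × Bool × Bool × Bool) :
    F4 x p * F4 x q = F4 x (xor p.1 q.1, xor p.2.1 q.2.1, xor p.2.2.1 q.2.2.1, xor p.2.2.2 q.2.2.2) := by
  unfold F4
  have h1 := pk_comm (hc 3 0) p.2.2.2 q.1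
  have h2 := pk_comm (hc 2 0) p.2.2.1 q.1
  have h3 := pk_comm (hc 1 0) p.2.1 q.1
  have h4 := pk_comm (hc 3 1) p.2.2.2 q.2.1
  have h5 := pk_comm (hc 2 1) p.2.2.1 q.2.1
  have h6 := pk_comm (hc 3 2) p.2.2.2 q.2.2.1
  simp only
  rw [← pk_mul (hx 0), ← pk_mul (hx 1), ← pk_mul (hx 2), ← pk_mul (hx 3)]
  simp only [mul_assoc]
  congr 1
  calc _ = pk (x 1) p.2.1 * (pk (x 2) p.2.2.1 * ((pk (x 3) p.2.2.2 * pk (x 0) q.1) * (pk (x 1) q.2.1 *
        (pk (x 2) q.2.2.1 * pk (x 3) q.2.2.2)))) := by simp only [mul_assoc]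
    _ = pk (x 1) p.2.1 * ((pk (x 2) p.2.2.1 * pk (x 0) q.1) * (pk (x 3) p.2.2.2 * (pk (x 1) q.2.1 *
        (pk (x 2) q.2.2.1 * pk (x 3) q.2.2.2)))) := by rw [h1]; simp only [mul_assoc]
    _ = (pk (x 1) p.2.1 * pk (x 0) q.1) * (pk (x 2) p.2.2.1 * (pk (x 3) p.2.2.2 * (pk (x 1) q.2.1 *
        (pk (x 2) q.2.2.1 * pk (x 3) q.2.2.2)))) := by rw [h2]; simp only [mul_assoc]
    _ = pk (x 0) q.1 * (pk (x 1) p.2.1 * (pk (x 2) p.2.2.1 * ((pk (x 3) p.2.2.2 * pk (x 1) q.2.1) *
        (pk (x 2) q.2.2.1 * pk (x 3) q.2.2.2)))) := by rw [h3]; simp only [mul_assoc]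
    _ = pk (x 0) q.1 * (pk (x 1) p.2.1 * ((pk (x 2) p.2.2.1 * pk (x 1) q.2.1) * (pk (x 3) p.2.2.2 *
        (pk (x 2) q.2.2.1 * pk (x 3) q.2.2.2)))) := by rw [h4]; simp only [mul_assoc]
    _ = pk (x 0) q.1 * (pk (x 1) p.2.1 * (pk (x 1) q.2.1 * (pk (x 2) p.2.2.1 * ((pk (x 3) p.2.2.2 *
        pk (x 2) q.2.2.1) * pk (x 3) q.2.2.2)))) := by rw [h5]; simp only [mul_assoc]
    _ = _ := by rw [h6]; simp only [mul_assoc]

theorem four_false [Finite G] (h : PRankLE 2 3 G) (x : Fin 4 → G) (hx : ∀ i, x i * x i = 1)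
    (hc : ∀ i j, x i * x j = x j * x i) (hne : ∀ p, F4 x p = 1 → p = (false, false, false, false)) : False := by
  have h1 : ∀ p, F4 x p * F4 x p = 1 := by
    intro p
    rw [F4_mul hx hc]
    simp [F4, pk]
  let A : Subgroup G :=
    { carrier := Set.range (F4 x)
      one_mem' := ⟨(false, false, false, false), by simp [F4, pk]⟩
      mul_mem' := by
        rintro _ _ ⟨p, rfl⟩ ⟨q, rfl⟩
        exact ⟨_, (F4_mul hx hc p q).symm⟩
      inv_mem' := by
        rintro _ ⟨p, rfl⟩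
        exact ⟨p, (inv_eq_of_mul_eq_one_left (h1 p)).symm⟩ }
  have hinj : Function.Injective (F4 x) := by
    intro p q hpq
    have h2 := hne _ (by rw [← F4_mul hx hc p q, hpq, h1 q] : F4 x _ = 1)
    simp only [Prod.mk.injEq] at h2
    have h3 : ∀ a b : Bool, xor a b = false → a = b := by decide
    exact Prod.ext (h3 _ _ h2.1) (Prod.ext (h3 _ _ h2.2.1) (Prod.ext (h3 _ _ h2.2.2.1) (h3 _ _ h2.2.2.2)))
  have hA : Nat.card A = 16 := by
    have h3 : Nat.card A = Nat.card (Set.range (F4 x)) := rfl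
    rw [h3, Nat.card_range_of_injective hinj]
    simp
  have h4 : IsMulCommutative A := by
    refine ⟨⟨?_⟩⟩
    rintro ⟨_, p, rfl⟩ ⟨_, q, rfl⟩
    apply Subtype.ext
    show F4 x p * F4 x q = F4 x q * F4 x p
    rw [F4_mul hx hc, F4_mul hx hc]
    simp only [Bool.xor_comm]
  have h5 := h A h4 (by
    rintro _ ⟨p, rfl⟩
    rw [pow_two]
    exact h1 p)
  rw [hA] at h5
  norm_num at h5

end rank

/-- **No elementary abelian subgroup of order 16 in the stabiliser of a dodecad.** -/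
theorem m24_false (c : golayCode) (hc : wt c = 12) (x : Fin 4 → M24) (hx : ∀ i, x i * x i = 1)
    (hcm : ∀ i j, x i * x j = x j * x i) (hfix : ∀ i, wordPerm (x i) c = c)
    (hne : ∀ p, F4 x p = 1 → p = (false, false, false, false)) : False := by
  obtain ⟨τ, hτ⟩ := Cfsg.Agent.S0368.result _ _ ((sup_mem_dodecads c).2 hc) Schreier.MEleven.squareDodecad_mem
  have hst : ∀ y : M24, wordPerm y c = c → ((τ * y * τ⁻¹ : M24) : Equiv.Perm GolayPt) ∈ Spor.M12 := by
    intro y hy
    have h1 : y • sup c = sup c := by rw [← sup_wordPerm, hy]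
    have h2 : (τ * y * τ⁻¹ : M24) • squareDodecad = squareDodecad := by
      rw [← hτ, mul_smul, mul_smul, inv_smul_smul, h1]
    exact ⟨(τ * y * τ⁻¹ : M24).2, h2⟩
  have hfin : Finite ↥Spor.M12 := Nat.finite_of_card_ne_zero (by
    rw [MTwelveType.SylowModel.card_M12]; norm_num)
  let w : Fin 4 → Spor.M12 := fun i => ⟨_, hst (x i) (hfix i)⟩
  have hwF : ∀ p, ((F4 w p : Spor.M12) : Equiv.Perm GolayPt) = ((τ * F4 x p * τ⁻¹ : M24) : Equiv.Perm GolayPt) := by
    intro p
    have hpk : ∀ i b, ((pk (w i) b : Spor.M12) : Equiv.Perm GolayPt) = ((τ * pk (x i) b * τ⁻¹ : M24) : Equiv.Perm GolayPt) := by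
      intro i b
      cases b
      · simp [pk]
      · rfl
    have e : τ * F4 x p * τ⁻¹ = (τ * pk (x 0) p.1 * τ⁻¹) * (τ * pk (x 1) p.2.1 * τ⁻¹) *
        (τ * pk (x 2) p.2.2.1 * τ⁻¹) * (τ * pk (x 3) p.2.2.2 * τ⁻¹) := by
      unfold F4
      group
    rw [e]
    show ((pk (w 0) p.1 * pk (w 1) p.2.1 * pk (w 2) p.2.2.1 * pk (w 3) p.2.2.2 : Spor.M12) : Equiv.Perm GolayPt) = _
    rw [Subgroup.coe_mul, Subgroup.coe_mul, Subgroup.coe_mul, Subgroup.coe_mul, Subgroup.coe_mul, Subgroup.coe_mul,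
      hpk, hpk, hpk, hpk]
  refine four_false (SevenLow.MTwelve.low ⟨MulEquiv.refl _⟩) w (fun i => ?_) (fun i j => ?_) (fun p hp => ?_)
  · apply Subtype.ext
    show ((τ * x i * τ⁻¹ : M24) : Equiv.Perm GolayPt) * ((τ * x i * τ⁻¹ : M24) : Equiv.Perm GolayPt) = 1
    rw [← Subgroup.coe_mul, show (τ * x i * τ⁻¹) * (τ * x i * τ⁻¹) = τ * (x i * x i) * τ⁻¹ by group, hx, mul_one,
      mul_inv_cancel]
    rfl
  · apply Subtype.ext
    show ((τ * x i * τ⁻¹ : M24) : Equiv.Perm GolayPt) * ((τ * x j * τ⁻¹ : M24) : Equiv.Perm GolayPt) =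
      ((τ * x j * τ⁻¹ : M24) : Equiv.Perm GolayPt) * ((τ * x i * τ⁻¹ : M24) : Equiv.Perm GolayPt)
    rw [← Subgroup.coe_mul, ← Subgroup.coe_mul, show (τ * x i * τ⁻¹) * (τ * x j * τ⁻¹) = τ * (x i * x j) * τ⁻¹ by group,
      hcm, show (τ * x j * τ⁻¹) * (τ * x i * τ⁻¹) = τ * (x j * x i) * τ⁻¹ by group]
  · apply hne
    have h1 := hwF p
    rw [hp] at h1
    have h2 : (τ * F4 x p * τ⁻¹ : M24) = 1 := Subtype.ext h1.symm
    rwa [mul_inv_eq_one, mul_eq_left] at h2

end Cfsg.Agent.H833.DodRank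
end

-- part: H833/EFour
section
/-!
# S2198: the case E4 (helper833)

`eFour : EFourStmt`.
-/

set_option autoImplicit false

namespace Cfsg.Agent.H833.EFour

open Cfsg Cfsg.Spor
open Cfsg.Agent.SporadicA.Co0Mono Cfsg.Agent.SporadicA.Co1Simple Cfsg.Agent.CoOneType.SignFacts
open Cfsg.Agent.CoOneType.CoOneE Cfsg.Agent.CoOneType.InvMain
open Cfsg.Agent.H833.DodRank (F4 pk m24_false)

/-! ### The permutation part of a monomial element of `Co₁` -/

/-- `x = ± (sign change) * σ` -/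
def R (x : Co1) (σ : M24) : Prop := ∃ a : golayCode, x = pr (signCo0 a * permCo0 σ)

theorem R_mul {x y : Co1} {σ τ : M24} (h : R x σ) (h' : R y τ) : R (x * y) (σ * τ) := by
  obtain ⟨a, rfl⟩ := h
  obtain ⟨b, rfl⟩ := h'
  exact ⟨a + wordPerm σ b, by rw [← map_mul, sp_mul]⟩

theorem R_one : R 1 1 := ⟨0, by rw [signCo0_zero, map_one, mul_one, map_one]⟩

theorem R_uniq {x : Co1} {σ τ : M24} (h : R x σ) (h' : R x τ) : σ = τ := by
  obtain ⟨a, rfl⟩ := h
  obtain ⟨b, hb⟩ := h'
  rcases (pr_eq_iff _ _).1 hb with h | h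
  · exact (sp_inj h).2.symm
  · have h1 : signCo0 b * permCo0 τ = signCo0 (a + allOne) * permCo0 σ := by
      rw [h, mul_assoc, perm_mul_sign, wordPerm_allOne, ← mul_assoc, ← signCo0_add]
    exact (sp_inj h1).2.symm

/-- the image of the monomial group -/
abbrev NN : Subgroup Co1 := N.map pr

theorem exists_R {x : Co1} (hx : x ∈ NN) : ∃ σ, R x σ := by
  obtain ⟨g, hg, rfl⟩ := hx
  obtain ⟨c, σ, rfl⟩ := exists_sign_perm hg
  exact ⟨σ, c, rfl⟩

open Classical in
/-- the permutation part -/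
noncomputable def th (x : Co1) : M24 := if h : ∃ σ, R x σ then h.choose else 1

theorem th_R {x : Co1} (hx : x ∈ NN) : R x (th x) := by
  have h := exists_R hx
  rw [th, dif_pos h]
  exact h.choose_spec

theorem th_mul {x y : Co1} (hx : x ∈ NN) (hy : y ∈ NN) : th (x * y) = th x * th y :=
  R_uniq (th_R (NN.mul_mem hx hy)) (R_mul (th_R hx) (th_R hy))

theorem th_one : th 1 = 1 := R_uniq (th_R NN.one_mem) R_one

theorem th_sign (a : golayCode) : R (pr (signCo0 a)) 1 := ⟨a, by rw [map_one, mul_one]⟩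

theorem sign_of_th {x : Co1} (hx : x ∈ NN) (h : th x = 1) : ∃ a : golayCode, x = pr (signCo0 a) := by
  obtain ⟨a, ha⟩ := th_R hx
  rw [h, map_one, mul_one] at ha
  exact ⟨a, ha⟩

/-- monomial elements normalise the sign changes -/
theorem conj_sign {x : Co1} (hx : x ∈ NN) (a : golayCode) :
    x * pr (signCo0 a) * x⁻¹ = pr (signCo0 (wordPerm (th x) a)) := by
  obtain ⟨b, hb⟩ := th_R hx
  have h1 : signCo0 b * permCo0 (th x) * signCo0 a * (signCo0 b * permCo0 (th x))⁻¹ = signCo0 (wordPerm (th x) a) := by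
    calc signCo0 b * permCo0 (th x) * signCo0 a * (signCo0 b * permCo0 (th x))⁻¹
        = signCo0 b * (permCo0 (th x) * signCo0 a * (permCo0 (th x))⁻¹) * (signCo0 b)⁻¹ := by group
      _ = signCo0 b * signCo0 (wordPerm (th x) a) * (signCo0 b)⁻¹ := by rw [perm_mul_sign_mul_inv]
      _ = signCo0 (wordPerm (th x) a) := by
          rw [← signCo0_add, add_comm, signCo0_add, mul_inv_cancel_right]
  rw [← h1, map_mul, map_mul, map_inv]
  conv_lhs => rw [hb]

theorem th_F4 {X : Fin 4 → Co1} (hX : ∀ i, X i ∈ NN) (p : Bool × Bool × Bool × Bool) :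
    F4 (fun i => th (X i)) p = th (F4 X p) ∧ F4 X p ∈ NN := by
  have h1 : ∀ i b, pk (th (X i)) b = th (pk (X i) b) := by
    intro i b
    cases b
    · exact th_one.symm
    · rfl
  have h2 : ∀ i b, pk (X i) b ∈ NN := by
    intro i b
    cases b
    · exact NN.one_mem
    · exact hX i
  have m1 := h2 0 p.1
  have m2 := h2 1 p.2.1
  have m3 := h2 2 p.2.2.1
  have m4 := h2 3 p.2.2.2
  refine ⟨?_, NN.mul_mem (NN.mul_mem (NN.mul_mem m1 m2) m3) m4⟩
  unfold F4
  rw [th_mul (NN.mul_mem (NN.mul_mem m1 m2) m3) m4, th_mul (NN.mul_mem m1 m2) m3, th_mul m1 m2, h1, h1, h1, h1]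

/-! ### Elements preserving a dodecad up to complement -/

/-- `0` or the all-one word -/
def al (b : Bool) : golayCode := cond b allOne 0

theorem allOne_ne_zero : allOne ≠ 0 := fun h => allOne_ne (by rw [h, signCo0_zero])

theorem al_add (a b : Bool) : al a + al b = al (xor a b) := by
  cases a <;> cases b
  · exact add_zero _
  · exact zero_add _
  · exact add_zero _
  · exact allOne_add_self

theorem wordPerm_al (g : M24) (b : Bool) : wordPerm g (al b) = al b := by
  cases b <;> rfl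

theorem al_mul {c : golayCode} {g h : M24} {a b : Bool} (hg : wordPerm g c = c + al a)
    (hh : wordPerm h c = c + al b) : wordPerm (g * h) c = c + al (xor a b) := by
  rw [wordPerm_mul, hh, wordPerm_add, hg, wordPerm_al, add_assoc, al_add]

theorem al_inv {c : golayCode} {g : M24} {a : Bool} (hg : wordPerm g c = c + al a) :
    wordPerm g⁻¹ c = c + al a := by
  have h1 : wordPerm g⁻¹ (wordPerm g c) = wordPerm g⁻¹ c + al a := by
    rw [hg, wordPerm_add, wordPerm_al]
  rw [← wordPerm_mul, inv_mul_cancel, wordPerm_one] at h1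
  conv_rhs => rw [h1]
  rw [add_assoc, al_add, Bool.xor_self]
  exact (add_zero _).symm

theorem exists_al {c : golayCode} {g : M24} (h : wordPerm g c = c ∨ wordPerm g c = c + allOne) :
    ∃ a, wordPerm g c = c + al a := by
  rcases h with h | h
  · exact ⟨false, by rw [h]; exact (add_zero _).symm⟩
  · exact ⟨true, h⟩

/-! ### The core -/

/-- `(01)(23)` -/
def t1 : alternatingGroup (Fin 5) := ⟨Equiv.swap 0 1 * Equiv.swap 2 3, by
  rw [Equiv.Perm.mem_alternatingGroup]; decide⟩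

/-- `(02)(13)` -/
def t2 : alternatingGroup (Fin 5) := ⟨Equiv.swap 0 2 * Equiv.swap 1 3, by
  rw [Equiv.Perm.mem_alternatingGroup]; decide⟩

/-- `(012)` -/
def dd : alternatingGroup (Fin 5) := ⟨Equiv.swap 0 1 * Equiv.swap 1 2, by
  rw [Equiv.Perm.mem_alternatingGroup]; decide⟩

theorem core (f : Fin 5 → Fin 5 → Co1) (κ : alternatingGroup (Fin 5) →* Co1) (c : golayCode) (hc : wt c = 12)
    (F1 : ∀ i j l, f i j * f j l = f i l) (F2 : ∀ i j, f i j * f i j = 1)
    (F4' : ∀ (σ : alternatingGroup (Fin 5)) i j,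
      κ σ * f i j * (κ σ)⁻¹ = f ((σ : Equiv.Perm (Fin 5)) i) ((σ : Equiv.Perm (Fin 5)) j))
    (F5 : f 0 1 * f 2 3 = pr (signCo0 c)) (F6 : ∀ i j, i ≠ j → ∀ a : golayCode, f i j ≠ pr (signCo0 a)) : False := by
  have fii : ∀ i, f i i = 1 := fun i => mul_eq_left.1 (F1 i i i)
  have fsym : ∀ i j, f j i = f i j := by
    intro i j
    have h1 : f i j * f j i = 1 := by rw [F1, fii]
    exact mul_left_cancel (h1.trans (F2 i j).symm)
  have finv : ∀ i j, (f i j)⁻¹ = f i j := fun i j => inv_eq_of_mul_eq_one_left (F2 i j)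
  have hg : ∀ i j, f 0 i * f 0 j = f 0 j * f 0 i := by
    intro i j
    calc f 0 i * f 0 j = f i 0 * f 0 j := by rw [fsym 0 i]
      _ = f i j := F1 _ _ _
      _ = f j i := fsym _ _
      _ = f j 0 * f 0 i := (F1 _ _ _).symm
      _ = f 0 j * f 0 i := by rw [fsym 0 j]
  have hfg : ∀ i j, f i j = f 0 i * f 0 j := by
    intro i j
    rw [← fsym 0 i, F1]
  have F3 : ∀ i j l m, f i j * f l m = f l m * f i j := by
    intro i j l m
    have h1 : ∀ a b c : Fin 5, Commute (f 0 a * f 0 b) (f 0 c) := fun a b c =>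
      (show Commute (f 0 a) (f 0 c) from hg a c).mul_left (hg b c)
    rw [hfg i j, hfg l m]
    exact (h1 i j l).mul_right (h1 i j m)
  set u : Co1 := pr (signCo0 c) with hu
  have memNN : ∀ x : Co1, x * u = u * x → x ∈ NN := fun x hx =>
    centralizer_dodecad_le c hc (Subgroup.mem_centralizer_singleton_iff.2 hx)
  have hfu : ∀ i j, f i j * u = u * f i j := by
    intro i j
    rw [← F5, ← mul_assoc, F3 i j 0 1, mul_assoc, F3 i j 2 3, mul_assoc]
  have hfN : ∀ i j, f i j ∈ NN := fun i j => memNN _ (hfu i j)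
  have h0213 : f 0 2 * f 1 3 = f 0 1 * f 2 3 := by
    rw [← F1 0 1 2, ← F1 1 2 3, mul_assoc, ← mul_assoc (f 1 2), F2, one_mul]
  have h1203 : f 1 2 * f 0 3 = f 0 1 * f 2 3 := by
    rw [← F1 0 2 3, ← mul_assoc, ← fsym 0 2, F1 1 2 0, fsym 0 1]
  have hκ : ∀ σ : alternatingGroup (Fin 5), f ((σ : Equiv.Perm (Fin 5)) 0) ((σ : Equiv.Perm (Fin 5)) 1) *
      f ((σ : Equiv.Perm (Fin 5)) 2) ((σ : Equiv.Perm (Fin 5)) 3) = f 0 1 * f 2 3 → κ σ * u = u * κ σ := by
    intro σ hσ
    have h1 : κ σ * (f 0 1 * f 2 3) * (κ σ)⁻¹ = f 0 1 * f 2 3 := by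
      calc κ σ * (f 0 1 * f 2 3) * (κ σ)⁻¹ = (κ σ * f 0 1 * (κ σ)⁻¹) * (κ σ * f 2 3 * (κ σ)⁻¹) := by group
        _ = _ := by rw [F4', F4', hσ]
    rw [F5] at h1
    exact mul_inv_eq_iff_eq_mul.1 h1
  have k1 : κ t1 * u = u * κ t1 := by
    apply hκ
    show f 1 0 * f 3 2 = _
    rw [fsym 0 1, fsym 2 3]
  have k2 : κ t2 * u = u * κ t2 := by
    apply hκ
    show f 2 3 * f 0 1 = _
    exact F3 _ _ _ _
  have kd : κ dd * u = u * κ dd := by
    apply hκ
    show f 1 2 * f 0 3 = _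
    exact h1203
  -- the four elements
  let X : Fin 4 → Co1 := ![f 0 1, f 0 2, κ t1, κ t2]
  have hXu : ∀ i, X i * u = u * X i := by
    intro i
    fin_cases i
    · exact hfu 0 1
    · exact hfu 0 2
    · exact k1
    · exact k2
  have hX : ∀ i, X i ∈ NN := fun i => memNN _ (hXu i)
  -- the sign
  have hsg : ∀ x : Co1, x * u = u * x → wordPerm (th x) c = c ∨ wordPerm (th x) c = c + allOne := by
    intro x hx
    have h1 := conj_sign (memNN x hx) c
    rw [← hu, hx, mul_inv_cancel_right] at h1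
    exact (pr_sign_eq_iff c _).1 h1
  -- an element with `x (d x d⁻¹) (d² x d⁻²) = 1`
  have hinv : ∀ y ∈ NN, th y⁻¹ = (th y)⁻¹ := by
    intro y hy
    rw [eq_inv_iff_mul_eq_one, ← th_mul (NN.inv_mem hy) hy, inv_mul_cancel, th_one]
  have hfix : ∀ x : Co1, x * u = u * x → x * (κ dd * x * (κ dd)⁻¹) * (κ (dd * dd) * x * (κ (dd * dd))⁻¹) = 1 →
      wordPerm (th x) c = c := by
    intro x hx h1
    have kd2 : κ (dd * dd) * u = u * κ (dd * dd) := by
      rw [map_mul, mul_assoc, kd, ← mul_assoc, kd, mul_assoc]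
    have hxN := memNN x hx
    obtain ⟨a, ha⟩ := exists_al (hsg x hx)
    have key : ∀ y : Co1, y * u = u * y → y * x * y⁻¹ ∈ NN ∧ wordPerm (th (y * x * y⁻¹)) c = c + al a := by
      intro y hy
      have hyN := memNN y hy
      obtain ⟨b, hb⟩ := exists_al (hsg y hy)
      refine ⟨NN.mul_mem (NN.mul_mem hyN hxN) (NN.inv_mem hyN), ?_⟩
      rw [th_mul (NN.mul_mem hyN hxN) (NN.inv_mem hyN), th_mul hyN hxN, hinv y hyN,
        al_mul (al_mul hb ha) (al_inv hb)]
      congr 2
      cases a <;> cases b <;> rfl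
    obtain ⟨m1, e1⟩ := key _ kd
    obtain ⟨m2, e2⟩ := key _ kd2
    have h2 : wordPerm (th (x * (κ dd * x * (κ dd)⁻¹) * (κ (dd * dd) * x * (κ (dd * dd))⁻¹))) c =
        c + al (xor (xor a a) a) := by
      rw [th_mul (NN.mul_mem hxN m1) m2, th_mul hxN m1]
      exact al_mul (al_mul ha e1) e2
    rw [h1, th_one, wordPerm_one] at h2
    have h3 : al (xor (xor a a) a) = 0 := left_eq_add.1 h2
    rw [ha]
    cases a
    · exact add_zero c
    · exact absurd h3 allOne_ne_zero
  have hfX : ∀ i, wordPerm (th (X i)) c = c := by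
    intro i
    apply hfix _ (hXu i)
    fin_cases i
    · show f 0 1 * (κ dd * f 0 1 * (κ dd)⁻¹) * (κ (dd * dd) * f 0 1 * (κ (dd * dd))⁻¹) = 1
      rw [F4', F4']
      show f 0 1 * f 1 2 * f 2 0 = 1
      rw [F1, F1, fii]
    · show f 0 2 * (κ dd * f 0 2 * (κ dd)⁻¹) * (κ (dd * dd) * f 0 2 * (κ (dd * dd))⁻¹) = 1
      rw [F4', F4']
      show f 0 2 * f 1 0 * f 2 1 = 1
      rw [F3 0 2 1 0, F1, F1, fii]
    · show κ t1 * (κ dd * κ t1 * (κ dd)⁻¹) * (κ (dd * dd) * κ t1 * (κ (dd * dd))⁻¹) = 1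
      simp only [← map_mul, ← map_inv]
      rw [show t1 * (dd * t1 * dd⁻¹) * (dd * dd * t1 * (dd * dd)⁻¹) = 1 from by decide, map_one]
    · show κ t2 * (κ dd * κ t2 * (κ dd)⁻¹) * (κ (dd * dd) * κ t2 * (κ (dd * dd))⁻¹) = 1
      simp only [← map_mul, ← map_inv]
      rw [show t2 * (dd * t2 * dd⁻¹) * (dd * dd * t2 * (dd * dd)⁻¹) = 1 from by decide, map_one]
  -- relations modulo the sign changes
  have hth : ∀ {x y : Co1}, x ∈ NN → y ∈ NN → x * y = pr (signCo0 c) → th x * th y = 1 := by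
    intro x y hx hy hxy
    rw [← th_mul hx hy, hxy]
    exact R_uniq (th_R (by rw [← hxy]; exact NN.mul_mem hx hy)) (th_sign c)
  have ht1 : t1 * t1 = 1 := by decide
  have ht2 : t2 * t2 = 1 := by decide
  have ht12 : t1 * t2 = t2 * t1 := by decide
  have hsq : ∀ i, th (X i) * th (X i) = 1 := by
    intro i
    rw [← th_mul (hX i) (hX i)]
    have : X i * X i = 1 := by
      fin_cases i
      · exact F2 0 1
      · exact F2 0 2
      · show κ t1 * κ t1 = 1
        rw [← map_mul, ht1, map_one]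
      · show κ t2 * κ t2 = 1
        rw [← map_mul, ht2, map_one]
    rw [this, th_one]
  have e23 : th (f 2 3) = th (f 0 1) := by
    have h1 := hth (hfN 0 1) (hfN 2 3) F5
    have h2 : th (f 0 1) * th (f 0 1) = 1 := hsq 0
    exact mul_left_cancel (h1.trans h2.symm)
  have e13 : th (f 1 3) = th (f 0 2) := by
    have h1 := hth (hfN 0 2) (hfN 1 3) (h0213.trans F5)
    have h2 : th (f 0 2) * th (f 0 2) = 1 := hsq 1
    exact mul_left_cancel (h1.trans h2.symm)
  have hcm : ∀ {x y z : Co1}, x ∈ NN → y ∈ NN → z ∈ NN → x * y * x⁻¹ = z → th z = th y → th x * th y = th y * th x := by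
    intro x y z hx hy hz h1 h2
    rw [← th_mul hx hy, mul_inv_eq_iff_eq_mul.1 h1, th_mul hz hx, h2]
  have c20 : κ t1 * f 0 1 * (κ t1)⁻¹ = f 1 0 := F4' t1 0 1
  have c21 : κ t1 * f 0 2 * (κ t1)⁻¹ = f 1 3 := F4' t1 0 2
  have c30 : κ t2 * f 0 1 * (κ t2)⁻¹ = f 2 3 := F4' t2 0 1
  have c31 : κ t2 * f 0 2 * (κ t2)⁻¹ = f 2 0 := F4' t2 0 2
  have d20 : th (κ t1) * th (f 0 1) = th (f 0 1) * th (κ t1) :=
    hcm (hX 2) (hX 0) (hfN 1 0) c20 (by rw [fsym 0 1])
  have d21 : th (κ t1) * th (f 0 2) = th (f 0 2) * th (κ t1) := hcm (hX 2) (hX 1) (hfN 1 3) c21 e13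
  have d30 : th (κ t2) * th (f 0 1) = th (f 0 1) * th (κ t2) := hcm (hX 3) (hX 0) (hfN 2 3) c30 e23
  have d31 : th (κ t2) * th (f 0 2) = th (f 0 2) * th (κ t2) :=
    hcm (hX 3) (hX 1) (hfN 2 0) c31 (by rw [fsym 0 2])
  have d01 : th (f 0 1) * th (f 0 2) = th (f 0 2) * th (f 0 1) := by
    rw [← th_mul (hfN 0 1) (hfN 0 2), F3, th_mul (hfN 0 2) (hfN 0 1)]
  have d23 : th (κ t1) * th (κ t2) = th (κ t2) * th (κ t1) := by
    rw [← th_mul (memNN _ k1) (memNN _ k2), ← th_mul (memNN _ k2) (memNN _ k1), ← map_mul, ht12, map_mul]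
  have hcomm : ∀ i j, th (X i) * th (X j) = th (X j) * th (X i) := by
    intro i j
    fin_cases i <;> fin_cases j
    · rfl
    · exact d01
    · exact d20.symm
    · exact d30.symm
    · exact d01.symm
    · rfl
    · exact d21.symm
    · exact d31.symm
    · exact d20
    · exact d21
    · rfl
    · exact d23
    · exact d30
    · exact d31
    · exact d23.symm
    · rfl
  refine m24_false c hc (fun i => th (X i)) hsq hcomm hfX ?_
  intro p hp
  obtain ⟨h1, h2⟩ := th_F4 hX p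
  rw [h1] at hp
  obtain ⟨a, ha⟩ := sign_of_th h2 hp
  -- the case of an element moving the index 0
  have key : ∀ (w : Co1) (v : alternatingGroup (Fin 5)) (j : Fin 5), (∀ i l, w * f i l = f i l * w) →
      (v : Equiv.Perm (Fin 5)) 0 = j → (v : Equiv.Perm (Fin 5)) 4 = 4 → j ≠ 0 → w * κ v = pr (signCo0 a) → False := by
    intro w v j hw h0 h4 hj hwv
    have e1 := conj_sign (hfN 0 4) a
    rw [← hwv] at e1
    have e2 : κ v * f 0 4 * (κ v)⁻¹ = f j 4 := by rw [F4', h0, h4]
    have e3 : f 0 4 * (w * κ v) * (f 0 4)⁻¹ * (w * κ v)⁻¹ = f 0 j := by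
      calc f 0 4 * (w * κ v) * (f 0 4)⁻¹ * (w * κ v)⁻¹ = f 0 4 * (w * (κ v * f 0 4 * (κ v)⁻¹)⁻¹ * w⁻¹) := by group
        _ = f 0 4 * (w * f j 4 * w⁻¹) := by rw [e2, finv]
        _ = f 0 4 * f 4 j := by rw [hw, mul_inv_cancel_right, fsym j 4]
        _ = f 0 j := F1 _ _ _
    rw [e1, hwv, ← map_inv, signCo0_inv, ← map_mul, ← signCo0_add] at e3
    exact F6 0 j hj.symm _ e3.symm
  have hwc : ∀ (b b' : Bool) (i l : Fin 5), (pk (f 0 1) b * pk (f 0 2) b') * f i l =
      f i l * (pk (f 0 1) b * pk (f 0 2) b') := by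
    intro b b' i l
    have q1 : Commute (pk (f 0 1) b) (f i l) := by
      cases b
      · exact Commute.one_left _
      · exact F3 _ _ _ _
    have q2 : Commute (pk (f 0 2) b') (f i l) := by
      cases b'
      · exact Commute.one_left _
      · exact F3 _ _ _ _
    exact q1.mul_left q2
  obtain ⟨p1, p2, p3, p4⟩ := p
  have hF : F4 X (p1, p2, p3, p4) = pk (f 0 1) p1 * pk (f 0 2) p2 * pk (κ t1) p3 * pk (κ t2) p4 := rfl
  rw [hF] at ha
  cases p3 <;> cases p4
  · have ha' : pk (f 0 1) p1 * pk (f 0 2) p2 = pr (signCo0 a) := by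
      have : pk (f 0 1) p1 * pk (f 0 2) p2 * pk (κ t1) false * pk (κ t2) false =
          pk (f 0 1) p1 * pk (f 0 2) p2 := by simp [pk]
      rw [← this]
      exact ha
    cases p1 <;> cases p2
    · rfl
    · exfalso
      refine F6 0 2 (by decide) a ?_
      rw [← ha']
      exact (one_mul _).symm
    · exfalso
      refine F6 0 1 (by decide) a ?_
      rw [← ha']
      exact (mul_one _).symm
    · exfalso
      refine F6 1 2 (by decide) a ?_
      rw [← ha']
      show f 1 2 = f 0 1 * f 0 2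
      rw [← fsym 0 1, F1]
  · exfalso
    refine key (pk (f 0 1) p1 * pk (f 0 2) p2) t2 2 (hwc _ _) (by decide) (by decide) (by decide) ?_
    rw [← ha]
    show pk (f 0 1) p1 * pk (f 0 2) p2 * κ t2 = pk (f 0 1) p1 * pk (f 0 2) p2 * 1 * κ t2
    rw [mul_one]
  · exfalso
    refine key (pk (f 0 1) p1 * pk (f 0 2) p2) t1 1 (hwc _ _) (by decide) (by decide) (by decide) ?_
    rw [← ha]
    show pk (f 0 1) p1 * pk (f 0 2) p2 * κ t1 = pk (f 0 1) p1 * pk (f 0 2) p2 * κ t1 * 1
    rw [mul_one]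
  · exfalso
    refine key (pk (f 0 1) p1 * pk (f 0 2) p2) (t1 * t2) 3 (hwc _ _) (by decide) (by decide) (by decide) ?_
    rw [← ha, map_mul, ← mul_assoc]
    rfl

/-- **E4.** -/
theorem eFour : Cfsg.Agent.H820.Par.EFourStmt := by
  intro C h1 h2
  obtain ⟨g0, hg0⟩ := Cfsg.Agent.CoOneType.ClosingFacts.exists_mk (Cfsg.Agent.BpSpor.MBigModel.pi (C.cu 4))
  obtain ⟨h, c, hc, hh⟩ := h2 4 g0 hg0
  have hwt : wt c = 12 := (sup_mem_dodecads c).1 hc
  have hmk : ∀ g : Co0, Cfsg.Agent.CoOneType.ClosingFacts.mk g = pr g := fun _ => rfl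
  let P : Cfsg.Agent.H820.Par.CZ →* Co1 := (MulAut.conj (pr h)).toMonoidHom.comp Cfsg.Agent.BpSpor.MBigModel.pi
  have hP : ∀ x, P x = pr h * Cfsg.Agent.BpSpor.MBigModel.pi x * (pr h)⁻¹ := fun _ => rfl
  have hPz : ∀ x : Cfsg.Agent.H820.Par.CZ, (x : Cfsg.Agent.BpSpor.MBigModel.MG) = Cfsg.Agent.BpSpor.MBigModel.zz →
      P x = 1 := by
    intro x hx
    rw [hP, (Cfsg.Agent.H820.Par.chart.pi_eq_one x).2 (by rw [hx]; exact Cfsg.Agent.H820.Par.chart.large.z_mem),
      mul_one, mul_inv_cancel]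
  refine core (fun i j => P (C.ce i j)) (P.comp C.ck) c hwt ?_ ?_ ?_ ?_ ?_
  · intro i j l
    rw [← map_mul]
    congr 1
    exact Subtype.ext (C.e_mul i j l)
  · intro i j
    rw [← map_mul]
    by_cases hij : i = j
    · subst hij
      have : C.ce i i = 1 := Subtype.ext (C.e_self i)
      rw [this, mul_one, map_one]
    · exact hPz _ (C.e_sq i j hij)
  · intro σ i j
    show P (C.ck σ) * P (C.ce i j) * (P (C.ck σ))⁻¹ = _
    rw [← map_inv, ← map_mul, ← map_mul]
    congr 1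
    exact Subtype.ext (C.k_conj σ i j)
  · rw [← map_mul]
    show P (C.cu 4) = _
    rw [hP, ← hg0, hmk, ← map_inv, ← map_mul, ← map_mul, hh]
  · intro i j hij a ha
    have h3 : Cfsg.Agent.CoOneType.ClosingFacts.mk (h⁻¹ * signCo0 a * h) =
        Cfsg.Agent.BpSpor.MBigModel.pi (C.ce i j) := by
      rw [hmk, map_mul, map_mul, ← ha, hP, map_inv]
      group
    have h4 := h1 i j hij _ h3
    have h5 : h⁻¹ * signCo0 a * h * (h⁻¹ * signCo0 a * h) = 1 := by
      calc h⁻¹ * signCo0 a * h * (h⁻¹ * signCo0 a * h) = h⁻¹ * (signCo0 a * signCo0 a) * h := by group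
        _ = 1 := by rw [signCo0_mul_self, mul_one, inv_mul_cancel]
    have h6 : h⁻¹ * signCo0 a * h * (h⁻¹ * signCo0 a * h) = signCo0 allOne := h4
    exact allOne_ne (h6.symm.trans h5)

end Cfsg.Agent.H833.EFour
end

-- part: H329/Sec/MLev
section
/-!
# Covers of a simple group in the Monster (helper329, for S2198)

* `inv_cases` : the centralizer of an involution of `M` has order `2 ^ 25 |Co₁|` or is a double cover of `B`;
* `odd_ker_b` : a cover (`Cov`) of `J` in `M`, `J` of order divisible by `17` and `19`, multiplier of odd order: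
  the kernel has odd order;
* `odd_ker_c` : the same if the order of `J` does not divide that of `C(z)`, `C(t)`;
* `bot_or_three` : kernel `1` or of order `3` ...
-/

set_option autoImplicit false
set_option maxRecDepth 100000

namespace Cfsg.Agent.H329.Sec.MLev

open Subgroup Cfsg
open Cfsg.Agent.MonsterX.Model Cfsg.Agent.MonsterX.MainPack

theorem card_m : Nat.card Spor.Monster = 808017424794512875886459904961710757005754368000000000 :=
  Cfsg.Agent.MonsterP.Equiv.isM.2

theorem finite_M : Finite Spor.Monster := Nat.finite_of_card_ne_zero (by rw [card_m]; norm_num)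

theorem card_cent_equiv {X Y : Type*} [Group X] [Group Y] (e : X ≃* Y) (u : X) :
    Nat.card (centralizer ({u} : Set X)) = Nat.card (centralizer ({e u} : Set Y)) := by
  rw [← Cfsg.Agent.CTwoTab.map_centralizer_singleton e u]
  exact Nat.card_congr (equivMapOfInjective _ e.toMonoidHom e.injective).toEquiv

/-- the involutions of the Monster -/
theorem inv_cases {u : Spor.Monster} (hu : orderOf u = 2) :
    Nat.card (centralizer ({u} : Set Spor.Monster)) = 2 ^ 25 * 4157776806543360000 ∨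
      IsNonsplitDoubleCover ↥(centralizer ({u} : Set Spor.Monster)) Spor.BabyMonster := by
  obtain ⟨e⟩ := Cfsg.Agent.MonsterP.Equiv.equiv
  have A := CTwoTab.BInst.all
  have key : ∀ v : Spor.Monster, orderOf v = 2 →
      Nat.card (centralizer ({v} : Set Spor.Monster)) = 2 ^ 25 * 4157776806543360000 ∨
        (IsConj (tG A.hG A.hR) (e v)) := by
    intro v hv
    have h1 : e v ≠ 1 := by
      intro h
      rw [e.map_eq_one_iff] at h
      rw [h, orderOf_one] at hv
      omega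
    have h2 : e v * e v = 1 := by rw [← map_mul, ← pow_two, ← hv, pow_orderOf_eq_one, map_one]
    rcases A.classes (e v) h2 h1 with ⟨g, hg⟩ | ⟨g, hg⟩
    · left
      rw [card_cent_equiv e, Cfsg.Agent.Blocks.SylowIn.card_centralizer_of_isConj (isConj_iff.2 ⟨g, hg⟩),
        Cfsg.Agent.H713.Spor.MOf.card_cent_z A.hG A.hR A.hL A.hO A.hT]
    · exact Or.inr (isConj_iff.2 ⟨g, hg⟩)
  rcases key u hu with h | h
  · exact Or.inl h
  · right
    obtain ⟨y, hy, hcov⟩ := Cfsg.Agent.S5534.result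
    rcases key y hy with h1 | h1
    · exfalso
      obtain ⟨hc, ⟨f⟩, -⟩ := hcov
      have h2 := (center ↥(centralizer ({y} : Set Spor.Monster))).card_mul_index
      have h3 : (center ↥(centralizer ({y} : Set Spor.Monster))).index = Nat.card Spor.BabyMonster :=
        Nat.card_congr f.toEquiv
      rw [h3, hc, h1, BLev.card_b] at h2
      norm_num at h2
    · have h2 : IsConj (e y) (e u) := h1.symm.trans h
      have h3 : IsConj y u := by
        obtain ⟨c, hc⟩ := isConj_iff.1 h2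
        refine isConj_iff.2 ⟨e.symm c, ?_⟩
        apply e.injective
        rw [map_mul, map_mul, map_inv, e.apply_symm_apply, hc]
      exact Cfsg.Agent.H819.TwoACent.cover_conj h3 hcov

/-- the map onto the Baby Monster -/
theorem exists_pi {u : Spor.Monster} (hu : orderOf u = 2)
    (h : IsNonsplitDoubleCover ↥(centralizer ({u} : Set Spor.Monster)) Spor.BabyMonster) :
    ∃ π : ↥(centralizer ({u} : Set Spor.Monster)) →* Spor.BabyMonster,
      ∀ c : ↥(centralizer ({u} : Set Spor.Monster)), π c = 1 ↔ (c : Spor.Monster) = 1 ∨ (c : Spor.Monster) = u := by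
  obtain ⟨hc, ⟨f⟩, -⟩ := h
  refine ⟨f.toMonoidHom.comp (QuotientGroup.mk' _), fun c => ?_⟩
  have h1 : (f.toMonoidHom.comp (QuotientGroup.mk' (center ↥(centralizer ({u} : Set Spor.Monster))))) c = 1 ↔
      c ∈ center ↥(centralizer ({u} : Set Spor.Monster)) := by
    change f (QuotientGroup.mk c) = 1 ↔ _
    rw [map_eq_one_iff f f.injective, QuotientGroup.eq_one_iff]
  rw [h1]
  let u' : ↥(centralizer ({u} : Set Spor.Monster)) := ⟨u, mem_centralizer_singleton_iff.2 rfl⟩
  have hu' : u' ∈ center ↥(centralizer ({u} : Set Spor.Monster)) :=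
    mem_center_iff.2 fun c => Subtype.ext (mem_centralizer_singleton_iff.1 c.2)
  have hfin := finite_M
  have h2 : zpowers u' = center ↥(centralizer ({u} : Set Spor.Monster)) := by
    refine Subgroup.eq_of_le_of_card_ge (zpowers_le.2 hu') ?_
    rw [Nat.card_zpowers, hc, ← Subgroup.orderOf_coe]
    exact hu.ge
  constructor
  · intro h3
    rw [← h2] at h3
    have h4 : (c : Spor.Monster) ∈ zpowers u := by
      obtain ⟨k, hk⟩ := h3
      exact ⟨k, by simpa using congrArg Subtype.val hk⟩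
    rw [← (isOfFinOrder_of_finite u).mem_powers_iff_mem_zpowers] at h4
    obtain ⟨k, hk⟩ := h4
    have h5 : u ^ (k % 2) = c := by rw [← hu, pow_mod_orderOf]; exact hk
    rcases Nat.mod_two_eq_zero_or_one k with h6 | h6
    · left
      rw [← h5, h6, pow_zero]
    · right
      rw [← h5, h6, pow_one]
  · rintro (h3 | h3)
    · have h4 : c = 1 := Subtype.ext h3
      rw [h4]
      exact one_mem _
    · have h4 : c = u' := Subtype.ext h3
      rw [h4]
      exact hu'

/-- **The kernel has odd order, case `17 ∣ |J|`, `19 ∣ |J|`.** -/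
theorem odd_ker_b {A : Subgroup Spor.Monster} {J : Type} [Group J] [IsSimpleGroup J] {f : ↥A →* J} (h : Cov f)
    (ho : OddCentral f) (h17 : 17 ∣ Nat.card J) (h19 : 19 ∣ Nat.card J) {k : ℕ} (hm : HasCyclicSchurMultiplier J k)
    (hk : ¬ 2 ∣ k) : ¬ 2 ∣ Nat.card f.ker := by
  intro h2
  have hfin := finite_M
  have i19 : Fact (Nat.Prime 19) := ⟨by norm_num⟩
  have k19 : ¬ 19 ∣ Nat.card f.ker := BLev.not_dvd_ker h h19 (by rw [card_m]; norm_num)
  obtain ⟨u, hu1, hu2, huc⟩ := h.exists_two h2 (d := 15) (rank_sub S3292.result.2 A) (p := 19) (by norm_num)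
    (by norm_num) h19 k19 (by intro i h1 h2; interval_cases i <;> norm_num)
  have hAu : A ≤ centralizer ({(u : Spor.Monster)} : Set Spor.Monster) := fun a ha =>
    mem_centralizer_singleton_iff.2 (congrArg Subtype.val (mem_center_iff.1 huc ⟨a, ha⟩))
  have huo : orderOf (u : Spor.Monster) = 2 := by rw [Subgroup.orderOf_coe, hu2]
  have hd : Nat.card J ∣ Nat.card (centralizer ({(u : Spor.Monster)} : Set Spor.Monster)) := by
    refine Dvd.dvd.trans ?_ (card_dvd_of_le hAu)
    rw [h.card]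
    exact Dvd.intro_left _ rfl
  have hcov : IsNonsplitDoubleCover ↥(centralizer ({(u : Spor.Monster)} : Set Spor.Monster)) Spor.BabyMonster := by
    rcases inv_cases huo with h1 | h1
    · exfalso
      have h3 := h19.trans hd
      rw [h1] at h3
      norm_num at h3
    · exact h1
  obtain ⟨π, hπ⟩ := exists_pi huo hcov
  let ρ : ↥A →* Spor.BabyMonster := π.comp (Subgroup.inclusion hAu)
  have hρ : ∀ a : ↥A, ρ a = 1 ↔ a = 1 ∨ a = u := by
    intro a
    change π (Subgroup.inclusion hAu a) = 1 ↔ _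
    rw [hπ]
    constructor
    · rintro (h1 | h1)
      · exact Or.inl (Subtype.ext h1)
      · exact Or.inr (Subtype.ext h1)
    · rintro (rfl | rfl)
      · exact Or.inl rfl
      · exact Or.inr rfl
  obtain ⟨f₁, hf₁⟩ := exists_push ρ (f := f) (by
    intro x hx
    rcases (hρ x).1 hx with rfl | rfl
    · exact map_one f
    · exact hu1)
  have c₁ : Cov f₁ := h.quotient ρ.rangeRestrict_surjective hf₁
  have o₁ : OddCentral f₁ := ho.quotient ρ.rangeRestrict_surjective hf₁
  have h3 := BLev.odd_ker c₁ o₁ h17 h19 hm hk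
  have hfB := BLev.finite_B
  have hker : f.ker ≤ center ↥A := by
    refine ho.le_center fun x hx hk' => ?_
    obtain ⟨j, hj⟩ := hk'
    have h4 : ρ x = 1 := by
      have h5 : f₁ (ρ.rangeRestrict x) = 1 := by
        have h6 : f₁.comp ρ.rangeRestrict x = f x := by rw [hf₁]
        exact h6.trans hx
      let x' : f₁.ker := ⟨ρ.rangeRestrict x, MonoidHom.mem_ker.2 h5⟩
      have h6 : x' ^ 2 ^ j = 1 := by
        apply Subtype.ext
        change (ρ.rangeRestrict x) ^ 2 ^ j = 1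
        rw [← map_pow, hj, map_one]
      have h7 : orderOf x' ∣ 2 ^ j := orderOf_dvd_of_pow_eq_one h6
      have h8 : orderOf x' = 1 := by
        obtain ⟨i, hi, hi'⟩ := (Nat.dvd_prime_pow Nat.prime_two).1 h7
        rcases Nat.eq_zero_or_pos i with rfl | hi0
        · rw [hi', pow_zero]
        · exfalso
          apply h3
          refine Dvd.dvd.trans ?_ (orderOf_dvd_natCard x')
          rw [hi']
          exact dvd_pow_self 2 hi0.ne'
      have h9 : x' = 1 := orderOf_eq_one_iff.1 h8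
      have h10 : ρ.rangeRestrict x = 1 := congrArg Subtype.val h9
      exact congrArg Subtype.val h10
    rcases (hρ x).1 h4 with rfl | rfl
    · exact one_mem _
    · exact huc
  exact hk (h2.trans (h.card_dvd hker hm))

/-- **The kernel has odd order, case of the orders.** -/
theorem odd_ker_c {A : Subgroup Spor.Monster} {J : Type} [Group J] [IsSimpleGroup J] {f : ↥A →* J} (h : Cov f)
    {p : ℕ} (hp : p.Prime) (hp2 : p ≠ 2) (hpJ : p ∣ Nat.card J) (hp2' : ¬ p ^ 2 ∣ Nat.card Spor.Monster)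
    (har : ∀ i, 1 ≤ i → i ≤ 15 → ¬ p ∣ 2 ^ i - 1) (hz : ¬ Nat.card J ∣ 2 ^ 25 * 4157776806543360000)
    (ht : ¬ Nat.card J ∣ 2 * 4154781481226426191177580544000000) : ¬ 2 ∣ Nat.card f.ker := by
  intro h2
  have hfin := finite_M
  obtain ⟨u, hu1, hu2, huc⟩ := h.exists_two h2 (d := 15) (rank_sub S3292.result.2 A) hp hp2 hpJ
    (BLev.not_dvd_ker h hpJ hp2') har
  have hAu : A ≤ centralizer ({(u : Spor.Monster)} : Set Spor.Monster) := fun a ha =>
    mem_centralizer_singleton_iff.2 (congrArg Subtype.val (mem_center_iff.1 huc ⟨a, ha⟩))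
  have huo : orderOf (u : Spor.Monster) = 2 := by rw [Subgroup.orderOf_coe, hu2]
  have hd : Nat.card J ∣ Nat.card (centralizer ({(u : Spor.Monster)} : Set Spor.Monster)) := by
    refine Dvd.dvd.trans ?_ (card_dvd_of_le hAu)
    rw [h.card]
    exact Dvd.intro_left _ rfl
  rcases inv_cases huo with h1 | ⟨hc, ⟨g⟩, -⟩
  · rw [h1] at hd
    exact hz hd
  · have h3 := (center ↥(centralizer ({(u : Spor.Monster)} : Set Spor.Monster))).card_mul_index
    have h4 : (center ↥(centralizer ({(u : Spor.Monster)} : Set Spor.Monster))).index = Nat.card Spor.BabyMonster :=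
      Nat.card_congr g.toEquiv
    rw [h4, hc, BLev.card_b] at h3
    rw [← h3] at hd
    exact ht hd

/-- If the kernel has odd order it is central. -/
theorem ker_le_center {A J : Type*} [Group A] [Group J] [Finite A] {f : A →* J} (ho : OddCentral f)
    (h2 : ¬ 2 ∣ Nat.card f.ker) : f.ker ≤ center A := by
  intro x hx
  apply ho x hx
  have h1 : orderOf (⟨x, hx⟩ : f.ker) ∣ Nat.card f.ker := orderOf_dvd_natCard _
  rw [Subgroup.orderOf_mk] at h1
  rw [← Nat.not_even_iff_odd]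
  intro h3
  exact h2 ((even_iff_two_dvd.1 h3).trans h1)

/-- **A kernel of order `3` is impossible** if `19 ∣ |J|` and `|J| ∤ |Th|`. -/
theorem not_three {A : Subgroup Spor.Monster} {J : Type} [Group J] {f : ↥A →* J} (h : Cov f) (hc : f.ker ≤ center ↥A)
    (h3 : Nat.card f.ker = 3) (h19 : 19 ∣ Nat.card J) (hJ : ¬ Nat.card J ∣ 90745943887872000) : False := by
  have hfin := finite_M
  have i3 : Fact (Nat.Prime 3) := ⟨Nat.prime_three⟩
  have i19 : Fact (Nat.Prime 19) := ⟨by norm_num⟩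
  obtain ⟨⟨x, hx⟩, hxo⟩ := exists_prime_orderOf_dvd_card' 3 (G := f.ker) (by rw [h3])
  rw [Subgroup.orderOf_mk] at hxo
  obtain ⟨y, hy, -⟩ := h.exists_prime h19 (by rw [h3]; norm_num)
  have hxc := mem_center_iff.1 (hc hx)
  have h4 := Cfsg.Agent.H935.ThreeC.card_cent_three (x := (x : Spor.Monster)) (y := (y : Spor.Monster))
    (by rw [Subgroup.orderOf_coe, hxo]) (by rw [Subgroup.orderOf_coe, hy]) (congrArg Subtype.val (hxc y).symm)
  have hAx : A ≤ centralizer ({(x : Spor.Monster)} : Set Spor.Monster) := fun a ha =>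
    mem_centralizer_singleton_iff.2 (congrArg Subtype.val (hxc ⟨a, ha⟩))
  have h5 := card_dvd_of_le hAx
  rw [h4, h.card, h3] at h5
  apply hJ
  exact Nat.dvd_of_mul_dvd_mul_left (by norm_num : 0 < 3) (by simpa using h5)

/-- a trivial kernel gives an isomorphism -/
theorem exists_equiv {A J : Type*} [Group A] [Group J] {f : A →* J} (h : Cov f) (h1 : Nat.card f.ker = 1) :
    Nonempty (A ≃* J) :=
  ⟨MulEquiv.ofBijective f ⟨(MonoidHom.ker_eq_bot_iff f).1 (card_eq_one.1 h1), h.surj⟩⟩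

end Cfsg.Agent.H329.Sec.MLev
end

-- part: H935/RuM/Main
section
/-!
# The Rudvalis group is not a subgroup of the Monster (helper935, argument of helper847)
-/

set_option autoImplicit false

namespace Cfsg.Agent.H935.RuM

open Cfsg Cfsg.Agent.SporadicB Cfsg.Agent.BpSpor.MBigModel

theorem no_model (f : RuOrder.H →* MG) : ¬ Function.Injective f := by
  intro hf
  obtain ⟨v, w, h, g, hvv, hv, hww, hw, hvw, cvw, cvh, cwh, hh, hh1, h7, h71⟩ := exists_elts
  refine false_of_hom f hf (g := g) hvv hv hww hw hvw cvw cvh cwh ?_ ?_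
  · exact orderOf_eq_prime (hp := ⟨by norm_num⟩) hh hh1
  · rw [orderOf_eq_prime (hp := ⟨by norm_num⟩) h7 h71]
    norm_num

/-- **No injective homomorphism from `Ru` to the Monster.** -/
theorem no_hom {R : Type*} [Group R] (h : Spor.IsoRu R) (f : R →* Spor.Monster) : ¬ Function.Injective f := by
  intro hf
  obtain ⟨e⟩ := h
  obtain ⟨e1⟩ : Nonempty (Spor.Ru ≃* RuOrder.H) := ⟨RuLat.Main.equiv⟩
  obtain ⟨e2⟩ := MonsterP.Equiv.equiv
  refine no_model ((e2.toMonoidHom.comp f).comp ((e.trans e1).symm.toMonoidHom)) ?_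
  exact (e2.injective.comp hf).comp (e.trans e1).symm.injective

/-- **No subgroup of the Monster is isomorphic to `Ru`.** -/
theorem no_subgroup (H : Subgroup Spor.Monster) : ¬ Spor.IsoRu ↥H := fun h =>
  no_hom h H.subtype H.subtype_injective

end Cfsg.Agent.H935.RuM
end

-- part: H329/Sec/Main
section
/-!
# S2198: from sections to subgroups (helper329)

`main` : if no subgroup of the Monster is isomorphic to `J₃` or `O'N` then none of `Ly`, `J₄`, `J₃`, `O'N`, `Ru` is
a section of the Monster.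
-/

set_option autoImplicit false
set_option maxRecDepth 100000

namespace Cfsg.Agent.H329.Sec.Main

open Subgroup Cfsg Cfsg.Agent.H329.Sec.MLev

theorem bound {k m r v p : ℕ} (hkm : k ∣ m) (hv : ¬ r ^ (v + 1) ∣ m) (h : ∀ i, 1 ≤ i → i ≤ v → ¬ p ∣ r ^ i - 1) :
    ∀ i, 1 ≤ i → r ^ i ∣ k → ¬ p ∣ r ^ i - 1 := by
  intro i h1 h2
  apply h i h1
  by_contra hlt
  exact hv ((pow_dvd_pow r (by omega)).trans (h2.trans hkm))

theorem eq_of_dvd_pow {r q e : ℕ} (hr : r.Prime) (hq : q.Prime) (h : r ∣ q ^ e) : r = q :=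
  (Nat.prime_dvd_prime_iff_eq hr hq).1 (hr.dvd_of_dvd_pow h)

/-- the orders of the kernel divide `|M| / |J|` -/
theorem ker_dvd {A : Subgroup Spor.Monster} {J : Type} [Group J] {f : ↥A →* J} (h : Cov f) {n m : ℕ}
    (hJ : Nat.card J = n) (hn : 0 < n) (hm : Nat.card Spor.Monster = m * n) : Nat.card f.ker ∣ m := by
  have := finite_M
  have h1 := card_subgroup_dvd_card A
  rw [h.card, hJ, hm] at h1
  exact Nat.dvd_of_mul_dvd_mul_right hn h1

/-- the primes whose squares divide `|M|` -/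
theorem primes {r : ℕ} (hr : r.Prime) (h : r ^ 2 ∣ Nat.card Spor.Monster) :
    r = 2 ∨ r = 3 ∨ r = 5 ∨ r = 7 ∨ r = 11 ∨ r = 13 := by
  have h1 : r ∣ 2 ^ 46 * 3 ^ 20 * 5 ^ 9 * 7 ^ 6 * 11 ^ 2 * 13 ^ 3 * 17 ^ 1 * 19 ^ 1 * 23 ^ 1 * 29 ^ 1 * 31 ^ 1 * 41 ^ 1 *
      47 ^ 1 * 59 ^ 1 * 71 ^ 1 := by
    refine (dvd_pow_self r (by norm_num)).trans (h.trans ?_)
    rw [card_m]
    norm_num
  rw [card_m] at h
  simp only [hr.dvd_mul] at h1
  rcases h1 with ((((((((((((((h1 | h1) | h1) | h1) | h1) | h1) | h1) | h1) | h1) | h1) | h1) | h1) | h1) | h1) | h1)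
  · exact Or.inl (eq_of_dvd_pow hr (by norm_num) h1)
  · exact Or.inr (Or.inl (eq_of_dvd_pow hr (by norm_num) h1))
  · exact Or.inr (Or.inr (Or.inl (eq_of_dvd_pow hr (by norm_num) h1)))
  · exact Or.inr (Or.inr (Or.inr (Or.inl (eq_of_dvd_pow hr (by norm_num) h1))))
  · exact Or.inr (Or.inr (Or.inr (Or.inr (Or.inl (eq_of_dvd_pow hr (by norm_num) h1)))))
  · exact Or.inr (Or.inr (Or.inr (Or.inr (Or.inr (eq_of_dvd_pow hr (by norm_num) h1)))))
  all_goals
    exfalso
    have h2 := eq_of_dvd_pow hr (by norm_num) h1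
    subst h2
    revert h
    norm_num

theorem not_dvd_ker' {A : Subgroup Spor.Monster} {J : Type} [Group J] {f : ↥A →* J} (h : Cov f) {p : ℕ}
    (hpJ : p ∣ Nat.card J) (hp2 : ¬ p ^ 2 ∣ 808017424794512875886459904961710757005754368000000000) :
    ¬ p ∣ Nat.card f.ker := by
  have := finite_M
  exact BLev.not_dvd_ker h hpJ (by rwa [card_m])

/-! ### `J₃` -/

theorem odd_j3 {A : Subgroup Spor.Monster} {J : Type} [Group J] [IsSimpleGroup J] {f : ↥A →* J} (h : Cov f)
    (hJ : Nat.card J = 50232960) : OddCentral f := by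
  have hfin := finite_M
  have hk : Nat.card f.ker ∣ 16085403384441467830811879390776708300800000000 :=
    ker_dvd h hJ (by norm_num) (by rw [card_m])
  have h17 : 17 ∣ Nat.card J := by rw [hJ]; norm_num
  have h19 : 19 ∣ Nat.card J := by rw [hJ]; norm_num
  have k17 := not_dvd_ker' h h17 (by norm_num)
  have k19 := not_dvd_ker' h h19 (by norm_num)
  refine h.odd fun r hr hr2 hrk => ?_
  rcases primes hr (hrk.trans ((card_subgroup_dvd_card f.ker).trans (card_subgroup_dvd_card A))) with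
    rfl | rfl | rfl | rfl | rfl | rfl
  · exact absurd rfl hr2
  · exact ⟨19, by norm_num, h19, k19, bound (v := 15) hk (by norm_num)
      (by intro i h1 h2; interval_cases i <;> norm_num)⟩
  · exact ⟨19, by norm_num, h19, k19, bound (v := 8) hk (by norm_num)
      (by intro i h1 h2; interval_cases i <;> norm_num)⟩
  · exact ⟨17, by norm_num, h17, k17, bound (v := 6) hk (by norm_num)
      (by intro i h1 h2; interval_cases i <;> norm_num)⟩
  · exact ⟨19, by norm_num, h19, k19, bound (v := 2) hk (by norm_num)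
      (by intro i h1 h2; interval_cases i <;> norm_num)⟩
  · exact ⟨19, by norm_num, h19, k19, bound (v := 3) hk (by norm_num)
      (by intro i h1 h2; interval_cases i <;> norm_num)⟩

/-- **`J₃`** -/
theorem j3 (hno : ∀ H : Subgroup Spor.Monster, ¬ Spor.IsoJ3 ↥H) (A : Subgroup Spor.Monster) (B : Subgroup ↥A)
    [B.Normal] : ¬ Spor.IsoJ3 (↥A ⧸ B) := by
  rintro ⟨F, iF, iT, ω, hF, hω, ⟨e⟩⟩
  have hfin := finite_M
  obtain ⟨-, -, hcard, hs⟩ := Cfsg.Agent.S1625.result F hF ω hω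
  have hna : ¬ IsMulCommutative (Spor.J3 F ω) := fun hc => by
    have h0 : Finite (Spor.J3 F ω) := Nat.finite_of_card_ne_zero (by rw [hcard]; norm_num)
    let _ : CommGroup (Spor.J3 F ω) := { (inferInstance : Group (Spor.J3 F ω)) with mul_comm := hc.is_comm.comm }
    have h1 : (Nat.card (Spor.J3 F ω)).Prime := IsSimpleGroup.prime_card
    rw [hcard] at h1
    norm_num at h1
  obtain ⟨A', f, h⟩ := exists_cov hna A (e.toMonoidHom.comp (QuotientGroup.mk' B))
    (e.surjective.comp (QuotientGroup.mk'_surjective B))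
  have ho := odd_j3 h hcard
  have hm := Cfsg.Agent.S2041.result hF ω hω
  have h17 : 17 ∣ Nat.card (Spor.J3 F ω) := by rw [hcard]; norm_num
  have h19 : 19 ∣ Nat.card (Spor.J3 F ω) := by rw [hcard]; norm_num
  have h2 := odd_ker_b h ho h17 h19 hm (by norm_num)
  have hc := ker_le_center ho h2
  rcases (Nat.dvd_prime Nat.prime_three).1 (h.card_dvd hc hm) with h3 | h3
  · obtain ⟨E⟩ := exists_equiv h h3
    exact hno A' ⟨F, iF, iT, ω, hF, hω, ⟨E⟩⟩
  · exact not_three h hc h3 h19 (by rw [hcard]; norm_num)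

/-! ### `O'N` -/

theorem odd_on {A : Subgroup Spor.Monster} {J : Type} [Group J] [IsSimpleGroup J] {f : ↥A →* J} (h : Cov f)
    (hJ : Nat.card J = 460815505920) : OddCentral f := by
  have hfin := finite_M
  have hk : Nat.card f.ker ∣ 1753451032819171146797290273269350400000000 :=
    ker_dvd h hJ (by norm_num) (by rw [card_m])
  have h31 : 31 ∣ Nat.card J := by rw [hJ]; norm_num
  have h19 : 19 ∣ Nat.card J := by rw [hJ]; norm_num
  have k31 := not_dvd_ker' h h31 (by norm_num)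
  have k19 := not_dvd_ker' h h19 (by norm_num)
  refine h.odd fun r hr hr2 hrk => ?_
  rcases primes hr (hrk.trans ((card_subgroup_dvd_card f.ker).trans (card_subgroup_dvd_card A))) with
    rfl | rfl | rfl | rfl | rfl | rfl
  · exact absurd rfl hr2
  · exact ⟨19, by norm_num, h19, k19, bound (v := 16) hk (by norm_num)
      (by intro i h1 h2; interval_cases i <;> norm_num)⟩
  · exact ⟨19, by norm_num, h19, k19, bound (v := 8) hk (by norm_num)
      (by intro i h1 h2; interval_cases i <;> norm_num)⟩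
  · exact ⟨31, by norm_num, h31, k31, bound (v := 3) hk (by norm_num)
      (by intro i h1 h2; interval_cases i <;> norm_num)⟩
  · exact ⟨19, by norm_num, h19, k19, bound (v := 1) hk (by norm_num)
      (by intro i h1 h2; interval_cases i <;> norm_num)⟩
  · exact ⟨19, by norm_num, h19, k19, bound (v := 3) hk (by norm_num)
      (by intro i h1 h2; interval_cases i <;> norm_num)⟩

/-- **`O'N`** -/
theorem on (hno : ∀ H : Subgroup Spor.Monster, ¬ Spor.IsoON ↥H) (A : Subgroup Spor.Monster) (B : Subgroup ↥A)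
    [B.Normal] : ¬ Spor.IsoON (↥A ⧸ B) := by
  rintro ⟨e⟩
  have hfin := finite_M
  have hcard : Nat.card Spor.ON = 460815505920 := Cfsg.Agent.S1699.result.2
  have hs : IsSimpleGroup Spor.ON := Cfsg.Agent.S1699.result.1
  have hna : ¬ IsMulCommutative Spor.ON := fun hc => by
    have h0 : Finite Spor.ON := Nat.finite_of_card_ne_zero (by rw [hcard]; norm_num)
    let _ : CommGroup Spor.ON := { (inferInstance : Group Spor.ON) with mul_comm := hc.is_comm.comm }
    have h1 : (Nat.card Spor.ON).Prime := IsSimpleGroup.prime_card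
    rw [hcard] at h1
    norm_num at h1
  obtain ⟨A', f, h⟩ := exists_cov hna A (e.toMonoidHom.comp (QuotientGroup.mk' B))
    (e.surjective.comp (QuotientGroup.mk'_surjective B))
  have ho := odd_on h hcard
  have hm := Cfsg.Agent.S2052.result
  have h19 : 19 ∣ Nat.card Spor.ON := by rw [hcard]; norm_num
  have h2 := odd_ker_c h (p := 19) (by norm_num) (by norm_num) h19 (by rw [card_m]; norm_num)
    (by intro i h1 h2; interval_cases i <;> norm_num) (by rw [hcard]; norm_num) (by rw [hcard]; norm_num)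
  have hc := ker_le_center ho h2
  rcases (Nat.dvd_prime Nat.prime_three).1 (h.card_dvd hc hm) with h3 | h3
  · obtain ⟨E⟩ := exists_equiv h h3
    exact hno A' ⟨E⟩
  · exact not_three h hc h3 h19 (by rw [hcard]; norm_num)

/-! ### `Ru` -/

theorem odd_ru {A : Subgroup Spor.Monster} {J : Type} [Group J] [IsSimpleGroup J] {f : ↥A →* J} (h : Cov f)
    (hJ : Nat.card J = 145926144000) : OddCentral f := by
  have hfin := finite_M
  have hk : Nat.card f.ker ∣ 5537166971221502816427876727570563072000000 :=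
    ker_dvd h hJ (by norm_num) (by rw [card_m])
  have h29 : 29 ∣ Nat.card J := by rw [hJ]; norm_num
  have k29 := not_dvd_ker' h h29 (by norm_num)
  refine h.odd fun r hr hr2 hrk => ?_
  rcases primes hr (hrk.trans ((card_subgroup_dvd_card f.ker).trans (card_subgroup_dvd_card A))) with
    rfl | rfl | rfl | rfl | rfl | rfl
  · exact absurd rfl hr2
  · exact ⟨29, by norm_num, h29, k29, bound (v := 17) hk (by norm_num)
      (by intro i h1 h2; interval_cases i <;> norm_num)⟩
  · exact ⟨29, by norm_num, h29, k29, bound (v := 6) hk (by norm_num)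
      (by intro i h1 h2; interval_cases i <;> norm_num)⟩
  · exact ⟨29, by norm_num, h29, k29, bound (v := 5) hk (by norm_num)
      (by intro i h1 h2; interval_cases i <;> norm_num)⟩
  · exact ⟨29, by norm_num, h29, k29, bound (v := 2) hk (by norm_num)
      (by intro i h1 h2; interval_cases i <;> norm_num)⟩
  · exact ⟨29, by norm_num, h29, k29, bound (v := 2) hk (by norm_num)
      (by intro i h1 h2; interval_cases i <;> norm_num)⟩

/-- **`Ru`** -/
theorem ru (A : Subgroup Spor.Monster) (B : Subgroup ↥A) [B.Normal] : ¬ Spor.IsoRu (↥A ⧸ B) := by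
  rintro ⟨e⟩
  have hfin := finite_M
  obtain ⟨-, hcard, hs⟩ := Cfsg.Agent.RuLat.Main.main
  have hna : ¬ IsMulCommutative Spor.Ru := fun hc => by
    have h0 : Finite Spor.Ru := Nat.finite_of_card_ne_zero (by rw [hcard]; norm_num)
    let _ : CommGroup Spor.Ru := { (inferInstance : Group Spor.Ru) with mul_comm := hc.is_comm.comm }
    have h1 : (Nat.card Spor.Ru).Prime := IsSimpleGroup.prime_card
    rw [hcard] at h1
    norm_num at h1
  obtain ⟨A', f, h⟩ := exists_cov hna A (e.toMonoidHom.comp (QuotientGroup.mk' B))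
    (e.surjective.comp (QuotientGroup.mk'_surjective B))
  have ho := odd_ru h hcard
  have hm := Cfsg.Agent.S2051.result
  have h29 : 29 ∣ Nat.card Spor.Ru := by rw [hcard]; norm_num
  have h2 := odd_ker_c h (p := 29) (by norm_num) (by norm_num) h29 (by rw [card_m]; norm_num)
    (by intro i h1 h2; interval_cases i <;> norm_num) (by rw [hcard]; norm_num) (by rw [hcard]; norm_num)
  have hc := ker_le_center ho h2
  rcases (Nat.dvd_prime Nat.prime_two).1 (h.card_dvd hc hm) with h3 | h3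
  · obtain ⟨E⟩ := exists_equiv h h3
    exact Cfsg.Agent.H935.RuM.no_subgroup A' ⟨E⟩
  · exact h2 (by rw [h3])

/-! ### Lagrange -/

theorem lagrange {S : Type} [Group S] (h37 : 37 ∣ Nat.card S) (A : Subgroup Spor.Monster) (B : Subgroup ↥A)
    [B.Normal] (e : ↥A ⧸ B ≃* S) : False := by
  have h1 : Nat.card S ∣ Nat.card Spor.Monster := by
    rw [← Nat.card_congr e.toEquiv]
    exact (Subgroup.card_quotient_dvd_card B).trans (card_subgroup_dvd_card A)
  have h2 := h37.trans h1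
  rw [card_m] at h2
  norm_num at h2

/-- **S2198 from the subgroups.** -/
theorem main (hJ : ∀ H : Subgroup Spor.Monster, ¬ Spor.IsoJ3 ↥H) (hON : ∀ H : Subgroup Spor.Monster, ¬ Spor.IsoON ↥H)
    (A : Subgroup Spor.Monster) (B : Subgroup ↥A) [B.Normal] :
    ¬ Spor.IsoLy (↥A ⧸ B) ∧ ¬ Spor.IsoJ4 (↥A ⧸ B) ∧ ¬ Spor.IsoJ3 (↥A ⧸ B) ∧ ¬ Spor.IsoON (↥A ⧸ B) ∧
      ¬ Spor.IsoRu (↥A ⧸ B) := by
  refine ⟨?_, ?_, j3 hJ A B, on hON A B, ru A B⟩
  · rintro ⟨e⟩
    refine lagrange ?_ A B e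
    have h1 : Nat.card Spor.Ly = 51765179004000000 := Cfsg.Agent.S1702.result.2
    rw [h1]
    norm_num
  · rintro ⟨e⟩
    refine lagrange ?_ A B e
    have h1 : Nat.card Spor.J4 = 86775571046077562880 := Cfsg.Agent.S1703.result.2
    rw [h1]
    norm_num

end Cfsg.Agent.H329.Sec.Main
end

-- part: H847/ON/Main
section
/-!
# The O'Nan group is not a subgroup of the Monster (helper847, for S2198)

All involutions of O'N are 2B-elements of M. `h` of order 7 in `C(z)`: if it has fixed rank 6 then `C(h)/⟨h⟩ ≅ He` and `h` is a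
commutator in `C(h)`, a perfect cover of `He` with kernel of order 7. If it has fixed rank 0, `no_local` applies.
-/

set_option autoImplicit false
set_option maxRecDepth 100000

namespace Cfsg.Agent.H847.ON

open Cfsg Cfsg.Agent.MonsterX Cfsg.Agent.MonsterX.InstData Cfsg.Agent.MonsterU
open Cfsg.Agent.MonsterP Cfsg.Agent.MonsterN
open Cfsg.Agent.LThreeMB (fr XX Zx KChart.Cent KChart.pi KChart.chart exists_XX_equiv)
open Cfsg.Agent.PreUniq
open Cfsg.Spor (Co1)
open Subgroup
open scoped commutatorElement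

/-- A central element of prime order `p` which is a commutator in its centralizer: `C(h)/⟨h⟩` has a `p`-fold cover. -/
theorem no_cover {G : Type} [Group G] [Finite G] {X : Type} [Group X] {n : ℕ} (hX : commutator X = ⊤)
    (hno : H51.Mult.NoCov n X) {h p q : G} (ho : orderOf h = n) (π : centralizer ({h} : Set G) →* X)
    (hπ : Function.Surjective π) (hker : ∀ c, π c = 1 ↔ (c : G) ∈ zpowers h) (ph : p * h = h * p) (qh : q * h = h * q)
    (pq : p * q = h * (q * p)) : False := by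
  let h' : centralizer ({h} : Set G) := ⟨h, mem_centralizer_singleton_iff.2 rfl⟩
  let p' : centralizer ({h} : Set G) := ⟨p, mem_centralizer_singleton_iff.2 ph⟩
  let q' : centralizer ({h} : Set G) := ⟨q, mem_centralizer_singleton_iff.2 qh⟩
  have hcen : π.ker ≤ center (centralizer ({h} : Set G)) := by
    intro c hc
    obtain ⟨i, hi⟩ := mem_zpowers_iff.1 ((hker c).1 hc)
    rw [mem_center_iff]
    intro d
    apply Subtype.ext
    show (d : G) * c = c * d
    rw [← hi]
    exact ((show Commute (d : G) h from mem_centralizer_singleton_iff.1 d.2).zpow_right i).eq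
  have hh' : h' ∈ _root_.commutator (centralizer ({h} : Set G)) := by
    have e : h' = ⁅p', q'⁆ := by
      apply Subtype.ext
      show h = p * q * p⁻¹ * q⁻¹
      rw [pq]; group
    rw [e]
    exact commutator_mem_commutator (mem_top _) (mem_top _)
  have hkc : π.ker ≤ _root_.commutator (centralizer ({h} : Set G)) := by
    intro c hc
    obtain ⟨i, hi⟩ := mem_zpowers_iff.1 ((hker c).1 hc)
    have : c = h' ^ i := Subtype.ext (by rw [SubgroupClass.coe_zpow]; exact hi.symm)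
    rw [this]
    exact zpow_mem hh' i
  have hperf : _root_.commutator (centralizer ({h} : Set G)) = ⊤ := by
    have h1 : (_root_.commutator (centralizer ({h} : Set G))).map π = ⊤ := by
      rw [_root_.commutator_def, map_commutator, ← MonoidHom.range_eq_map, MonoidHom.range_eq_top.2 hπ, ← _root_.commutator_def, hX]
    rw [eq_top_iff]
    intro c _
    have h2 : π c ∈ (_root_.commutator (centralizer ({h} : Set G))).map π := by rw [h1]; trivial
    obtain ⟨d, hd, hdc⟩ := h2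
    have h3 : d⁻¹ * c ∈ π.ker := by
      rw [MonoidHom.mem_ker, map_mul, map_inv, hdc, inv_mul_cancel]
    have h4 : c = d * (d⁻¹ * c) := by group
    rw [h4]
    exact mul_mem hd (hkc h3)
  refine hno _ π ⟨hπ, hcen, hperf⟩ ?_
  have e : Nat.card π.ker = Nat.card (zpowers h) := by
    refine Nat.card_congr ⟨fun c => ⟨((c : centralizer ({h} : Set G)) : G), (hker _).1 c.2⟩, fun a => ⟨⟨a, ?_⟩, ?_⟩, fun c => rfl, fun a => rfl⟩
    · obtain ⟨i, hi⟩ := mem_zpowers_iff.1 a.2
      rw [← hi]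
      exact mem_centralizer_singleton_iff.2 ((Commute.refl h).zpow_left i).eq
    · exact (hker _).2 a.2
  rw [e, Nat.card_zpowers, ho]

/-- **The obstruction in the model.** -/
theorem no_tup {h x y p q k₁ k₂ k₃ c d u v : ↥InstData.M.G}
    (t : Tup KDone.K.z h x y p q k₁ k₂ k₃ c d u v) (h1 : h ≠ 1) : False := by
  have hfin : Finite ↥InstData.M.G := MonRow.finite
  have hch := KChart.chart KDone.lft MonRow.cent
  have hf7 : Fact (Nat.Prime 7) := ⟨by norm_num⟩
  let h' : centralizer ({KDone.K.z} : Set ↥InstData.M.G) := ⟨h, mem_centralizer_singleton_iff.2 t.ht⟩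
  have oh : orderOf h = 7 := orderOf_eq_prime t.h7 h1
  have oh' : orderOf h' = 7 := by rw [← Subgroup.orderOf_coe]; exact oh
  rcases CpAutMSeven.Ranks.hranks _ (MFive.orderOf_pi hch (by norm_num) (by decide) oh') with hfr | hfr
  · refine no_local (Q := KDone.K.ι.range) hch.card_Q hch.large.z_mem hch.large.z_ne ?_ t h1 ?_
    · intro c hc q hq
      exact hch.large.conj_mem c hc q hq
    · intro q hq hc
      exact MonGen.free_of_fr hch (p := 7) (by decide) (x := h') (by rw [← oh', pow_orderOf_eq_one]) hfr hq hc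
  · have hHe : Cfsg.Spor.IsoHe (XX (h' : ↥InstData.M.G)) :=
      Cfsg.Agent.BpRankZero.MSix.isoHe_of oh' hfr (Cfsg.Agent.CpAutMSeven.SixRow.heHyp _ oh' hfr)
    obtain ⟨e⟩ := hHe
    have hs := Cfsg.Agent.S1695.result
    have : Finite Spor.He := Nat.finite_of_card_ne_zero (by rw [hs.2]; norm_num)
    have hX : commutator Spor.He = ⊤ := H51.Tools.perfect_of_simple hs.1 (by rw [hs.2]; norm_num)
    refine no_cover hX H58.HeOdd.noCov_seven oh (e.toMonoidHom.comp (QuotientGroup.mk' (Zx h))) ?_ ?_ t.ph t.qh t.pq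
    · exact e.surjective.comp (QuotientGroup.mk'_surjective _)
    · intro c
      rw [MonoidHom.comp_apply]
      show e (QuotientGroup.mk' (Zx h) c) = 1 ↔ _
      rw [map_eq_one_iff e e.injective, QuotientGroup.mk'_apply, QuotientGroup.eq_one_iff]
      constructor
      · intro hc
        obtain ⟨i, hi⟩ := mem_zpowers_iff.1 hc
        exact mem_zpowers_iff.2 ⟨i, by rw [← hi]; rfl⟩
      · intro hc
        obtain ⟨i, hi⟩ := mem_zpowers_iff.1 hc
        exact mem_zpowers_iff.2 ⟨i, Subtype.ext (by rw [← hi]; rfl)⟩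

/-- **The obstruction for homomorphisms.** -/
theorem no_model {R : Type*} [Group R] (f : R →* ↥InstData.M.G) (hf : Function.Injective f)
    {τ h x y p q k₁ k₂ k₃ c d u v : R} (t : Tup τ h x y p q k₁ k₂ k₃ c d u v) (hτ : τ ≠ 1) (h1 : h ≠ 1)
    (h4 : (c * d) ^ 4 ≠ 1) : False := by
  -- `τ` is conjugate to `z`
  have hcc : c * c = 1 := by
    have : c * c = u⁻¹ * (u * c * u⁻¹) * (u * c * u⁻¹) * u := by group
    rw [this, t.ut, mul_assoc u⁻¹, t.tt]; group
  have hc1 : c ≠ 1 := by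
    rintro rfl
    apply hτ
    rw [← t.ut]; group
  have hd : d = (v⁻¹ * u) * c * (v⁻¹ * u)⁻¹ := by
    have h2 : d = v⁻¹ * (v * d * v⁻¹) * v := by group
    rw [h2, t.vt, ← t.ut]; group
  have ho : orderOf (c * d) = 8 := by
    have hf2 : Fact (Nat.Prime 2) := ⟨Nat.prime_two⟩
    exact orderOf_eq_prime_pow (p := 2) (n := 2) (by norm_num; exact h4) (by norm_num; exact t.cd)
  obtain ⟨k, hk⟩ := H935.RuM.conj_zz (u := f c) (g := f (v⁻¹ * u)) (by rw [← map_mul, hcc, map_one])
    (fun h2 => hc1 (hf (by rw [h2, map_one]))) (by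
      have h2 : f c * (f (v⁻¹ * u) * f c * (f (v⁻¹ * u))⁻¹) = f (c * d) := by
        conv_rhs => rw [hd]
        simp only [map_mul, map_inv]
      rw [h2, orderOf_injective f hf, ho]
      norm_num)
  let g : R →* ↥InstData.M.G := (MulAut.conj (f u * k)⁻¹).toMonoidHom.comp f
  have hg : Function.Injective g := (MulAut.conj (f u * k)⁻¹).injective.comp hf
  have hgz : g τ = KDone.K.z := by
    show (f u * k)⁻¹ * f τ * (f u * k)⁻¹⁻¹ = KDone.K.z
    rw [← t.ut, map_mul, map_mul, map_inv, ← hk]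
    group
  have t' := t.map g
  rw [hgz] at t'
  exact no_tup t' (fun h2 => h1 (hg (by rw [h2, map_one])))

/-- **No injective homomorphism from `ON` to the Monster.** -/
theorem no_hom {R : Type*} [Group R] (h : Spor.IsoON R) (f : R →* Spor.Monster) : ¬ Function.Injective f := by
  intro hf
  obtain ⟨e⟩ := h
  obtain ⟨e2⟩ := MonsterP.Equiv.equiv
  obtain ⟨τ, h, x, y, p, q, k₁, k₂, k₃, c, d, u, v, t, h1, h2, h3⟩ := exists_tup
  refine no_model ((e2.toMonoidHom.comp f).comp e.symm.toMonoidHom) ?_ t h1 h2 h3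
  exact (e2.injective.comp hf).comp e.symm.injective

/-- **No subgroup of the Monster is isomorphic to `ON`.** -/
theorem no_subgroup (H : Subgroup Spor.Monster) : ¬ Spor.IsoON ↥H := fun h =>
  no_hom h H.subtype H.subtype_injective

end Cfsg.Agent.H847.ON
end

-- part: H820/Par/Final
section
/-!
# S2198: everything but E1 and E2 (helper820)
-/

set_option autoImplicit false

namespace Cfsg.Agent.H820.Par

open Cfsg

/-- **No subgroup of the Monster is isomorphic to `J₃`**, from E1 and E2. -/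
theorem no_subgroup (hE1 : EOneStmt) (hE2 : ETwoStmt) (H : Subgroup Spor.Monster) : ¬ Spor.IsoJ3 ↥H :=
  no_subgroup_of H660.JSide.jside H848.JCaseTwo.caseTwo H819.ParLift.dod hE1 hE2 H833.EFour.eFour H

/-- **S2198**, from E1 and E2. -/
theorem final (hE1 : EOneStmt) (hE2 : ETwoStmt) (A : Subgroup Spor.Monster) (B : Subgroup ↥A) [B.Normal] :
    ¬ Spor.IsoLy (↥A ⧸ B) ∧ ¬ Spor.IsoJ4 (↥A ⧸ B) ∧ ¬ Spor.IsoJ3 (↥A ⧸ B) ∧ ¬ Spor.IsoON (↥A ⧸ B) ∧
      ¬ Spor.IsoRu (↥A ⧸ B) :=
  H329.Sec.Main.main (no_subgroup hE1 hE2) H847.ON.no_subgroup A B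

end Cfsg.Agent.H820.Par
end

private theorem dce_991b5b968520 : _root_.True := by
  try have : _root_.True := by simp only [_root_.Cfsg.Agent.H833.EFour.th.eq_1]
  try have : _root_.True := by simp only [_root_.Cfsg.Agent.H660.JSide.pq.eq_1]
  try have : _root_.True := by simp only [_root_.Cfsg.Agent.H660.JSide.KK.congr_simp]
  try have : _root_.True := by simp only [_root_.Cfsg.Agent.H833.DodRank.pk.eq_1]
  try have : _root_.True := by simp only [_root_.Cfsg.Agent.H833.DodRank.F4.eq_1]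
  exact _root_.True.intro
end

-- part: H109/EOneB
section
prune_inst 0x21104400406200000018001022000024440000000040000018c00546014c0240a00000010ca01400000880003000002000100080400000000a000400000500000082120030400000040006802004000000000000000000000000000000000000000000000
set_option linter.all false
open scoped Cfsg.Agent.FastGrp

-- part: H109/EOneA
section
/-!
# Commuting involutions of trace 8 of `Co0` (helper109, S2198 E1)

* `norm_oct` : for an involution `h` of trace 8 and `x` in the lattice `x + h x = 0` or its norm is at least 64;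
* `eq_sign` : such an `h` with `h (8 e_i) = - 8 e_i` is a sign change;
* `exists_common` : for commuting `g`, `h`, `g h` of trace 8 there is a vector of norm 64 negated by `g` and `h`.
-/

set_option autoImplicit false

namespace Cfsg.Agent.H109.EOne

open Cfsg Cfsg.Agent.SporadicA Cfsg.Agent.CoOneType
open Cfsg.Agent.SporadicA.Co0Mono Cfsg.Agent.SporadicA.Co1Simple Cfsg.Agent.CoOneType.SignFacts
open Cfsg.Agent.SporadicStructure.Co0Base (e8 e8_coe)
open Cfsg.Agent.CoOneType.CoOneE (sup_inj sup_add wt_add sup_mem_octads allOne_ne mem_center_iff)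
open Cfsg.Agent.H820.Par

/-! ### norms -/

theorem par (v w : leechLattice) : sqNorm ((v + w : leechLattice) : GolayPt → ℤ) +
    sqNorm ((v - w : leechLattice) : GolayPt → ℤ) =
    2 * sqNorm (v : GolayPt → ℤ) + 2 * sqNorm (w : GolayPt → ℤ) := by
  simp only [sqNorm, ← Finset.sum_add_distrib, Finset.mul_sum]
  refine Finset.sum_congr rfl fun i _ => ?_
  have h1 : ((v + w : leechLattice) : GolayPt → ℤ) i = (v : GolayPt → ℤ) i + (w : GolayPt → ℤ) i := rfl
  have h2 : ((v - w : leechLattice) : GolayPt → ℤ) i = (v : GolayPt → ℤ) i - (w : GolayPt → ℤ) i := rfl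
  rw [h1, h2]
  ring

theorem sqNorm_nonneg (v : leechLattice) : 0 ≤ sqNorm (v : GolayPt → ℤ) :=
  Finset.sum_nonneg fun _ _ => sq_nonneg _

theorem eq_zero_of_sqNorm {v : leechLattice} (h : sqNorm (v : GolayPt → ℤ) ≤ 0) : v = 0 := by
  have h1 : sqNorm (v : GolayPt → ℤ) = 0 := le_antisymm h (sqNorm_nonneg v)
  rw [sqNorm, Finset.sum_eq_zero_iff_of_nonneg fun i _ => sq_nonneg _] at h1
  apply Subtype.ext
  funext i
  have := h1 i (Finset.mem_univ _)
  exact pow_eq_zero_iff two_ne_zero |>.1 this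

theorem sqNorm_two (v : leechLattice) : sqNorm ((2 • v : leechLattice) : GolayPt → ℤ) = 4 * sqNorm (v : GolayPt → ℤ) := by
  simp only [sqNorm, Finset.mul_sum]
  refine Finset.sum_congr rfl fun i _ => ?_
  have h1 : ((2 • v : leechLattice) : GolayPt → ℤ) i = 2 * (v : GolayPt → ℤ) i := by
    show (2 : ℕ) • (v : GolayPt → ℤ) i = _
    rw [nsmul_eq_mul]; rfl
  rw [h1]
  ring

theorem sq_of_odd {a : ℤ} (h : a % 2 = 1) : 1 ≤ a ^ 2 := by
  have h1 : a ≠ 0 := by rintro rfl; norm_num at h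
  have := Int.one_le_abs h1
  nlinarith [sq_abs a]

/-- the part of a code word off an octad -/
theorem card_sdiff (c d : golayCode) (hc : wt c = 8) : (sup d \ sup c).card = 0 ∨ 4 ≤ (sup d \ sup c).card := by
  have h1 := wt_add d c
  have h2 := wt_cases d
  have h3 := wt_cases (d + c)
  have h4 : (sup d \ sup c).card + (sup d ∩ sup c).card = wt d := by
    rw [Finset.card_sdiff_add_card_inter]; rfl
  have h5 : (sup d ∩ sup c).card ≤ 8 := by
    rw [← hc]
    exact Finset.card_le_card Finset.inter_subset_right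
  rw [hc] at h1
  omega

theorem norm_sign {c : golayCode} (hc : wt c = 8) (x : leechLattice) :
    x + signCo0 c • x = 0 ∨ 64 ≤ sqNorm ((x + signCo0 c • x : leechLattice) : GolayPt → ℤ) := by
  have hco : ∀ i, ((x + signCo0 c • x : leechLattice) : GolayPt → ℤ) i =
      if i ∈ sup c then 0 else 2 * (x : GolayPt → ℤ) i := by
    intro i
    show (x : GolayPt → ℤ) i + ((signCo0 c • x : leechLattice) : GolayPt → ℤ) i = _
    rw [signCo0_smul, signMap_apply]
    by_cases hi : i ∈ sup c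
    · rw [if_pos hi, (mem_sup c i).1 hi, sgn_one]; ring
    · rw [if_neg hi, (notMem_sup c i).1 hi, sgn_zero]; ring
  have hcard : ((sup c)ᶜ).card = 16 := by
    rw [Finset.card_compl, Cfsg.Agent.Leech.Code.card_golayPt]
    unfold wt at hc
    omega
  have key : (∀ i, i ∉ sup c → (x : GolayPt → ℤ) i = 0) ∨ 16 ≤ ∑ i ∈ (sup c)ᶜ, (x : GolayPt → ℤ) i ^ 2 := by
    rcases Cfsg.Agent.SporadicA.LeechMin.even_or_odd x.2 with ⟨y, hy, -, hyc⟩ | ⟨m, z, hm, hz, -, -⟩
    · obtain ⟨d, hd⟩ : ∃ d : golayCode, d = ⟨_, hyc⟩ := ⟨_, rfl⟩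
      have hd' : ∀ i, i ∈ sup d ↔ y i % 2 = 1 := by
        intro i
        rw [mem_sup, hd]
        show ((y i : ℤ) : ZMod 2) = 1 ↔ _
        rw [← Int.cast_one, ZMod.intCast_eq_intCast_iff]
        unfold Int.ModEq
        norm_num
      rcases card_sdiff c d hc with h0 | h4
      · rw [Finset.card_eq_zero, Finset.sdiff_eq_empty_iff_subset] at h0
        by_cases hall : ∀ i, i ∉ sup c → (x : GolayPt → ℤ) i = 0
        · exact Or.inl hall
        right
        push Not at hall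
        obtain ⟨i, hi, hxi⟩ := hall
        have h1 : y i % 2 ≠ 1 := fun h => hi (h0 ((hd' i).2 h))
        have h2 : 16 ≤ (x : GolayPt → ℤ) i ^ 2 := by
          obtain ⟨k, hk⟩ : ∃ k, (x : GolayPt → ℤ) i = 4 * k := ⟨y i / 2, by rw [hy i]; omega⟩
          rw [hk] at hxi ⊢
          have hk0 : k ≠ 0 := by rintro rfl; exact hxi rfl
          have := Int.one_le_abs hk0
          nlinarith [sq_abs k]
        exact h2.trans (Finset.single_le_sum (f := fun i => (x : GolayPt → ℤ) i ^ 2) (fun i _ => sq_nonneg _)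
          (Finset.mem_compl.2 hi))
      · right
        have h1 : ∀ i ∈ sup d \ sup c, (4 : ℤ) ≤ (x : GolayPt → ℤ) i ^ 2 := by
          intro i hi
          rw [Finset.mem_sdiff, hd'] at hi
          rw [hy i]
          have := sq_of_odd hi.1
          linarith
        have h2 := Finset.card_nsmul_le_sum _ _ _ h1
        have h3 : ∑ i ∈ sup d \ sup c, (x : GolayPt → ℤ) i ^ 2 ≤ ∑ i ∈ (sup c)ᶜ, (x : GolayPt → ℤ) i ^ 2 := by
          apply Finset.sum_le_sum_of_subset_of_nonneg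
          · intro i hi
            exact Finset.mem_compl.2 (Finset.mem_sdiff.1 hi).2
          · intro i _ _
            exact sq_nonneg _
        rw [nsmul_eq_mul] at h2
        have h5 : (4 : ℤ) ≤ ((sup d \ sup c).card : ℤ) := by exact_mod_cast h4
        linarith
    · right
      have h1 : ∀ i ∈ (sup c)ᶜ, (1 : ℤ) ≤ (x : GolayPt → ℤ) i ^ 2 := by
        intro i _
        apply sq_of_odd
        rw [hz i]
        omega
      have h2 := Finset.card_nsmul_le_sum _ _ _ h1
      rw [hcard] at h2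
      norm_num at h2
      exact h2
  rcases key with h | h
  · left
    apply Subtype.ext
    funext i
    rw [hco]
    split_ifs with hi
    · rfl
    · rw [h i hi]; rfl
  · right
    have h1 : sqNorm ((x + signCo0 c • x : leechLattice) : GolayPt → ℤ) = 4 * ∑ i ∈ (sup c)ᶜ, (x : GolayPt → ℤ) i ^ 2 := by
      rw [sqNorm, Finset.mul_sum, ← Finset.sum_subset (Finset.subset_univ (sup c)ᶜ)]
      · refine Finset.sum_congr rfl fun i hi => ?_
        rw [hco, if_neg (Finset.mem_compl.1 hi)]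
        ring
      · intro i _ hi
        rw [Finset.mem_compl, not_not] at hi
        rw [hco, if_pos hi]
        norm_num
    rw [h1]
    linarith

theorem oct_conj {g : Co0} (h : IsOct g) (k : Co0) : IsOct (k * g * k⁻¹) := by
  obtain ⟨l, c, hc, h1⟩ := h
  exact ⟨l * k⁻¹, c, hc, by rw [← h1]; group⟩

theorem oct_exists {g : Co0} (h : IsOct g) : ∃ (k : Co0) (c : golayCode), wt c = 8 ∧ k * g * k⁻¹ = signCo0 c := by
  obtain ⟨l, c, hc, h1⟩ := h
  exact ⟨l, c, (sup_mem_octads c).1 hc, h1⟩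

theorem isOct_sign {c : golayCode} (h : wt c = 8) : IsOct (signCo0 c) :=
  ⟨1, c, (sup_mem_octads c).2 h, by group⟩

/-- conjugate sign changes -/
theorem oct_wt {c : golayCode} (h : IsOct (signCo0 c)) : wt c = 8 := by
  obtain ⟨k, d, hd, h1⟩ := oct_exists h
  rw [← hd]
  exact wt_eq_of_conj c d k (by rw [← h1]; group)

theorem oct_sq {g : Co0} (h : IsOct g) : g * g = 1 := by
  obtain ⟨k, c, -, h1⟩ := oct_exists h
  have h2 : g = k⁻¹ * signCo0 c * k := by rw [← h1]; group
  rw [h2]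
  calc k⁻¹ * signCo0 c * k * (k⁻¹ * signCo0 c * k) = k⁻¹ * (signCo0 c * signCo0 c) * k := by group
    _ = 1 := by rw [signCo0_mul_self]; group

theorem oct_ne {g : Co0} (h : IsOct g) : g ≠ 1 := by
  rintro rfl
  rw [← signCo0_zero] at h
  have h1 := oct_wt h
  rw [show wt 0 = 0 from by unfold SignFacts.wt; rw [CoOneType.CoOneE.sup_zero]; rfl] at h1
  omega

/-- **(P)** -/
theorem norm_oct {h : Co0} (hh : IsOct h) (x : leechLattice) :
    x + h • x = 0 ∨ 64 ≤ sqNorm ((x + h • x : leechLattice) : GolayPt → ℤ) := by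
  obtain ⟨k, c, hc, h1⟩ := oct_exists hh
  have h2 : k • (x + h • x) = k • x + signCo0 c • (k • x) := by
    rw [smul_add, ← h1, ← mul_smul, ← mul_smul]
    congr 2
    group
  rcases norm_sign hc (k • x) with h3 | h3
  · left
    rw [← h2] at h3
    have h4 : k⁻¹ • (k • (x + h • x)) = k⁻¹ • (0 : leechLattice) := by rw [h3]
    rwa [inv_smul_smul, smul_zero] at h4
  · right
    rwa [← h2, sqNorm_smul] at h3

/-! ### sign changes -/

/-- an element mapping every `8 e_i` to `8 e_i` or `- 8 e_i` is a sign change -/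
theorem eq_sign_of {h : Co0} (H : ∀ i, h • e8 i = e8 i ∨ h • e8 i = -e8 i) : ∃ c : golayCode, h = signCo0 c := by
  have hN : h ∈ N := by
    apply mem_N_of_e8
    intro i
    rw [mem_crossSet]
    exact ⟨i, H i⟩
  obtain ⟨c, σ, rfl⟩ := exists_sign_perm hN
  have hσ : σ = 1 := by
    apply Subtype.ext
    apply Equiv.ext
    intro i
    show (σ : Equiv.Perm GolayPt) i = i
    have h1 := H i
    rw [mul_smul, perm_smul_e8] at h1
    rcases sgn_smul_e8 c ((σ : Equiv.Perm GolayPt) i) with h2 | h2 <;> rw [h2] at h1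
    · exact e8_inj' h1
    · rcases h1 with h1 | h1
      · exact (e8_ne_neg _ _ h1.symm).elim
      · exact e8_inj (neg_inj.1 h1)
  exact ⟨c, by rw [hσ, map_one, mul_one]⟩

theorem sign_e8 (c : golayCode) (i : GolayPt) :
    signCo0 c • e8 i = if i ∈ sup c then -e8 i else e8 i := by
  apply Subtype.ext
  funext j
  rw [signCo0_smul, signMap_apply]
  by_cases hi : i ∈ sup c
  · rw [if_pos hi]
    show _ = -((e8 i : leechLattice) : GolayPt → ℤ) j
    rw [e8_coe]
    by_cases hj : j = i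
    · subst hj; rw [(mem_sup c j).1 hi, sgn_one]; ring
    · simp [hj]
  · rw [if_neg hi, e8_coe]
    by_cases hj : j = i
    · subst hj; rw [(notMem_sup c j).1 hi, sgn_zero]; ring
    · simp [hj]

theorem mem_of_neg {c : golayCode} {i : GolayPt} (h : signCo0 c • e8 i = -e8 i) : i ∈ sup c := by
  rw [sign_e8] at h
  by_contra hi
  rw [if_neg hi] at h
  exact e8_ne_neg _ _ h

theorem two_pv (i k : GolayPt) : e8 i + e8 k = 2 • pv i k 1 (Or.inl rfl) := by
  apply Subtype.ext
  funext j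
  show ((e8 i : leechLattice) : GolayPt → ℤ) j + ((e8 k : leechLattice) : GolayPt → ℤ) j =
    (2 : ℕ) • ((pv i k 1 (Or.inl rfl) : leechLattice) : GolayPt → ℤ) j
  rw [pv_apply, e8_coe, e8_coe, Pi.single_apply, Pi.single_apply, nsmul_eq_mul]
  split_ifs <;> norm_num

theorem two_pv' (i k : GolayPt) : e8 i - e8 k = 2 • pv i k (-1) (Or.inr rfl) := by
  apply Subtype.ext
  funext j
  show ((e8 i : leechLattice) : GolayPt → ℤ) j - ((e8 k : leechLattice) : GolayPt → ℤ) j =
    (2 : ℕ) • ((pv i k (-1) (Or.inr rfl) : leechLattice) : GolayPt → ℤ) j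
  rw [pv_apply, e8_coe, e8_coe, Pi.single_apply, Pi.single_apply, nsmul_eq_mul]
  split_ifs <;> norm_num

/-- **(D)** an involution of trace 8 negating `8 e_i` is a sign change. -/
theorem eq_sign {h : Co0} (hh : IsOct h) {i : GolayPt} (hi : h • e8 i = -e8 i) :
    ∃ c : golayCode, wt c = 8 ∧ i ∈ sup c ∧ h = signCo0 c := by
  obtain ⟨c, rfl⟩ : ∃ c : golayCode, h = signCo0 c := by
    apply eq_sign_of
    intro j
    by_cases hij : j = i
    · subst hij; exact Or.inr hi
    obtain ⟨x, hx⟩ : ∃ x, x = pv i j 1 (Or.inl rfl) := ⟨_, rfl⟩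
    have h1 : 2 • (x + h • x) = e8 j + h • e8 j := by
      rw [nsmul_add, ← smul_nsmul, hx, ← two_pv, Co0Mono.smul_add, hi]
      abel
    rcases norm_oct hh x with h2 | h2
    · right
      rw [h2, nsmul_zero] at h1
      exact (eq_neg_of_add_eq_zero_right h1.symm)
    · left
      have h3 := par (e8 j) (h • e8 j)
      rw [← h1, sqNorm_two, Co0Mono.sqNorm_smul, sqNorm_e8] at h3
      have h4 : sqNorm ((e8 j - h • e8 j : leechLattice) : GolayPt → ℤ) ≤ 0 := by linarith
      exact (sub_eq_zero.1 (eq_zero_of_sqNorm h4)).symm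
  exact ⟨c, oct_wt hh, mem_of_neg hi, rfl⟩

/-! ### common eigenvectors -/

theorem two_inj {v w : leechLattice} (h : 2 • v = 2 • w) : v = w := by
  apply Subtype.ext
  funext i
  have h1 : (2 : ℕ) • (v : GolayPt → ℤ) i = (2 : ℕ) • (w : GolayPt → ℤ) i :=
    congrArg (fun u : leechLattice => (u : GolayPt → ℤ) i) h
  rw [nsmul_eq_mul, nsmul_eq_mul] at h1
  push_cast at h1
  omega

/-- If the vectors `4 e_i ± 4 e_j`, `i`, `j` in a set of at least three points, are eigenvectors, then so are the `8 e_i`,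
for one eigenvalue. -/
theorem eigen {h : Co0} {T : Finset GolayPt} (hT : 3 ≤ T.card)
    (H : ∀ i ∈ T, ∀ j ∈ T, i ≠ j → ∀ (s : ℤ) (hs : s = 1 ∨ s = -1), h • pv i j s hs = pv i j s hs ∨ h • pv i j s hs = -pv i j s hs) :
    (∀ i ∈ T, h • e8 i = e8 i) ∨ (∀ i ∈ T, h • e8 i = -e8 i) := by
  have h1 : ∀ i ∈ T, ∀ j ∈ T, i ≠ j → (h • e8 i = e8 i ∨ h • e8 i = -e8 i) ∨ (h • e8 i = e8 j ∨ h • e8 i = -e8 j) := by
    intro i hi j hj hij
    have h2 : pv i j 1 (Or.inl rfl) - pv i j (-1) (Or.inr rfl) = e8 j := by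
      apply two_inj
      rw [nsmul_sub, ← two_pv, ← two_pv', two_smul]
      abel
    rw [← pv_add i j, Co0Mono.smul_add]
    rcases H i hi j hj hij 1 (Or.inl rfl) with h3 | h3 <;>
      rcases H i hi j hj hij (-1) (Or.inr rfl) with h4 | h4 <;> rw [h3, h4]
    · exact Or.inl (Or.inl rfl)
    · right; left
      rw [← sub_eq_add_neg, h2]
    · right; right
      rw [← h2]; abel
    · left; right
      abel
  have h2 : ∀ i ∈ T, h • e8 i = e8 i ∨ h • e8 i = -e8 i := by
    intro i hi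
    by_contra hcon
    obtain ⟨j, hj, hji⟩ := Finset.exists_mem_ne (s := T) (by omega) i
    have h3 : 1 < (T.erase i).card := by rw [Finset.card_erase_of_mem hi]; omega
    obtain ⟨k, hk, hkj⟩ := Finset.exists_mem_ne h3 j
    have h4 := (h1 i hi j hj hji.symm).resolve_left hcon
    have h5 := (h1 i hi k (Finset.mem_of_mem_erase hk) (Finset.ne_of_mem_erase hk).symm).resolve_left hcon
    rcases h4 with h4 | h4 <;> rcases h5 with h5 | h5 <;> rw [h4] at h5
    · exact hkj (e8_inj h5).symm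
    · exact e8_ne_neg _ _ h5
    · exact e8_ne_neg _ _ h5.symm
    · exact hkj (e8_inj (neg_inj.1 h5)).symm
  by_contra hcon
  push Not at hcon
  obtain ⟨⟨i, hi, hi'⟩, ⟨j, hj, hj'⟩⟩ := hcon
  have h3 := (h2 i hi).resolve_left hi'
  have h4 := (h2 j hj).resolve_right hj'
  have hij : i ≠ j := by
    rintro rfl
    exact hi' h4
  have h5 := H i hi j hj hij 1 (Or.inl rfl)
  have h6 : 2 • (h • pv i j 1 (Or.inl rfl)) = -e8 i + e8 j := by
    rw [← smul_nsmul, ← two_pv, Co0Mono.smul_add, h3, h4]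
  rcases h5 with h5 | h5 <;> rw [h5] at h6
  · rw [← two_pv] at h6
    exact e8_ne_neg i i (add_right_cancel h6)
  · rw [_root_.smul_neg, ← two_pv, neg_add] at h6
    exact e8_ne_neg j j (add_left_cancel h6).symm

/-- alternative for two involutions of trace 8 -/
theorem half {h f : Co0} (hh : IsOct h) (hf : IsOct f) {x : leechLattice}
    (hn : sqNorm (x : GolayPt → ℤ) = 32) (hfx : f • x = -(h • x)) :
    (h • x = x ∨ h • x = -x) ∨ (sqNorm ((x - h • x : leechLattice) : GolayPt → ℤ) = 64 ∧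
      sqNorm ((x + h • x : leechLattice) : GolayPt → ℤ) = 64) := by
  have h1 := norm_oct hh x
  have h2 := norm_oct hf x
  rw [hfx, ← sub_eq_add_neg] at h2
  have h3 := par x (h • x)
  rw [Co0Mono.sqNorm_smul, hn] at h3
  rcases h1 with h1 | h1
  · left; right
    exact eq_neg_of_add_eq_zero_right h1
  rcases h2 with h2 | h2
  · left; left
    exact (sub_eq_zero.1 h2).symm
  · right
    constructor <;> linarith

/-- **(I)** -/
theorem exists_common {g h : Co0} (hg : IsOct g) (hh : IsOct h) (hgh : IsOct (g * h)) (hc : g * h = h * g) :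
    ∃ v : leechLattice, sqNorm (v : GolayPt → ℤ) = 64 ∧ g • v = -v ∧ h • v = -v := by
  obtain ⟨k, c, hwt, hk⟩ := oct_exists hg
  suffices H : ∃ v : leechLattice, sqNorm (v : GolayPt → ℤ) = 64 ∧ (k * g * k⁻¹) • v = -v ∧ (k * h * k⁻¹) • v = -v by
    obtain ⟨v, h1, h2, h3⟩ := H
    refine ⟨k⁻¹ • v, by rw [Co0Mono.sqNorm_smul, h1], ?_, ?_⟩
    · rw [mul_smul, mul_smul] at h2
      have h4 := congrArg (fun u : leechLattice => k⁻¹ • u) h2
      simp only [inv_smul_smul, Co0Mono.smul_neg] at h4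
      exact h4
    · rw [mul_smul, mul_smul] at h3
      have h4 := congrArg (fun u : leechLattice => k⁻¹ • u) h3
      simp only [inv_smul_smul, Co0Mono.smul_neg] at h4
      exact h4
  have hg' := oct_conj hg k
  have hh' := oct_conj hh k
  have hgh' := oct_conj hgh k
  have hc' : (k * g * k⁻¹) * (k * h * k⁻¹) = (k * h * k⁻¹) * (k * g * k⁻¹) := by
    calc (k * g * k⁻¹) * (k * h * k⁻¹) = k * (g * h) * k⁻¹ := by group
      _ = k * (h * g) * k⁻¹ := by rw [hc]
      _ = _ := by group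
  rw [show k * (g * h) * k⁻¹ = (k * g * k⁻¹) * (k * h * k⁻¹) by group] at hgh'
  rw [hk] at hg' hgh' hc' ⊢
  obtain ⟨h', hh'e⟩ : ∃ h', h' = k * h * k⁻¹ := ⟨_, rfl⟩
  rw [← hh'e] at hh' hgh' hc' ⊢
  clear hh'e hgh hc hh hg hk
  have hpv : ∀ i ∈ sup c, ∀ j ∈ sup c, i ≠ j → ∀ (s : ℤ) (hs : s = 1 ∨ s = -1),
      signCo0 c • pv i j s hs = -pv i j s hs := by
    intro i hi j hj hij s hs
    apply two_inj
    rw [← smul_nsmul, _root_.smul_neg]
    rcases hs with rfl | rfl
    · rw [← two_pv, Co0Mono.smul_add, sign_e8, sign_e8, if_pos hi, if_pos hj]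
      abel
    · rw [← two_pv', Co0Mono.smul_sub, sign_e8, sign_e8, if_pos hi, if_pos hj]
      abel
  by_contra hcon
  have key : ∀ i ∈ sup c, ∀ j ∈ sup c, i ≠ j → ∀ (s : ℤ) (hs : s = 1 ∨ s = -1),
      h' • pv i j s hs = pv i j s hs ∨ h' • pv i j s hs = -pv i j s hs := by
    intro i hi j hj hij s hs
    have h1 := hpv i hi j hj hij s hs
    have h2 : (signCo0 c * h') • pv i j s hs = -(h' • pv i j s hs) := by
      rw [hc', mul_smul, h1, Co0Mono.smul_neg]
    rcases half hh' hgh' (sqNorm_pv i j hij s hs) h2 with h3 | ⟨h3, -⟩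
    · exact h3
    · exfalso
      apply hcon
      refine ⟨_, h3, ?_, ?_⟩
      · rw [Co0Mono.smul_sub, h1, ← mul_smul, h2]
        abel
      · rw [Co0Mono.smul_sub, ← mul_smul, oct_sq hh', one_smul]
        abel
  have h8 : 3 ≤ (sup c).card := by
    unfold wt at hwt
    omega
  obtain ⟨i, hi⟩ : (sup c).Nonempty := by
    rw [← Finset.card_pos]
    omega
  -- a sign change on the same octad
  have hsub : ∀ d : golayCode, wt d = 8 → (∀ j ∈ sup c, j ∈ sup d) → d = c := by
    intro d hd hsub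
    apply sup_inj
    symm
    apply Finset.eq_of_subset_of_card_le hsub
    have h1 : (sup d).card = 8 := hd
    have h2 : (sup c).card = 8 := hwt
    omega
  rcases eigen h8 key with h1 | h1
  · have h2 : ∀ j ∈ sup c, (signCo0 c * h') • e8 j = -e8 j := by
      intro j hj
      rw [mul_smul, h1 j hj, sign_e8, if_pos hj]
    obtain ⟨d, hd, -, hde⟩ := eq_sign hgh' (h2 i hi)
    have h3 : d = c := hsub d hd fun j hj => mem_of_neg (by rw [← hde]; exact h2 j hj)
    rw [h3] at hde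
    exact oct_ne hh' (mul_eq_left.1 hde)
  · obtain ⟨d, hd, -, hde⟩ := eq_sign hh' (h1 i hi)
    have h3 : d = c := hsub d hd fun j hj => mem_of_neg (by rw [← hde]; exact h1 j hj)
    rw [hde, h3, signCo0_mul_self] at hgh'
    exact oct_ne hgh' rfl

end Cfsg.Agent.H109.EOne
end

-- part: H109/EOneB
section
/-!
# The sextet of the case E1 (helper109, S2198 E1)

`exists_sextet` : five commuting involutions `h i` of trace 8, with product `-1`, products of two of them of trace 8, are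
simultaneously conjugate to the sign changes on the octads `T ∪ T i` of a sextet.
-/

set_option autoImplicit false

namespace Cfsg.Agent.H109.EOne

open Cfsg Cfsg.Agent.SporadicA Cfsg.Agent.CoOneType
open Cfsg.Agent.SporadicA.Co0Mono Cfsg.Agent.SporadicA.Co1Simple Cfsg.Agent.CoOneType.SignFacts
open Cfsg.Agent.SporadicStructure.Co0Base (e8 e8_coe)
open Cfsg.Agent.CoOneType.CoOneE (sup_inj sup_add wt_add sup_mem_octads allOne_ne mem_center_iff)
open Cfsg.Agent.MonsterU.Lam2 (L2 cl cl_eq IsType)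
open Cfsg.Agent.H820.Par

/-- a vector of norm 64 with class `cl (8 e_i)` is in the cross -/
theorem mem_cross {v : leechLattice} (hv : sqNorm (v : GolayPt → ℤ) = 64) {i : GolayPt} (h : cl v = cl (e8 i)) :
    ∃ j, v = e8 j ∨ v = -e8 j := by
  obtain ⟨u, hu⟩ := cl_eq.1 h
  have h1 := mem_crossSet_of_congr v u i hv (by rw [← hu]; abel)
  rwa [mem_crossSet] at h1

/-- the vectors of norm 64 -/
theorem exists_smul_e8 {v : leechLattice} (hv : sqNorm (v : GolayPt → ℤ) = 64) :
    ∃ (k : Co0) (j : GolayPt), k • v = e8 j ∨ k • v = -e8 j := by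
  obtain ⟨k, hk⟩ := IsType.trans (n := 4) (Or.inr (Or.inr rfl)) (x := cl v) (y := cl (e8 none))
    ⟨v, by rw [hv]; norm_num, rfl⟩ ⟨e8 none, by rw [sqNorm_e8]; norm_num, rfl⟩
  exact ⟨k, mem_cross (by rw [Co0Mono.sqNorm_smul, hv]) hk⟩

theorem conj_neg {k g : Co0} {v : leechLattice} (h : g • v = -v) : (k * g * k⁻¹) • (k • v) = -(k • v) := by
  rw [← mul_smul, mul_assoc, mul_assoc, inv_mul_cancel, mul_one, mul_smul, h, Co0Mono.smul_neg]

theorem neg_neg_e8 {g : Co0} {w : leechLattice} {j : GolayPt} (hw : w = e8 j ∨ w = -e8 j) (h : g • w = -w) :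
    g • e8 j = -e8 j := by
  rcases hw with rfl | rfl
  · exact h
  · rw [Co0Mono.smul_neg] at h
    exact neg_inj.1 h

theorem n_comm (g : Co0) : signCo0 allOne * g = g * signCo0 allOne := (sign_allOne_comm g).symm

/-- no common negated vector of norm 64 -/
theorem no_common {a b : Co0} (ha : IsOct a) (hb : IsOct b) (hab : IsOct (signCo0 allOne * (a * b))) {v : leechLattice}
    (hv : sqNorm (v : GolayPt → ℤ) = 64) (hav : a • v = -v) (hbv : b • v = -v) : False := by
  obtain ⟨k, j, hk⟩ := exists_smul_e8 hv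
  have h1 := neg_neg_e8 hk (conj_neg hav)
  have h2 := neg_neg_e8 hk (conj_neg hbv)
  obtain ⟨c, hc, hjc, hce⟩ := eq_sign (oct_conj ha k) h1
  obtain ⟨d, hd, hjd, hde⟩ := eq_sign (oct_conj hb k) h2
  have h3 := oct_conj hab k
  have h4 : k * (signCo0 allOne * (a * b)) * k⁻¹ = signCo0 (allOne + (c + d)) := by
    rw [signCo0_add, signCo0_add, ← hce, ← hde]
    calc k * (signCo0 allOne * (a * b)) * k⁻¹ = (k * signCo0 allOne) * (a * b) * k⁻¹ := by group
      _ = (signCo0 allOne * k) * (a * b) * k⁻¹ := by rw [n_comm]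
      _ = _ := by group
  rw [h4] at h3
  have h5 := oct_wt h3
  have h6 := wt_add_allOne (c + d)
  rw [add_comm (c + d)] at h6
  have h7 := wt_add c d
  have h8 : 0 < (sup c ∩ sup d).card := Finset.card_pos.2 ⟨j, Finset.mem_inter.2 ⟨hjc, hjd⟩⟩
  omega

/-- a third involution -/
theorem third {h f : Co0} {c d : golayCode} (hc : wt c = 8) (hcd : wt (c + d) = 8) (hd : wt d = 8)
    (hh : IsOct h) (hf : IsOct f) (hcomm : h * signCo0 c = signCo0 c * h) (hcomm' : h * signCo0 d = signCo0 d * h)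
    (hfe : f = signCo0 allOne * (h * (signCo0 c * signCo0 d))) (hhd : IsOct (h * signCo0 d)) :
    ∀ t ∈ sup c ∩ sup d, h • e8 t = -e8 t := by
  have hT : (sup c ∩ sup d).card = 4 := by
    have := wt_add c d
    omega
  have hpv : ∀ (e : golayCode) {i j : GolayPt}, i ∈ sup e → j ∈ sup e → ∀ (s : ℤ) (hs : s = 1 ∨ s = -1),
      signCo0 e • pv i j s hs = -pv i j s hs := by
    intro e i j hi hj s hs
    apply two_inj
    rw [← smul_nsmul, _root_.smul_neg]
    rcases hs with rfl | rfl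
    · rw [← two_pv, Co0Mono.smul_add, sign_e8, sign_e8, if_pos hi, if_pos hj]
      abel
    · rw [← two_pv', Co0Mono.smul_sub, sign_e8, sign_e8, if_pos hi, if_pos hj]
      abel
  have hfx : ∀ x : leechLattice, signCo0 c • x = -x → signCo0 d • x = -x → f • x = -(h • x) := by
    intro x h1 h2
    rw [hfe, mul_smul, allOne_smul, mul_smul, mul_smul, h2, Co0Mono.smul_neg, h1, neg_neg]
  -- a common negated vector of `signCo0 c` and `f`
  have hno : ∀ v : leechLattice, sqNorm (v : GolayPt → ℤ) = 64 → signCo0 c • v = -v → f • v = -v → False := by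
    intro v hv h1 h2
    refine no_common (isOct_sign hc) hf ?_ hv h1 h2
    have h3 : signCo0 allOne * (signCo0 c * f) = h * signCo0 d := by
      rw [hfe]
      calc signCo0 allOne * (signCo0 c * (signCo0 allOne * (h * (signCo0 c * signCo0 d))))
          = signCo0 allOne * ((signCo0 c * signCo0 allOne) * (h * signCo0 c) * signCo0 d) := by group
        _ = signCo0 allOne * ((signCo0 allOne * signCo0 c) * (signCo0 c * h) * signCo0 d) := by
          rw [hcomm, ← n_comm (signCo0 c)]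
        _ = (signCo0 allOne * signCo0 allOne) * (signCo0 c * signCo0 c) * h * signCo0 d := by group
        _ = h * signCo0 d := by rw [signCo0_mul_self, signCo0_mul_self, one_mul, one_mul]
    rw [h3]
    exact hhd
  have key : ∀ i ∈ sup c ∩ sup d, ∀ j ∈ sup c ∩ sup d, i ≠ j → ∀ (s : ℤ) (hs : s = 1 ∨ s = -1),
      h • pv i j s hs = pv i j s hs ∨ h • pv i j s hs = -pv i j s hs := by
    intro i hi j hj hij s hs
    rw [Finset.mem_inter] at hi hj
    have h1 := hpv c hi.1 hj.1 s hs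
    have h2 := hpv d hi.2 hj.2 s hs
    rcases half hh hf (sqNorm_pv i j hij s hs) (hfx _ h1 h2) with h3 | ⟨-, h3⟩
    · exact h3
    exfalso
    have h4 : signCo0 c • (pv i j s hs + h • pv i j s hs) = -(pv i j s hs + h • pv i j s hs) := by
      rw [Co0Mono.smul_add, ← mul_smul, ← hcomm, mul_smul, h1, Co0Mono.smul_neg]
      abel
    have h5 : signCo0 d • (pv i j s hs + h • pv i j s hs) = -(pv i j s hs + h • pv i j s hs) := by
      rw [Co0Mono.smul_add, ← mul_smul, ← hcomm', mul_smul, h2, Co0Mono.smul_neg]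
      abel
    refine hno _ h3 h4 ?_
    rw [hfx _ h4 h5, Co0Mono.smul_add, ← mul_smul, oct_sq hh, one_smul, add_comm]
  rcases eigen (by omega) key with h1 | h1
  · exfalso
    obtain ⟨t, ht⟩ : (sup c ∩ sup d).Nonempty := by
      rw [← Finset.card_pos]
      omega
    have h2 := Finset.mem_inter.1 ht
    have h3 : signCo0 c • e8 t = -e8 t := by rw [sign_e8, if_pos h2.1]
    have h4 : signCo0 d • e8 t = -e8 t := by rw [sign_e8, if_pos h2.2]
    exact hno _ (sqNorm_e8 t) h3 (by rw [hfx _ h3 h4, h1 t ht])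
  · exact h1

/-- the hypotheses of the case E1 -/
structure Five (h : Fin 5 → Co0) : Prop where
  comm : ∀ i j, h i * h j = h j * h i
  prod : h 0 * h 1 * h 2 * h 3 * h 4 = signCo0 allOne
  oct : ∀ i, IsOct (h i)
  octt : ∀ i j, i ≠ j → IsOct (h i * h j)

theorem Five.conj {h : Fin 5 → Co0} (H : Five h) (k : Co0) : Five fun i => k * h i * k⁻¹ where
  comm i j := by
    calc (k * h i * k⁻¹) * (k * h j * k⁻¹) = k * (h i * h j) * k⁻¹ := by group
      _ = k * (h j * h i) * k⁻¹ := by rw [H.comm]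
      _ = _ := by group
  prod := by
    calc (k * h 0 * k⁻¹) * (k * h 1 * k⁻¹) * (k * h 2 * k⁻¹) * (k * h 3 * k⁻¹) * (k * h 4 * k⁻¹) =
        k * (h 0 * h 1 * h 2 * h 3 * h 4) * k⁻¹ := by group
      _ = signCo0 allOne := by rw [H.prod, ← n_comm]; group
  oct i := oct_conj (H.oct i) k
  octt i j hij := by
    rw [show (k * h i * k⁻¹) * (k * h j * k⁻¹) = k * (h i * h j) * k⁻¹ by group]
    exact oct_conj (H.octt i j hij) k

/-- `- h i h 3 h 4` for `i = 0, 1, 2` -/
theorem Five.triple {h : Fin 5 → Co0} (H : Five h) {i : Fin 5} (h3 : i ≠ 3) (h4 : i ≠ 4) :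
    IsOct (signCo0 allOne * (h i * (h 3 * h 4))) := by
  have hs : ∀ i, h i * h i = 1 := fun i => oct_sq (H.oct i)
  -- the product of the two others
  have key : ∀ a b c d e : Co0, a * a = 1 → b * b = 1 → a * b = b * a → (a * b) * (c * (d * e)) = signCo0 allOne →
      signCo0 allOne * (c * (d * e)) = a * b := by
    intro a b c d e ha hb hab h1
    have h2 : (a * b) * (a * b) = 1 := by
      calc (a * b) * (a * b) = (a * b) * (b * a) := by rw [hab]
        _ = a * (b * b) * a := by group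
        _ = 1 := by rw [hb, mul_one, ha]
    have h3 : c * (d * e) = (a * b) * signCo0 allOne := by
      rw [← h1, ← mul_assoc (a * b), h2, one_mul]
    rw [h3, ← n_comm, ← mul_assoc, signCo0_mul_self, one_mul]
  have hp := H.prod
  obtain rfl | rfl | rfl : i = 0 ∨ i = 1 ∨ i = 2 := by
    revert i
    decide
  · rw [key (h 1) (h 2) _ _ _ (hs 1) (hs 2) (H.comm 1 2) (by
      rw [← hp]
      calc (h 1 * h 2) * (h 0 * (h 3 * h 4)) = h 1 * (h 2 * h 0) * h 3 * h 4 := by group
        _ = (h 1 * h 0) * h 2 * h 3 * h 4 := by rw [H.comm 2 0]; group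
        _ = _ := by rw [H.comm 1 0])]
    exact H.octt 1 2 (by decide)
  · rw [key (h 0) (h 2) _ _ _ (hs 0) (hs 2) (H.comm 0 2) (by
      rw [← hp]
      calc (h 0 * h 2) * (h 1 * (h 3 * h 4)) = h 0 * (h 2 * h 1) * h 3 * h 4 := by group
        _ = _ := by rw [H.comm 2 1]; group)]
    exact H.octt 0 2 (by decide)
  · rw [key (h 0) (h 1) _ _ _ (hs 0) (hs 1) (H.comm 0 1) (by
      rw [← hp]
      group)]
    exact H.octt 0 1 (by decide)

/-- **The sextet.** -/
theorem Five.exists_sextet {h : Fin 5 → Co0} (H : Five h) :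
    ∃ (k : Co0) (c : Fin 5 → golayCode) (T : Finset GolayPt), T.card = 4 ∧ (∀ i, wt (c i) = 8) ∧
      (∀ i j, i ≠ j → sup (c i) ∩ sup (c j) = T) ∧ ∀ i, k * h i * k⁻¹ = signCo0 (c i) := by
  obtain ⟨v, hv, h3, h4⟩ := exists_common (H.oct 3) (H.oct 4) (H.octt 3 4 (by decide)) (H.comm 3 4)
  obtain ⟨k, j, hk⟩ := exists_smul_e8 hv
  have K := H.conj k
  have h3' := neg_neg_e8 hk (conj_neg h3)
  have h4' := neg_neg_e8 hk (conj_neg h4)
  obtain ⟨c, hc, hjc, hce⟩ := eq_sign (K.oct 3) h3'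
  obtain ⟨d, hd, hjd, hde⟩ := eq_sign (K.oct 4) h4'
  obtain ⟨g, hg⟩ : ∃ g : Fin 5 → Co0, g = fun i => k * h i * k⁻¹ := ⟨_, rfl⟩
  have hgi : ∀ i, g i = k * h i * k⁻¹ := fun i => by rw [hg]
  rw [← hg] at K
  rw [← hgi] at hce hde
  have hcd : wt (c + d) = 8 := by
    have := K.octt 3 4 (by decide)
    rw [hce, hde, ← signCo0_add] at this
    exact oct_wt this
  have hT : (sup c ∩ sup d).card = 4 := by
    have := wt_add c d
    omega
  -- all of them are sign changes
  have hneg : ∀ i, ∀ t ∈ sup c ∩ sup d, g i • e8 t = -e8 t := by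
    intro i t ht
    by_cases hi3 : i = 3
    · rw [hi3, hce, sign_e8, if_pos (Finset.mem_inter.1 ht).1]
    by_cases hi4 : i = 4
    · rw [hi4, hde, sign_e8, if_pos (Finset.mem_inter.1 ht).2]
    refine third (f := signCo0 allOne * (g i * (signCo0 c * signCo0 d))) hc hcd hd (K.oct i) ?_ ?_ ?_ rfl ?_ t ht
    · rw [← hce, ← hde]
      exact K.triple hi3 hi4
    · rw [← hce]; exact K.comm i 3
    · rw [← hde]; exact K.comm i 4
    · rw [← hde]
      exact K.octt i 4 hi4
  obtain ⟨t₀, ht₀⟩ : (sup c ∩ sup d).Nonempty := by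
    rw [← Finset.card_pos]
    omega
  have hex : ∀ i, ∃ e : golayCode, wt e = 8 ∧ g i = signCo0 e := fun i => by
    obtain ⟨e, h1, -, h2⟩ := eq_sign (K.oct i) (hneg i t₀ ht₀)
    exact ⟨e, h1, h2⟩
  choose e he8 hge using hex
  have hsub : ∀ i, sup c ∩ sup d ⊆ sup (e i) := by
    intro i t ht
    apply mem_of_neg
    rw [← hge]
    exact hneg i t ht
  refine ⟨k, e, sup c ∩ sup d, hT, he8, ?_, fun i => by rw [← hge, hgi]⟩
  intro i j hij
  symm
  apply Finset.eq_of_subset_of_card_le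
  · exact Finset.subset_inter (hsub i) (hsub j)
  · have h1 := K.octt i j hij
    rw [hge i, hge j, ← signCo0_add] at h1
    have h2 := oct_wt h1
    have h3 := wt_add (e i) (e j)
    rw [he8 i, he8 j] at h3
    omega

end Cfsg.Agent.H109.EOne
end
end

-- part: H819/LemY
section
prune_inst 0x21105000706200000018001062001c26c6000000004b800019c007420fcd8e40200106212ea0040000080ec42030006811000080020000000a000400411d00800082500232640100240006802004000000000000000000000000000000000000000000000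
set_option linter.all false
open scoped Cfsg.Agent.FastGrp

/-!
# Lemma Y of S2198 (helper819)

`y ∈ C(z)` over the sign change on an octad `O` with `y² = z`: there is an octad `d` disjoint from `O` such that, for `i, j`
not in `O`, `y` commutes with the elements of `Q` over `4 e_i + 4 e_j` iff `i ∈ d ↔ j ∈ d`; the octad `d` is adapted to
the sign changes `g` normalising `⟨y⟩ ⟨z⟩`.
-/

set_option autoImplicit false
set_option linter.unusedSimpArgs false

namespace Cfsg.Agent.H819.LemY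

open Cfsg
open Cfsg.Agent.SporadicA.Co0Mono (signCo0)
open Cfsg.Agent.CoOneType.CoOneE (pr E)
open Cfsg.Agent.CoOneType.SignFacts (sup wt wt_cases mem_sup notMem_sup wt_add_allOne)
open Cfsg.Agent.MonsterU.Lam2 (L2 cl cl_surjective bf qf bf_add_left bf_add_right bf_comm bf_self add_self
  qf_zero IsType qf_cl_eq_zero bf_cl_eq_zero bf_nondeg cl_sub cl_eq qf_add cl_two)
open Cfsg.Agent.MonsterU.CoFrameL2 (f0 cong_iff_cl pr_smul_cl)
open Cfsg.Agent.MonsterU.InvTwoLat (Cl IsEps isEps_sign exists_form_mod exists_cl even_of_four even_of_zero pr_coe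
  card_words)
open Cfsg.Agent.Leech.Basic (chi chi_mem chi_not_mem)
open Cfsg.Agent.Leech.Code (Words symmDiff_mem even_inter)
open Cfsg.Agent.MonsterU.Ch
open Cfsg.Agent.MonsterU
open Cfsg.Agent.H819.LiftLat (fix_f0 sum_mul_four)
open Cfsg.Agent.SporadicStructure.Co0Base (e8)
open Cfsg.Spor (Co1)

/-! ### Lattice facts -/

theorem dot_pr (v : leechLattice) (i j : GolayPt) :
    dotInt (v : GolayPt → ℤ) (InvTwoLat.pr i j : GolayPt → ℤ) =
      4 * ((v : GolayPt → ℤ) i + (v : GolayPt → ℤ) j) := by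
  have h : ∀ k, (v : GolayPt → ℤ) k * (InvTwoLat.pr i j : GolayPt → ℤ) k =
      (if k = i then 4 * (v : GolayPt → ℤ) i else 0) + (if k = j then 4 * (v : GolayPt → ℤ) j else 0) := by
    intro k
    rw [pr_coe]
    split_ifs with h1 h2 h2
    · subst h1; subst h2; ring
    · subst h1; ring
    · subst h2; ring
    · ring
  show ∑ k, (v : GolayPt → ℤ) k * (InvTwoLat.pr i j : GolayPt → ℤ) k = _
  rw [Finset.sum_congr rfl fun k _ => h k, Finset.sum_add_distrib, Finset.sum_ite_eq', Finset.sum_ite_eq',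
    if_pos (Finset.mem_univ _), if_pos (Finset.mem_univ _)]
  ring

theorem dot_e8 (v : leechLattice) (i : GolayPt) :
    dotInt (v : GolayPt → ℤ) (e8 i : GolayPt → ℤ) = 8 * (v : GolayPt → ℤ) i := by
  show ∑ k, (v : GolayPt → ℤ) k * (e8 i : GolayPt → ℤ) k = _
  have h : ∀ k, (v : GolayPt → ℤ) k * (e8 i : GolayPt → ℤ) k =
      if k = i then 8 * (v : GolayPt → ℤ) i else 0 := by
    intro k
    rw [CoFrame.coe_e8]
    split_ifs with h1
    · subst h1; ring
    · ring
  rw [Finset.sum_congr rfl fun k _ => h k, Finset.sum_ite_eq', if_pos (Finset.mem_univ _)]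

theorem fix_pr {c : golayCode} {i j : GolayPt} (hi : i ∉ sup c) (hj : j ∉ sup c) :
    pr (signCo0 c) • cl (InvTwoLat.pr i j) = cl (InvTwoLat.pr i j) := by
  rw [pr_smul_cl]
  congr 1
  apply Subtype.ext
  funext k
  rw [isEps_sign c (InvTwoLat.pr i j) k]
  split_ifs with hk
  · rw [pr_coe, if_neg (fun h : k = i => hi (by rw [← h]; exact hk)),
      if_neg (fun h : k = j => hj (by rw [← h]; exact hk))]; ring
  · rfl

/-- a vector with all coordinates divisible by four has a singular class -/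
theorem qf_of_four {x : leechLattice} (h : Cl (x : GolayPt → ℤ) ∅) : qf (cl x) = 0 := by
  have h4 := fun i => h.dvd i
  choose a ha using h4
  have h2 := even_of_four x a ha
  rw [qf_cl_eq_zero]
  have h1 : sqNorm (x : GolayPt → ℤ) = 16 * ∑ i, a i ^ 2 := by
    show ∑ i, (x : GolayPt → ℤ) i ^ 2 = _
    rw [Finset.mul_sum]
    exact Finset.sum_congr rfl fun i _ => by rw [ha i]; ring
  have h3 : (2 : ℤ) ∣ ∑ i, a i ^ 2 - ∑ i, a i := by
    rw [← Finset.sum_sub_distrib]
    refine Finset.dvd_sum fun i _ => ?_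
    generalize a i = t
    have : t ^ 2 - t = (t - 1) * t := by ring
    rw [this]
    have h := Int.even_mul_succ_self (t - 1)
    rw [sub_add_cancel] at h
    exact h.two_dvd
  rw [h1]
  omega

theorem bf_pr {x : leechLattice} {d : Finset GolayPt} (h : Cl (x : GolayPt → ℤ) d) (i j : GolayPt) :
    bf (cl x) (cl (InvTwoLat.pr i j)) = 0 ↔ (i ∈ d ↔ j ∈ d) := by
  rw [bf_cl_eq_zero, dot_pr]
  have hi := h i
  have hj := h j
  unfold chi at hi hj
  by_cases h1 : i ∈ d <;> by_cases h2 : j ∈ d <;> simp only [h1, h2, if_true, if_false, iff_true, iff_false,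
    not_true_eq_false, not_false_eq_true] at hi hj ⊢ <;> omega

theorem bf_f0 {x : leechLattice} {d : Finset GolayPt} (h : Cl (x : GolayPt → ℤ) d) : bf (cl x) f0 = 0 := by
  show bf (cl x) (cl (e8 none)) = 0
  rw [bf_cl_eq_zero, dot_e8]
  have hi := h none
  unfold chi at hi
  split_ifs at hi <;> omega

/-- The combinatorial part of the invariance. -/
theorem inv_oct {O F d : Finset GolayPt} (hO : O ∈ octads) (hF : F ∈ octads) (hOF : (F ∩ O).card = 4)
    (hd : d ∈ octads) (hdO : Disjoint d O) {B : Finset GolayPt} (hB : B ∈ Words)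
    (hBO : ∀ i, i ∉ O → (i ∈ B ↔ i ∈ F ∧ i ∈ d)) : Disjoint F d ∨ F \ O ⊆ d := by
  obtain ⟨hOw, hO8⟩ := hO
  obtain ⟨hFw, hF8⟩ := hF
  obtain ⟨hdw, hd8⟩ := hd
  have h1 : B \ O = F ∩ d := by
    ext i
    rw [Finset.mem_sdiff, Finset.mem_inter]
    constructor
    · rintro ⟨h2, h3⟩
      exact (hBO i h3).1 h2
    · intro h2
      have h3 : i ∉ O := Finset.disjoint_left.1 hdO h2.2
      exact ⟨(hBO i h3).2 h2, h3⟩
  have h2 : F ∩ d ⊆ F \ O := by
    intro i hi
    rw [Finset.mem_inter] at hi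
    exact Finset.mem_sdiff.2 ⟨hi.1, Finset.disjoint_left.1 hdO hi.2⟩
  have h3 : (F \ O).card = 4 := by
    have := Finset.card_sdiff_add_card_inter F O
    omega
  have h4 := Finset.card_le_card h2
  obtain ⟨k, hk⟩ := even_inter hFw hdw
  have h5 : (F ∩ d).card = 0 ∨ (F ∩ d).card = 2 ∨ (F ∩ d).card = 4 := by omega
  rcases h5 with h5 | h5 | h5
  · left
    rw [Finset.card_eq_zero] at h5
    exact Finset.disjoint_iff_inter_eq_empty.2 h5
  · exfalso
    have h6 := Finset.card_sdiff_add_card_inter B O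
    rw [h1, h5] at h6
    have h7 : (B ∩ O).card ≤ 8 := hO8 ▸ Finset.card_le_card Finset.inter_subset_right
    have h8 : B.card = 8 := by
      rcases card_words hB with h | h | h | h | h <;> omega
    have h9 := Cfsg.Agent.SporadicA.GolayBase.card_symmDiff_add B O
    rcases card_words (symmDiff_mem hB hOw) with h | h | h | h | h <;> omega
  · right
    have h6 : F ∩ d = F \ O := Finset.eq_of_subset_of_card_le h2 (by omega)
    rw [← h6]
    exact Finset.inter_subset_right

/-! ### Lemma Y -/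

variable {G : Type*} [Group G] {Q : Subgroup G} {z : G} {eta : G → L2}
  {pi : Subgroup.centralizer ({z} : Set G) →* Co1}

/-- The octad of an element `y` over the sign change on `c` with `y² = z`. -/
structure YOct (_h : Chart Q z eta pi) (c : golayCode) (y : Subgroup.centralizer ({z} : Set G))
    (d : Finset GolayPt) : Prop where
  oct : d ∈ octads
  disj : Disjoint d (sup c)
  comm : ∀ i j, i ∉ sup c → j ∉ sup c → ∀ q ∈ Q, eta q = cl (InvTwoLat.pr i j) →
    ((y : G) * q = q * y ↔ (i ∈ d ↔ j ∈ d))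
  comm_f0 : ∀ q ∈ Q, eta q = f0 → (y : G) * q = q * y
  inv : ∀ (e : golayCode) (g : Subgroup.centralizer ({z} : Set G)), wt e = 8 → (sup e ∩ sup c).card = 4 →
    pi g = pr (signCo0 e) → ((g : G) * y * (g : G)⁻¹ = y ∨ (g : G) * y * (g : G)⁻¹ = y * z) →
    Disjoint (sup e) d ∨ sup e \ sup c ⊆ d

/-- **Lemma Y.** -/
theorem exists_yOct (h : Chart Q z eta pi) {c : golayCode} (hc : wt c = 8)
    {x₀ y : Subgroup.centralizer ({z} : Set G)} (hx : pi x₀ = pr (signCo0 c)) (hx2 : (x₀ : G) * x₀ = 1)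
    (hxc : ∀ q ∈ Q, pr (signCo0 c) • eta q = eta q → (x₀ : G) * q = q * x₀)
    (hy : pi y = pr (signCo0 c)) (hyy : (y : G) * y = z) : ∃ d, YOct h c y d := by
  have hg : pr (signCo0 c) * pr (signCo0 c) = 1 := by
    rw [← map_mul, SporadicA.Co0Mono.signCo0_mul_self, map_one]
  have hOct : sup c ∈ octads := (CoOneType.CoOneE.sup_mem_octads c).2 hc
  -- `y = x₀ q`
  obtain ⟨q, hq, hyq⟩ : ∃ q ∈ Q, (y : G) = x₀ * q :=
    ⟨(x₀ : G)⁻¹ * y, h.pi_eq.1 (hx.trans hy.symm), by group⟩
  have hxz := Subgroup.mem_centralizer_singleton_iff.1 x₀.2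
  have hxi : (x₀ : G)⁻¹ = x₀ := inv_eq_of_mul_eq_one_left hx2
  have hcq := h.large.conj_mem x₀ hxz q hq
  have huf : pr (signCo0 c) • eta q = eta q := by
    apply Lam2.eq_of_add_eq_zero
    rw [← hx, ← h.eta_conj x₀ q hq, ← h.eta_mul _ hcq _ hq]
    have : (x₀ : G) * q * (x₀ : G)⁻¹ * q = y * y := by rw [hxi, hyq]; group
    rw [this, hyy, h.eta_z]
  have hxq := hxc q hq huf
  have hqu : qf (eta q) = 1 := by
    rw [← h.sq_z hq]
    calc q * q = (x₀ * x₀) * (q * q) := by rw [hx2, one_mul]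
      _ = x₀ * (x₀ * q) * q := by group
      _ = x₀ * (q * x₀) * q := by rw [hxq]
      _ = y * y := by rw [hyq]; group
      _ = z := hyy
  set u := eta q with hu
  -- commuting with `y`
  have hcomm : ∀ p ∈ Q, pr (signCo0 c) • eta p = eta p → ((y : G) * p = p * y ↔ bf u (eta p) = 0) := by
    intro p hp hpf
    rw [← h.comm_iff hq hp, hyq]
    have h1 := hxc p hp hpf
    constructor
    · intro h2
      have h3 : (x₀ : G) * (q * p) = x₀ * (p * q) := by
        calc (x₀ : G) * (q * p) = x₀ * q * p := by group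
          _ = p * x₀ * q := by rw [h2]; group
          _ = x₀ * (p * q) := by rw [← h1]; group
      exact mul_left_cancel h3
    · intro h2
      calc (x₀ : G) * q * p = x₀ * (q * p) := by group
        _ = x₀ * p * q := by rw [h2]; group
        _ = p * (x₀ * q) := by rw [h1]; group
  -- the form of Lemma X
  obtain ⟨x, hxu⟩ := cl_surjective u
  obtain ⟨r, w, d, hd, hdO, hCl⟩ := exists_form_mod hOct (isEps_sign c) x (by
    have h1 : cl x = cl (signCo0 c • x) := by rw [← pr_smul_cl, hxu, huf]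
    exact cl_eq.1 h1)
  set x' := x + (r - signCo0 c • r) + 2 • w with hx'
  have hclx : cl x' = u + (pr (signCo0 c) • cl r + cl r) := by
    rw [hx', map_add, map_add, cl_two, add_zero, hxu, cl_sub, pr_smul_cl, add_comm (cl r)]
  have hbf : ∀ v, pr (signCo0 c) • v = v → bf (cl x') v = bf u v := by
    intro v hv
    rw [hclx, bf_add_left, bf_comm (pr (signCo0 c) • cl r + cl r), LiftDual.bf_com hg, hv, add_self,
      Lam2.bf_zero_left, add_zero]
  have hqf : qf (cl x') = 1 := by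
    rw [hclx, qf_add, hqu, LiftLat.qf_comm_octad hc, LiftDual.bf_com hg, huf, add_self, Lam2.bf_zero_left,
      add_zero, add_zero]
  have hdo : d ∈ octads := by
    rcases hd with rfl | hd
    · exfalso
      rw [qf_of_four hCl] at hqf
      exact absurd hqf (by decide)
    · exact hd
  refine ⟨d, hdo, hdO, ?_, ?_, ?_⟩
  · intro i j hi hj p hp hpe
    have hf := fix_pr hi hj
    rw [hcomm p hp (by rw [hpe, hf]), hpe, ← hbf _ hf]
    exact bf_pr hCl i j
  · intro p hp hpe
    rw [hcomm p hp (by rw [hpe]; exact fix_f0 c), hpe, ← hbf _ (fix_f0 c)]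
    exact bf_f0 hCl
  · intro e g he hec hge hgy
    have hgz := Subgroup.mem_centralizer_singleton_iff.1 g.2
    have hce : pr (signCo0 c) * pr (signCo0 e) = pr (signCo0 e) * pr (signCo0 c) := by
      rw [← map_mul, ← map_mul, ← SporadicA.Co0Mono.signCo0_add, ← SporadicA.Co0Mono.signCo0_add, add_comm]
    have hge2 : pr (signCo0 e) * pr (signCo0 e) = 1 := by
      rw [← map_mul, SporadicA.Co0Mono.signCo0_mul_self, map_one]
    -- the invariance of `w_y`
    have h1 : ∀ v, pr (signCo0 c) • v = v → bf (pr (signCo0 e) • u + u) v = 0 := by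
      intro v hv
      obtain ⟨p, hp, hpv⟩ := h.eta_surj v
      have hgp := h.large.conj_mem g hgz p hp
      have h2 := hcomm p hp (by rw [hpv]; exact hv)
      have h3 : eta ((g : G) * p * (g : G)⁻¹) = pr (signCo0 e) • v := by
        rw [h.eta_conj g p hp, hge, hpv]
      have h4 := hcomm _ hgp (by
        rw [h3, smul_smul, hce, mul_smul, hv])
      have h5 : (y : G) * p = p * y ↔ (y : G) * (g * p * (g : G)⁻¹) = g * p * (g : G)⁻¹ * y := by
        have h6 : (y : G) * (g * p * (g : G)⁻¹) = g * p * (g : G)⁻¹ * y ↔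
            (g : G) * y * (g : G)⁻¹ * (g * p * (g : G)⁻¹) = g * p * (g : G)⁻¹ * (g * y * (g : G)⁻¹) := by
          rcases hgy with h7 | h7
          · rw [h7]
          · rw [h7]
            have h8 := h.large.comm_z _ hgp
            generalize (g : G) * p * (g : G)⁻¹ = t at h8 ⊢
            constructor
            · intro h9
              calc (y : G) * z * t = y * (z * t) := by group
                _ = y * t * z := by rw [← h8]; group
                _ = t * (y * z) := by rw [h9]; group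
            · intro h9
              have h10 : (y : G) * t * z = t * y * z := by
                calc (y : G) * t * z = y * (t * z) := by group
                  _ = y * z * t := by rw [h8]; group
                  _ = t * y * z := by rw [h9]; group
              exact mul_right_cancel h10
        rw [h6]
        constructor
        · intro h9
          calc (g : G) * y * (g : G)⁻¹ * (g * p * (g : G)⁻¹) = g * (y * p) * (g : G)⁻¹ := by group
            _ = g * (p * y) * (g : G)⁻¹ := by rw [h9]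
            _ = g * p * (g : G)⁻¹ * (g * y * (g : G)⁻¹) := by group
        · intro h9
          have h10 : (g : G) * (y * p) * (g : G)⁻¹ = g * (p * y) * (g : G)⁻¹ := by
            calc (g : G) * (y * p) * (g : G)⁻¹ = (g : G) * y * (g : G)⁻¹ * (g * p * (g : G)⁻¹) := by group
              _ = g * p * (g : G)⁻¹ * (g * y * (g : G)⁻¹) := h9
              _ = g * (p * y) * (g : G)⁻¹ := by group
          exact mul_left_cancel (mul_right_cancel h10)
      rw [h2, h4, h3, hpv] at h5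
      have h6 : bf (pr (signCo0 e) • u) v = bf u (pr (signCo0 e) • v) := by
        rw [← Lam2.bf_smul1 (pr (signCo0 e)) (pr (signCo0 e) • u) v, LiftDual.smul_smul_self hge2]
      rw [bf_add_left, h6]
      generalize bf u v = a at h5 ⊢
      generalize bf u (pr (signCo0 e) • v) = b at h5 ⊢
      revert a b
      decide
    obtain ⟨t, ht⟩ := LiftDual.mem_com_of_bf hg h1
    -- the same for `x'`
    obtain ⟨t', ht'⟩ : ∃ t', pr (signCo0 c) • cl t' + cl t' = pr (signCo0 e) • cl x' + cl x' := by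
      obtain ⟨t₁, rfl⟩ := cl_surjective t
      refine ⟨t₁ + (signCo0 e • r + r), ?_⟩
      rw [hclx, map_add, map_add, ← pr_smul_cl]
      simp only [smul_add]
      rw [smul_smul (pr (signCo0 c)) (pr (signCo0 e)), hce, mul_smul]
      have e1 : pr (signCo0 c) • cl t₁ + (pr (signCo0 e) • pr (signCo0 c) • cl r + pr (signCo0 c) • cl r) +
          (cl t₁ + (pr (signCo0 e) • cl r + cl r)) = (pr (signCo0 c) • cl t₁ + cl t₁) +
          (pr (signCo0 e) • pr (signCo0 c) • cl r + pr (signCo0 c) • cl r + pr (signCo0 e) • cl r + cl r) := by abel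
      rw [e1, ht]
      abel
    rw [pr_smul_cl, pr_smul_cl, ← cl_sub, ← cl_sub] at ht'
    obtain ⟨w', hw'⟩ := cl_eq.1 ht'
    have hw : ∀ i, i ∉ sup c → (w' : GolayPt → ℤ) i = if i ∈ sup e then (x' : GolayPt → ℤ) i else 0 := by
      intro i hi
      have h2 := congrArg (fun v : leechLattice => (v : GolayPt → ℤ) i) hw'
      simp only [CoFrameAct.coe_sub' (signCo0 c • t' - t') (signCo0 e • x' - x'), CoFrameAct.sign_sub_coe,
        InvTwoLat.coe_two] at h2
      rw [if_neg hi] at h2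
      split_ifs at h2 ⊢ <;> omega
    obtain ⟨j, hjc, hje⟩ : ∃ j, j ∉ sup c ∧ j ∉ sup e := by
      by_contra hn
      push Not at hn
      have h2 : (Finset.univ : Finset GolayPt) ⊆ sup c ∪ sup e := by
        intro j _
        rw [Finset.mem_union]
        by_cases h3 : j ∈ sup c
        · exact Or.inl h3
        · exact Or.inr (hn j h3)
      have h3 := Finset.card_le_card h2
      have h4 := Finset.card_union_le (sup c) (sup e)
      have h5 : (sup c).card = 8 := hc
      have h6 : (sup e).card = 8 := he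
      rw [Finset.card_univ, Cfsg.Agent.Leech.Code.card_golayPt] at h3
      omega
    obtain ⟨B, hB, hBC⟩ := exists_cl (even_of_zero (t := w') (j := j) (by rw [hw j hjc, if_neg hje]))
    apply inv_oct hOct ((CoOneType.CoOneE.sup_mem_octads e).2 he) hec hdo hdO hB
    intro i hi
    have h2 := hBC i
    rw [hw i hi] at h2
    have h3 := hCl i
    unfold chi at h2 h3
    by_cases h4 : i ∈ B <;> by_cases h5 : i ∈ sup e <;> by_cases h6 : i ∈ d <;>
      simp only [h4, h5, h6, if_true, if_false, and_true, and_false, true_and, false_and, iff_true, iff_false,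
        true_iff, false_iff, not_true_eq_false, not_false_eq_true] at h2 h3 ⊢ <;> omega

end Cfsg.Agent.H819.LemY
end
end
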